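/-
Standard L2(2^n): the chunk B0 (case beta, transfer).
-/
import Cfsg.Agent.H9.LV1

set_option autoImplicit false
set_option linter.unusedSectionVars false
set_option linter.style.haveILetI false

namespace H9.LV
open Cfsg Subgroup H18 H17.GS H17.TS
open H19 hiding eq_bot_mono
open H19.L2
open H17.FX (ex_sup ex_zp ex_J cent_bd mem_zp)
open H24.E8 (Ex relIndex_le_of_fun surj_of_fun two_mul_le' eq_of_card)
open H17.GM (mem_norm_of c2_card odd_e2)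
open H19.A5 (cj_sq)

universe u
variable {G : Type u} [Group G] [Finite G] {b c d e g h k r s t u v w x y z b' c' d' e' h' r' s' t' x' y' z' : G}
  {A B D E H K L M N P Q R S T U V W X Y Z A' B' D' N' P' R' S' T' U' Y' Z' : Subgroup G}
  {F : Type} [Field F] [Fintype F] {a : G → F}
local notation "𝐪" => Fintype.card

theorem sqC (eD : Ex D) (hx : x ∈ C(D) ⊓ Cm D V) : x * x ∈ C(V) := mem_cent.2 fun w hw => by
  have d := (mem_Cm.1 hx.2).2 w hw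
  calc w * (x * x) = (x * w * x⁻¹ * w⁻¹) * (x * w * x⁻¹ * w⁻¹) * w * x * x := by rw [eD _ d]; group
    _ = (x * w * x⁻¹ * w⁻¹) * x * w * x := by group
    _ = _ := by rw [cm hx.1 d]; group

theorem c2_cm (c : C2 W V) (l : W ≤ V) (n1 : x ∈ N(V)) (n2 : x ∈ N(W)) (hv : v ∈ V) : x * v * x⁻¹ * v⁻¹ ∈ W := by
  by_cases h : v ∈ W
  · exact comm_mem_r n2 h
  · exact c _ (conj_mem_of_norm n1 hv) _ (inv_mem hv) (mt (mem_normalizer_iff.1 n2 v).2 h) (mt inv_mem_iff.1 h)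

theorem cm_of (c : C2 W V) (hv : v ∈ V) (v0 : v ∉ W) (nD : W ≤ N(D)) (h1 : y ∈ Cm D W) (h2 : y * v * y⁻¹ * v⁻¹ ∈ D) :
    y ∈ Cm D V := ⟨h1.1, fun u hu => by
  by_cases u0 : u ∈ W
  · exact h1.2 u u0
  have hw := c u hu _ (inv_mem hv) u0 (mt inv_mem_iff.1 v0)
  have := mul_mem (h1.2 _ hw) (conj_mem_of_norm (nD hw) h2)
  convert this using 1; group⟩
theorem cm_c (n : y ∈ N(D)) (h : y ∈ C(W)) : y ∈ Cm D W := ⟨n, fun w hw => by rw [← cm h hw]; simp⟩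
theorem c_of (c : C2 W V) (hv : v ∈ V) (v0 : v ∉ W) (h1 : y ∈ C(W)) (h2 : y ∈ C[v]) : y ∈ C(V) := mem_cent.2 fun u hu => by
  by_cases u0 : u ∈ W
  · exact cm h1 u0
  have := mul_mem (le_cent1_iff.2 h1 (c u hu _ (inv_mem hv) u0 (mt inv_mem_iff.1 v0))) (mem_cent1_symm.1 h2)
  exact mem_cent1.1 (by simpa using this)

namespace Be
variable (o : Be F t M A V H T Q a)
include o
theorem nV : N(Q ⊔ zpowers t) ≤ N(V) := fun g hg => mem_norm_of fun v hv =>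
  o.om _ (conj_mem_of_norm (o.nP hg) (o.VQ hv)) (cj_sq g (o.md.exV v hv))
theorem cV : #V = 8 := o.md.cardV.trans o.q8
theorem TE : T = V ⊔ zpowers t := o.s1.T8 o.q8
theorem cT : #T = 16 := by rw [TE o, o.st.cardE, o.q8]
theorem ex (pX : H19.PG 2 X) (l : X ≤ C[g * t * g⁻¹]) : Ex X := fun x hx => by
  obtain ⟨k, -, e⟩ := o.st.back pX l
  have := o.st.exE _ ((TE o).le (e (conj_mem_cj.2 hx)))
  rwa [conj_mul, conj_eq_one_iff] at this
theorem c2P (hx : x ∈ N(Q ⊔ zpowers t)) (c : x ∈ C(V)) (e : E2 x) : x ∈ Q ⊔ zpowers t := by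
  obtain ⟨y, hy, d, hd, r⟩ := (mem_sup_of_norm (o.OP.trans (cent_le_norm _))).1 (o.ke ⟨hx, c⟩)
  rwa [r, odd_e2 e (o.q0.pP.elt hy) ((O_og _).elt hd) (cm (o.OP hd) hy) r, mul_one]
end Be

/-- case beta with a Sylow subgroup of `N(P)` -/
structure Bs (F : Type) [Field F] [Fintype F] (t : G) (M A V H T Q S : Subgroup G) (a : G → F) : Prop
    extends Be F t M A V H T Q a where
  sN : Syl 2 S N(Q ⊔ zpowers t)

namespace Bs
variable (o : Bs F t M A V H T Q S a)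
include o
theorem PS : Q ⊔ zpowers t ≤ S := o.sN.le_of_norm' le_normalizer o.q0.pP o.sN.le
theorem QS : Q ≤ S := le_sup_left.trans o.PS
theorem tS : t ∈ S := o.PS tL
theorem SQ : S ≤ N(Q) := o.sN.le.trans o.nP
theorem SV : S ≤ N(V) := o.sN.le.trans (Be.nV o.toBe)
theorem SC (hx : x ∈ S) (c : x ∈ C(V)) : x ∈ Q ⊔ zpowers t := Be.c2P o.toBe (o.sN.le hx) c (o.sN.pi.elt hx)
theorem cS : #S = 16 * #Q := by
  have n := (Be.nV o.toBe).trans (norm_le_norm_cent V)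
  have h1 := relIndex_mul_relIndex C(V) (C(V) ⊔ S) (C(V) ⊔ N(Q ⊔ zpowers t)) le_sup_left (sup_le_sup_left o.sN.le _)
  rw [relIndex_sup_of_norm n, relIndex_sup_of_norm (o.sN.le.trans n), o.ix] at h1
  have h2 : ¬ 2 ∣ (C(V) ⊔ S).relIndex (C(V) ⊔ N(Q ⊔ zpowers t)) := by
    have : (C(V) ⊔ S).relIndex (C(V) ⊔ N(Q ⊔ zpowers t)) = (C(V) ⊔ S).relIndex N(Q ⊔ zpowers t) := by
      have e1 := card_mul_relIndex (show C(V) ⊔ S ≤ C(V) ⊔ N(Q ⊔ zpowers t) from sup_le_sup_left o.sN.le _)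
      have e2 := card_inf_mul_relIndex (C(V) ⊔ S) N(Q ⊔ zpowers t)
      have e3 := card_sup_mul_inf n
      have e4 := card_sup_mul_inf (o.sN.le.trans n)
      have e5 := card_sup_mul_inf (A := C(V) ⊓ N(Q ⊔ zpowers t)) (B := S) (norms_inf (o.sN.le.trans n) (norms_of_le o.sN.le))
      rw [← sup_inf_modr (o.sN.le.trans n) o.sN.le, inf_assoc, inf_eq_right.2 o.sN.le] at e5
      refine Nat.eq_of_mul_eq_mul_left (Nat.mul_pos (Nat.mul_pos (card_pos (C(V) ⊔ S)) (card_pos (C(V) ⊓ N(Q ⊔ zpowers t))))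
        (card_pos (C(V) ⊓ S))) ?_
      calc _ = (#(C(V) ⊔ S) * (C(V) ⊔ S).relIndex (C(V) ⊔ N(Q ⊔ zpowers t))) * #(C(V) ⊓ N(Q ⊔ zpowers t)) * #(C(V) ⊓ S) := by ring
        _ = #C(V) * (#((C(V) ⊔ S) ⊓ N(Q ⊔ zpowers t)) * #(C(V) ⊓ S)) * (C(V) ⊔ S).relIndex N(Q ⊔ zpowers t) := by
          rw [e1, e3, ← e2]; ring
        _ = (#C(V) * #S) * #(C(V) ⊓ N(Q ⊔ zpowers t)) * (C(V) ⊔ S).relIndex N(Q ⊔ zpowers t) := by rw [e5]; ring
        _ = _ := by rw [← e4]; ring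
    exact this ▸ o.sN.not_dvd_relIndex Nat.prime_two le_sup_right
  obtain ⟨i, e⟩ := (o.sN.pi.relIndex C(V)).exists_pow (relIndex_ne_zero' _ _)
  have h3 := card_inf_mul_relIndex C(V) S
  rw [show C(V) ⊓ S = Q ⊔ zpowers t from le_antisymm (fun x hx => o.SC hx.2 hx.1) (le_inf o.PZ o.PS), o.q0.cardP] at h3
  have : C(V).relIndex S = 8 := by
    rw [e] at h1 ⊢
    have : i ≤ 3 := by
      by_contra! k
      have : 2 ^ 4 ∣ 168 := (pow_dvd_pow 2 k).trans ⟨_, h1.symm⟩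
      omega
    interval_cases i <;> omega
  rw [← h3, this]; ring
theorem c128 : 128 ≤ #S := by have := card_le o.VQ; rw [Be.cV o.toBe] at this; rw [o.cS]; omega
theorem St (hx : x ∈ S) (c : x ∈ C[t]) : x ∈ T := o.st.CT o.sN.pi ((Be.TE o.toBe).le.trans (o.q0.EP.trans o.PS)) hx c
theorem cjt (hx : x ∈ S) : x * t * x⁻¹ * t⁻¹ ∈ Q := by
  rw [o.st.ti']
  exact (o.q0.mP.1 (conj_mem_of_norm (o.sN.le hx) tL)).resolve_left (mt (mem_normalizer_iff.1 (o.SQ hx) t).2 o.tQ)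
theorem tr' (hx : x ∈ Q) : ∃ y ∈ S, y * t * y⁻¹ = x * t := by
  obtain ⟨y, hy, e⟩ := surj_of_fun (K := C[t]) (fun w => w * t * w⁻¹ * t⁻¹) (fun w => o.cjt)
    (fun w _ w' _ e => mem_cent1.2 (by
      calc w⁻¹ * w' * t = w⁻¹ * (w' * t * w'⁻¹ * t⁻¹) * t * w' := by group
        _ = _ := by rw [← show _ = _ from e]; group)) (by
      have h1 := card_inf_mul_relIndex C[t] S
      have h2 := card_le (show C[t] ⊓ S ≤ T from fun x hx => o.St hx.2 hx.1)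
      rw [o.cS] at h1
      rw [Be.cT o.toBe] at h2
      nlinarith) x hx
  exact ⟨y, hy, by rw [← e]; group⟩
theorem z0 : ∃ z ∈ V, z ≠ 1 ∧ z ∈ C(S) :=
  let ⟨v, hv, v1⟩ := o.md.V1
  let ⟨z, hz, z2, c⟩ := fix2 o.md.pV o.sN.pi o.SV (ne_bot_of_mem hv v1)
  ⟨z, hz, ne_one_of_ord2 z2, c⟩
theorem nc (g : G) : g * t * g⁻¹ ∉ Q := fun k => by
  obtain ⟨z, hz, z1, c⟩ := o.z0
  obtain ⟨h, -, e⟩ := o.md.tr (o.om _ k (o.st.ts g)) (H19.A5.cj_ne g o.t1) hz z1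
  rw [conj_conj'] at e
  have := o.st.bd o.sN.pi (e ▸ le_cent1_iff.2 c)
  have := o.c128
  rw [Be.cT o.toBe] at *
  omega
theorem nsq (hx : x ∈ S) : x * x * t ∉ Q := fun k => by
  obtain ⟨y, hy, e⟩ := o.tr' k
  rw [o.st.tc] at e
  have e2 : y⁻¹ * x * y * (y⁻¹ * x * y) = t := by rw [← mul_right_inj y, ← mul_left_inj y⁻¹, e]; group
  exact o.t1 (e2 ▸ o.st.exE _ ((Be.TE o.toBe).le (o.St (mul_mem (mul_mem (inv_mem hy) hx) hy)
    (mem_cent1.2 (by rw [← e2]; group)))))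
theorem sq (eD : Ex D) (hx : x ∈ S) (h : x ∈ C(D) ⊓ Cm D V) : x * x ∈ Q :=
  (o.q0.mP.1 (o.SC (mul_mem hx hx) (sqC eD h))).resolve_right (o.nsq hx)

theorem noS1 (n : Q ≠ V) (hs : g * t * g⁻¹ ∈ S) : g * t * g⁻¹ ∈ C(V) := mem_cent.2 fun v hv => by
  obtain ⟨w, hw, w0⟩ := SetLike.not_le_iff_exists.1 fun l => n (le_antisymm l o.VQ)
  have vv := o.md.exV v hv
  obtain ⟨x, hx, rfl⟩ := o.hsq o.ab o.om (i := 1) (o.VQ hv) hw (by rw [pow_one, pow_two]; exact vv)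
    (by rw [pow_one, pow_two]; exact mt (o.om w hw) w0)
  have ss := o.st.ts g
  have ex := Be.ex o.toBe (o.pQ.infl C[g * t * g⁻¹]) inf_le_right
  generalize g * t * g⁻¹ = s at *
  have hx' := conj_mem_of_norm (o.SQ hs) hx
  have c := cm' o.ab hx hx'
  have := ex (x * (s * x * s⁻¹)) ⟨mul_mem hx hx', mem_cent1.2 (comm_of_cj (by
    calc _ = s * x * s⁻¹ * (s * s * x * (s * s)⁻¹) := by group
      _ = _ := by rw [ss, c]; group)).symm⟩
  rw [mul_assoc, ← mul_assoc _ x, ← c, mul_assoc x, ← mul_assoc, conj_mul, ← vv, mul_right_inj] at this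
  exact (comm_of_cj this).symm

theorem noS2 (n : Q = V) (hs : g * t * g⁻¹ ∈ S) : g * t * g⁻¹ ∈ V ⊔ zpowers t := by_contra fun s0 => by
  subst n
  have ss := o.st.ts g
  have ex := fun X pX => Be.ex o.toBe (g := g) (X := X) pX
  have bd := fun X pX => o.st.bd (g := g) (X := X) pX
  rw [Be.cT o.toBe] at bd
  generalize g * t * g⁻¹ = s at *
  have sN := o.sN.le hs
  have sV := o.SV hs
  have eE := o.st.exE
  have cE : #(Q ⊔ zpowers t) = 16 := Be.TE o.toBe ▸ Be.cT o.toBe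
  have l1 : (Q ⊔ zpowers t) ⊓ C[s] ≤ Q ⊓ C[s] := fun x hx => ⟨(o.st.mE.1 hx.1).resolve_right fun k => s0 (by
    obtain ⟨h, hh, e⟩ := o.tr _ k
    rw [o.st.tc] at e
    have pX := (Ex.pg o.st.exE).sup (pg_zpowers (cj_sq h⁻¹ ss)) (zpowers_le' (conj_mem_of_norm (le_normalizer (inv_mem hh)) sN))
    have := o.st.CT pX ((Be.TE o.toBe).le.trans le_sup_left) tL (mem_cent1.2 (by
      have := mem_cent1.1 hx.2
      rw [← e] at this
      calc _ = h⁻¹ * (s * (h * t * h⁻¹)) * h := by group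
        _ = _ := by rw [← this]; group))
    simpa [mul_assoc] using conj_mem_of_norm hh ((Be.TE o.toBe).le this)), hx.2⟩
  have sC : s ∉ C(Q) := mt (o.SC hs) s0
  obtain ⟨v, hv, v0⟩ := SetLike.not_le_iff_exists.1 (mt le_cent1_iff.1 sC)
  have c1 := cd4 eE sN ss cE
  have c2 := two_mul_le' (inf_le_left (a := Q) (b := C[s])) hv fun k => v0 k.2
  have c3 := card_le l1
  have cV := Be.cV o.toBe
  have cW : C2 (Q ⊓ C[s]) Q := c2_card inf_le_left (by omega)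
  have hz := dlC o.md.exV sV ss hv
  have z1 : v * s * v⁻¹ * s⁻¹ ≠ 1 := fun e => v0 (mem_cent1.2 (mul_inv_eq_iff_eq_mul.1 (mul_inv_eq_one.1 e)))
  have zz := o.md.exV _ hz.1
  have sZ : s ∈ C(zpowers (v * s * v⁻¹ * s⁻¹)) := by rw [cent_zpowers]; exact mem_cent1_symm.1 hz.2
  have sv : s * v * s⁻¹ * v⁻¹ = v * s * v⁻¹ * s⁻¹ := by rw [← o.md.exV.inv hz.1]; group
  generalize v * s * v⁻¹ * s⁻¹ = z at *
  have sM : s ∈ C(zpowers z) ⊓ Cm (zpowers z) Q := ⟨sZ, cm_of cW hv (fun k => v0 k.2)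
    (inf_le_left.trans ((o.md.abV.trans (cent_le_cent1 hz.1)).trans (cent1_le_norm_zpowers z)))
    (cm_c (cent_le_norm _ sZ) (le_cent1_iff.1 inf_le_right)) (sv ▸ mem_zpowers z)⟩
  obtain ⟨z0, hz0, z01, c0⟩ := o.z0
  obtain ⟨h, hh, e⟩ := o.md.tr hz0 z01 hz.1 z1
  obtain ⟨S', s1, l2⟩ := (pg_zpowers ss).exists_syl (M := N(Q ⊔ zpowers t) ⊓ C[z]) (zpowers_le' ⟨sN, cent_zpowers z ▸ sZ⟩)
  have s2 := o.sN.Jmem (o.q0.nP0 (o.st.HN0 hh))
  have o' : Bs F t M A Q H T Q S' a := { o with sN := s2.of_card (s1.le.trans inf_le_left) (s1.card_eq (s2.inf (by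
    rw [← e, ← cj_cent1]; exact cj_mono _ (le_cent1_iff.2 c0)))) }
  have hs' := l2 (mem_zpowers s)
  have k1 : ∀ x ∈ S', x * s * x⁻¹ * s⁻¹ ∈ Q ⊔ zpowers t → x * s * x⁻¹ * s⁻¹ ∈ Q ⊓ C[s] ∧ x ∈ C(Q ⊓ C[s]) := fun x hx k => by
    obtain ⟨w, hw, r⟩ := cjQ eE sN ss cE (by omega) (by rwa [inv_eq_of_mul_eq_one_left ss] at k) (cj_sq x ss)
    refine ⟨r ▸ l1 (dlC eE sN ss hw), (mul_mem_cancel_left (inv_mem (cent_mono inf_le_left (o.st.EV hw)))).1 ?_⟩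
    exact cent_mono (inf_le_inf_right _ o'.QS) (exab (ex _ (s1.pi.infl _) inf_le_right)
      <| mem_inf.2 ⟨mul_mem (inv_mem (o'.PS hw)) hx, mem_cent1.2 (comm_of_cj (by rw [← conj_conj', ← r]; group))⟩)
  have := cent_bd (X := S') (y := s) (Y := Q ⊓ C[s]) fun x hx => (k1 x hx (by
    have xZ : x ∈ N(zpowers z) := cent1_le_norm_zpowers z (s1.le hx).2
    have hs2 := mul_mem (mul_mem hx hs') (inv_mem hx)
    have m2 := conj_mem_of_norm (norms_inf (norms_cent (zpowers_le' xZ)) (norms_Cm (zpowers_le' xZ) (zpowers_le' (o'.SV hx)))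
      (mem_zpowers x)) sM
    have c2 := (k1 _ hs2 (mem_sup_left (H24.E8.comm_mem (X := S' ⊓ (C(zpowers z) ⊓ Cm (zpowers z) Q))
      (fun y hy => o'.sq (ex_zp zz) hy.1 hy.2) ⟨hs2, m2⟩ ⟨hs', sM⟩))).2
    rcases mem_zp zz (m2.2.2 v hv) with r | r
    · exact absurd (c_of cW hv (fun k => v0 k.2) c2 (mem_cent1.2 (mul_inv_eq_iff_eq_mul.1 (mul_inv_eq_one.1 r))))
        (mt (mem_normalizer_iff.1 (norm_le_norm_cent _ (o'.SV hx)) s).2 sC)
    generalize x * s * x⁻¹ = s2 at *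
    have := o'.SC (mul_mem (inv_mem hs') hs2) (c_of cW hv (fun k => v0 k.2)
      (mul_mem (inv_mem (le_cent1_iff.1 inf_le_right)) c2) (mem_cent1.2 (by
        calc _ = s⁻¹ * (s2 * v * s2⁻¹ * v⁻¹) * v * s2 := by group
          _ = _ := by rw [r, ← sv]; group)))
    simpa [mul_assoc] using conj_mem_of_norm sN this)).1
  have h1 := bd _ (s1.pi.infl C[s]) inf_le_right
  have h2 := o'.c128
  nlinarith
theorem cl (hs : g * t * g⁻¹ ∈ S) : g * t * g⁻¹ * t ∈ Q := by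
  refine (o.q0.mP.1 ?_).resolve_left (o.nc g)
  by_cases n : Q = V
  · exact o.q0.EP (o.noS2 n hs)
  · exact o.SC hs (o.noS1 n hs)
theorem cl' (hs : g * t * g⁻¹ ∈ S) : ∃ y ∈ S, g * t * g⁻¹ = y * t * y⁻¹ :=
  let ⟨y, hy, e⟩ := o.tr' (o.cl hs); ⟨y, hy, by rw [e, o.st.tc]⟩
theorem sS : Syl 2 S ⊤ := o.st.fix o.sN.pi ((Be.TE o.toBe).le.trans (o.q0.EP.trans o.PS)) fun _ n =>
  o.cl' (conj_mem_of_norm n o.tS)

theorem exK : ∃ K, Q ≤ K ∧ K ≤ S ∧ t ∉ K ∧ ∀ x ∈ S, x * x ∈ K := by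
  obtain ⟨z, hz, z1, cz⟩ := o.z0
  have zz := o.md.exV z hz
  have cV := Be.cV o.toBe
  have cZ := card_zp zz z1
  have SZ : S ≤ C(zpowers z) := cent_zpowers z ▸ le_cent1_iff.2 cz
  obtain ⟨w, hw, w0, wN, -, wc⟩ := ela o.md.pV o.sN.pi o.SV (SZ.trans (cent_le_norm _))
    ((zpowers_le' hz).lt_of_ne fun e => by rw [e] at cZ; omega)
  have ww := o.md.exV w hw
  have cW := card_adj ww wN w0
  have WV : zpowers z ⊔ zpowers w ≤ V := sup_le (zpowers_le' hz) (zpowers_le' hw)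
  have cZW : C2 (zpowers z) (zpowers z ⊔ zpowers w) := c2_card le_sup_left (by omega)
  have SM : S ≤ Cm (zpowers z) (zpowers z ⊔ zpowers w) := fun x hx => cm_of cZW tL w0
    (zpowers_le' (le_normalizer (mem_zpowers z))) (cm_c (cent_le_norm _ (SZ hx)) (SZ hx)) (by
      simpa [mul_assoc] using inv_mem (wc x hx))
  have ZW : zpowers z ≤ zpowers z ⊔ zpowers w := le_sup_left
  generalize zpowers z ⊔ zpowers w = W at *
  have SW : S ≤ N(W) := fun x hx => H17.GM.norm_of_cmod ZW (SM hx).2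
  have cWV : C2 W V := c2_card WV (by omega)
  obtain ⟨v, hv, v0⟩ := SetLike.not_le_iff_exists.1 (show ¬ V ≤ W from fun l => by have := card_le l; omega)
  have dv : ∀ x ∈ S, x * v * x⁻¹ * v⁻¹ ∈ W := fun x hx => c2_cm cWV WV (o.SV hx) (SW hx) hv
  have m2 : ∀ x ∈ S, x * v * x⁻¹ * v⁻¹ ∈ zpowers z → x ∈ Cm (zpowers z) V := fun x hx => cm_of cWV hv v0
    (WV.trans ((o.md.abV.trans (cent_le_cent1 hz)).trans (cent1_le_norm_zpowers z))) (SM hx)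
  have c1 : C2 (S ⊓ C(W)) S := c2_four o.sN.pi SW (by omega)
  have c2 : C2 (S ⊓ Cm (zpowers z) V) S := fun x hx y hy x0 y0 => ⟨mul_mem hx hy, m2 _ (mul_mem hx hy) (by
    have := cZW _ (conj_mem_of_norm (SW hx) (dv y hy)) _ (dv x hx) (fun k => y0 ⟨hy, m2 y hy
      ((mem_normalizer_iff.1 (cent_le_norm _ (SZ hx)) _).2 k)⟩) fun k => x0 ⟨hx, m2 x hx k⟩
    convert this using 1; group)⟩
  have q1 : ∀ x ∈ S ⊓ C(W), x * x ∈ Q := fun x hx => o.sq (o.md.exV.mono WV) hx.1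
    ⟨hx.2, SW hx.1, fun u hu => c2_cm cWV WV (o.SV hx.1) (SW hx.1) hu⟩
  have q2 : ∀ x ∈ S ⊓ Cm (zpowers z) V, x * x ∈ Q := fun x hx => o.sq (ex_zp zz) hx.1 ⟨SZ hx.1, hx.2⟩
  by_cases hr : ∃ r ∈ S, r ∉ S ⊓ C(W) ∧ r ∉ S ⊓ Cm (zpowers z) V
  swap
  · push Not at hr
    exact ⟨Q, le_rfl, o.QS, o.tQ, fun x hx => (em _).elim (q1 x) fun k => q2 x (hr x hx k)⟩
  obtain ⟨r, hr, r1, r2⟩ := hr
  obtain ⟨b, hb, b0⟩ := SetLike.not_le_iff_exists.1 (show ¬ S ⊓ C(W) ≤ S ⊓ Cm (zpowers z) V from fun l => by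
    have h1 := cent_bd (X := S ⊓ C(W)) (y := v) fun x hx => (l hx).2.2 v hv
    have h2 := card_le (show S ⊓ C(W) ⊓ C[v] ≤ Q ⊔ zpowers t from fun x hx => o.SC hx.1.1 (c_of cWV hv v0 hx.1.2 hx.2))
    have h3 := c1.card
    have := card_pos Q
    rw [inf_eq_left.2 inf_le_left, o.cS] at h3
    rw [o.q0.cardP] at h2
    rw [cZ] at h1
    omega)
  have hy := c2 _ (inv_mem hb.1) r hr (mt inv_mem_iff.1 b0) r2
  have rN := o.SQ (mul_mem hr hr)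
  refine ⟨Q ⊔ zpowers (r * r), le_sup_left, sup_le o.QS (zpowers_le' (mul_mem hr hr)), fun k => ?_, fun x hx => ?_⟩
  · obtain ⟨u, hu, _, ⟨i, rfl⟩, e⟩ := (mem_sup_of_norm (zpowers_le' rN)).1 k
    refine o.nsq (zpow_mem hr i) ?_
    rw [← (Commute.refl r).mul_zpow, show (r * r) ^ i = u⁻¹ * t from eq_inv_mul_of_mul_eq e.symm, o.st.tc]
    exact inv_mem hu
  by_cases x1 : x ∈ S ⊓ C(W)
  · exact mem_sup_left (q1 x x1)
  by_cases x2 : x ∈ S ⊓ Cm (zpowers z) V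
  · exact mem_sup_left (q2 x x2)
  have d1 := c1 _ (inv_mem hr) x hx (mt inv_mem_iff.1 r1) x1
  have d2 := c2 _ (inv_mem hr) x hx (mt inv_mem_iff.1 r2) x2
  have e1 := H24.E8.comm_mem q1 d1 hb
  have e2 := H24.E8.comm_mem q2 d2 hy
  have e3 := mul_mem (conj_mem_of_norm' (o.SQ hr) (mul_mem e1 (conj_mem_of_norm (o.SQ hb.1) e2))) (q1 _ d1)
  have := mul_mem (tL (X := Q) (t := r * r)) (mem_sup_left e3)
  convert this using 1; group
theorem tM : t ∉ M := fun m => by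
  obtain ⟨K, l1, l2, t0, sq⟩ := o.exK
  have d : ∀ x ∈ S, ∀ y ∈ S, x * y * x⁻¹ * y⁻¹ ∈ K := fun _ hx _ hy => H24.E8.comm_mem sq hx hy
  refine t0 (gtr' o.sS (norms_of_der_le (commg_le_iff.2 d) l2) d o.tt (o.st.Mder m) PiN.bot bot_le o.tS fun g _ k => l1 ?_)
  simpa [mul_assoc, o.tt] using conj_mem_of_norm' o.q0.tN (o.cl k)
end Bs

theorem b0 : B0.{u} := fun {G _ _ F _ _ t M A V H T Q a} o => by
  obtain ⟨S, hS⟩ := exists_syl 2 N(Q ⊔ zpowers t)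
  have o' : Bs F t M A V H T Q S a := { o with sN := hS }
  by_cases sc : ∀ x ∈ V, ∀ g ∈ M, g * x * g⁻¹ ∈ S ⊓ M → g * x * g⁻¹ ∈ V
  · obtain ⟨v, hv, v1⟩ := o.md.V1
    refine .inl (.inl ⟨o.st.scl (o.st.sylM o'.sS) (le_inf (o.VQ.trans o'.QS) o.st.VM) o.md.abV (ne_bot_of_mem hv v1) sc ?_,
      o'.tM⟩)
    have h1 := C2.card (X := S) fun x _ y _ => o.st.c2M x trivial y trivial
    have := o'.c128
    rw [inf_comm] at h1
    omega
  push Not at sc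
  obtain ⟨x, hx, g, -, h1, h2⟩ := sc
  have xx := cj_sq g (o.md.exV x hx)
  exact .inr ⟨S, { o with
    sS := o'.sS, PS := o'.PS, SN := hS.le, tM := o'.tM, cl := fun _ => o'.cl
    ey := ⟨_, h1, fun k => h2 (o.om _ k xx), xx, g⁻¹, by simpa [mul_assoc] using hx⟩ }⟩

end H9.LV
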