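import Cfsg.Agent.H26.PSI
import Cfsg.Agent.H25.PSp4

/-! The Sylow 2-subgroups of `PSp₄(q)`, `q` odd. -/

set_option autoImplicit false
set_option linter.unusedSectionVars false

namespace H9.PX
open Cfsg Subgroup H26.PS
open H19 hiding eq_bot_mono

universe u

section
variable {G H : Type*} [Group G] [Group H] (ψ : G →* H) {j : ℕ} {z r s t : G}

theorem map_pr (t x : G) : ψ (pr t x) = pr (ψ t) (ψ x) := by simp [pr]

theorem map_Qg (r s : G) : (Qg r s).map ψ = Qg (ψ r) (ψ s) := by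
  rw [Qg, Qg, Subgroup.map_sup, MonoidHom.map_zpowers, MonoidHom.map_zpowers]

theorem map_Sg (r s t : G) : (Sg r s t).map ψ = Sg (ψ r) (ψ s) (ψ t) := by
  rw [Sg, Sg, Yg, Yg, Subgroup.map_sup, Subgroup.map_sup, MonoidHom.map_zpowers, ← map_Qg]
  congr 2
  ext x
  simp only [mem_map, mem_cj']
  exact ⟨fun ⟨_, ⟨y, hy, e⟩, e'⟩ => ⟨_, ⟨y, hy, rfl⟩, by rw [← e', ← e]; simp⟩,
    fun ⟨_, ⟨y, hy, e⟩, e'⟩ => ⟨_, ⟨y, hy, rfl⟩, by rw [← e', ← e]; simp⟩⟩

theorem sy_map (hψ : Function.Injective ψ) (h : Sy j z r s t) : Sy j (ψ z) (ψ r) (ψ s) (ψ t) where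
  rz := by rw [← map_pow, ← map_mul, h.rz]
  ss := by rw [← map_mul, h.ss]
  sr := by rw [← map_inv, ← map_mul, ← map_mul, h.sr, map_inv]
  tt := by rw [← map_mul, h.tt, map_one]
  tz := by rw [← map_mul, h.tz, map_mul]
  rr := by rw [← map_pr, ← map_mul, h.rr, map_mul]
  rs := by rw [← map_pr, ← map_mul, h.rs, map_mul]
  s2 := by rw [← map_pr, ← map_mul, h.s2, map_mul]
  z1 := fun e => h.z1 (hψ (e.trans (map_one ψ).symm))
  int := by
    rw [← map_Qg]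
    rintro _ ⟨a, ha, rfl⟩ k
    rw [← map_pr, mem_map_iff_mem hψ] at k
    exact (h.int a ha k).imp (fun e => by rw [e, map_one]) (congrArg ψ)

end

open QuaternionGroup in
theorem quat_inv {n : ℕ} [NeZero n] {x : QuaternionGroup n} (h : x * x = 1) (h1 : x ≠ 1) : x = a n := by
  have n0 : (n : ZMod (2 * n)) ≠ 0 := fun e => by
    have := Nat.le_of_dvd (NeZero.pos n) ((ZMod.natCast_eq_zero_iff _ _).1 e)
    have := NeZero.pos n
    omega
  rcases x with i | i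
  · have e : -i = i := neg_eq_of_add_eq_zero_left (a.inj h)
    rcases (ZMod.neg_eq_self_iff i).1 e with rfl | e
    · exact (h1 rfl).elim
    · rw [← ZMod.natCast_zmod_val i, show i.val = n by omega]
  · exact (n0 (by simpa using a.inj h)).elim

open QuaternionGroup in
theorem quat_gen {L : Type*} [Group L] {Q : Subgroup L} {k : ℕ} (e : Q ≃* QuaternionGroup (2 ^ (k + 1))) {m : L}
    (hm : m ∈ Q) (m1 : m ≠ 1) (mm : m * m = 1) :
    ∃ r s : L, r ^ 2 ^ k * r ^ 2 ^ k = m ∧ s * s = m ∧ s * r * s⁻¹ = r⁻¹ ∧ Qg r s = Q := by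
  let ι := Q.subtype.comp e.symm.toMonoidHom
  have e1 : ι (a (2 ^ (k + 1) : ℕ)) = m := by
    rw [← quat_inv (x := e ⟨m, hm⟩) (by rw [← map_mul, ← map_one e]; exact congrArg e (Subtype.ext mm))
      fun h => m1 (congrArg Subtype.val (e.map_eq_one_iff.1 h))]
    simp [ι]
  refine ⟨ι (a 1), ι (xa 0), ?_, ?_, ?_, ?_⟩
  · rw [← pow_add, show 2 ^ k + 2 ^ k = 2 ^ (k + 1) by omega, ← map_pow, a_one_pow, ← e1]
  · rw [← map_mul, xa_mul_xa, ← e1, add_zero, sub_zero]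
  · rw [mul_inv_eq_iff_eq_mul, eq_inv_mul_iff_mul_eq, ← map_mul, ← map_mul]
    simp
  · rw [← map_Qg, show Qg (a 1) (xa 0) = ⊤ from ?_, ← MonoidHom.range_eq_map, MonoidHom.range_comp,
      MonoidHom.range_eq_top.2 e.symm.surjective, ← MonoidHom.range_eq_map, range_subtype]
    have k : ∀ i : ZMod (2 * 2 ^ (k + 1)), a i ∈ Qg (a 1) (xa 0) := fun i => by
      rw [← ZMod.natCast_zmod_val i, ← a_one_pow]
      exact pow_mem (mem_sup_left (mem_zpowers _)) _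
    refine eq_top_iff.2 ?_
    rintro (i | i) -
    · exact k i
    · rw [show xa i = xa 0 * a i by simp]
      exact mul_mem (mem_sup_right (mem_zpowers _)) (k i)

theorem w4_sy {L G : Type*} [Group L] [Group G] [Finite G] {f : L × L →* G} {τ x : G} {m i j w r s : L} {k : ℕ}
    (H : H25.W4 f τ x m i j w) (h1 : r ^ 2 ^ k * r ^ 2 ^ k = m) (h2 : s * s = m) (h3 : s * r * s⁻¹ = r⁻¹) :
    Sy k (f (m, 1)) (f (r, 1)) (f (s, 1)) τ ∧ Sg (f (r, 1)) (f (s, 1)) τ = H.S0 (Qg r s) := by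
  have p : ∀ a b, pr τ (f (a, b)) = f (b, a) := fun a b => by rw [pr, H.tf, mul_inv_cancel_right]
  have c : ∀ a b, f (a, 1) * pr τ (f (b, 1)) = pr τ (f (b, 1)) * f (a, 1) := fun a b => by
    rw [p, H25.W4.fmul, H25.W4.fmul]; simp
  have q : Qg (f (r, 1)) (f (s, 1)) = (Qg r s).map (f.comp (MonoidHom.inl L L)) :=
    (map_Qg (f.comp (MonoidHom.inl L L)) r s).symm
  refine ⟨⟨⟨?_, ?_, ?_, H.tt, ?_, c _ _, c _ _, c _ _⟩, fun e => H.z1 (H.fm1.symm.trans e), ?_⟩, le_antisymm ?_ ?_⟩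
  · rw [← map_pow, Prod.pow_mk, H25.W4.fmul, h1]; simp
  · rw [H25.W4.fmul, h2, mul_one]
  · rw [H25.W4.finv, H25.W4.fmul, H25.W4.fmul, h3, H25.W4.finv]; simp
  · rw [H.tf, H.fm1]
  · rw [q]
    rintro _ ⟨a, -, rfl⟩ ⟨b, -, e⟩
    rcases H.feq (a := 1) (b := a) (c := b) (d := 1) ((p a 1).symm.trans e.symm) with e | e
    · exact .inl (by rw [e.2, map_one])
    · exact .inr (by rw [e.2, one_mul, MonoidHom.comp_apply, MonoidHom.inl_apply])
  · refine sup_le (sup_le ?_ fun _ k => ?_) (zpowers_le.2 H.t_mem)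
    · rw [q]
      rintro _ ⟨a, ha, rfl⟩
      exact H.f_mem ha (one_mem _)
    · obtain ⟨y, hy, rfl⟩ := mem_pr.1 k
      rw [q] at hy
      obtain ⟨a, ha, rfl⟩ := hy
      rw [MonoidHom.comp_apply, MonoidHom.inl_apply, p]
      exact H.f_mem (one_mem _) ha
  · have : ∀ a ∈ Qg r s, ∀ b ∈ Qg r s, f (a, b) ∈ Sg (f (r, 1)) (f (s, 1)) τ := fun a ha b hb => by
      rw [show f (a, b) = f (a, 1) * pr τ (f (b, 1)) by rw [p, H25.W4.fmul]; simp]
      exact YS (mY (q.ge (mem_map_of_mem _ ha)) (q.ge (mem_map_of_mem _ hb)))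
    rintro _ ⟨a, ha, b, hb, rfl | rfl⟩
    exacts [this a ha b hb, mul_mem (this a ha b hb) tS]

theorem x0 : H26.PS.X0.{u} := fun F _ _ h P => by
  have := Fact.mk Nat.prime_two
  have h2 : (2 : F) ≠ 0 := H11.two_ne_zero_of_odd_card h
  obtain ⟨τ, x, i, j, w, H⟩ := H25.exists_w4 h2
  obtain ⟨Q, hQ⟩ := (H25.isPGroup_sup_of_le_nz (P := zpowers j) (Q := zpowers i)
    (H25.isPGroup_zpowers_of_orderOf (p := 2) (k := 2) (orderOf_eq_prime_pow (p := 2) (n := 1)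
      (by simpa [pow_two, H.jj] using H.m1)
      (by rw [show 2 ^ (1 + 1) = 2 * 2 from rfl, pow_mul, pow_two, pow_two, H.jj, H.mm])))
    (H25.isPGroup_zpowers_of_orderOf H.ord_i) (zpowers_le.2 (H25.mem_nz.2 (by
      rw [H25.cj_zpowers, H.ji, mul_assoc, mul_assoc, ← H.mc, mul_inv_cancel_left, ← H.iinv,
        zpowers_inv])))).exists_le_sylow
  have hi := hQ (mem_sup_right (mem_zpowers i))
  have hj := hQ (mem_sup_left (mem_zpowers j))
  obtain ⟨k, hk, ⟨e⟩⟩ := H11.sylow_two_sl2 h2 Q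
  obtain ⟨k, rfl⟩ := Nat.exists_eq_add_of_le' hk
  obtain ⟨r, s, h1, h3, h4, h5⟩ := quat_gen e (H.ii ▸ mul_mem hi hi) H.m1 H.mm
  obtain ⟨S, hS⟩ := H.exists_sylow Q hi hj
  obtain ⟨h6, h7⟩ := w4_sy H h1 h3 h4
  obtain ⟨g, rfl⟩ := MulAction.exists_smul_eq (PSp 2 F) S P
  refine ⟨k, _, _, _, _, sy_map (MulAut.conj g).toMonoidHom (MulAut.conj g).injective h6, ?_⟩
  rw [← map_Sg, h7, h5, ← hS]
  rfl

end H9.PX
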