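import Cfsg.Agent.H9.Wr2
import Cfsg.Agent.H19.Amb6
import Cfsg.Prelude.Def_Transfer

/-! # 2-groups of sectional rank four containing `D₈ ≀ 2` -/

set_option autoImplicit false
set_option maxRecDepth 100000
set_option linter.unusedSectionVars false
set_option synthInstance.maxSize 4000
set_option synthInstance.maxHeartbeats 400000

open Equiv DihedralGroup
open Subgroup hiding map

namespace H9.WS

open H19 Cfsg H9.Wr

/-- exponents of a normal form -/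
def ex : D → ℕ × ℕ × ℕ
  | r a => (a.val % 2, a.val % 2, a.val / 2)
  | sr a => (1 - a.val % 2, a.val % 2, a.val / 2)
/-- words for the dihedral group -/
def L {M : Type*} [Monoid M] (a b : M) (x : D) : M := a ^ (ex x).1 * b ^ (ex x).2.1 * (a * b * (a * b)) ^ (ex x).2.2
/-- words for the wreath product -/
def F {M : Type*} [Monoid M] (a b t : M) (w : W) : M := L a b w.a * (t * L a b w.b * t) * t ^ w.s.toNat

theorem F_id : ∀ w, F v1 u1 tau w = w := by decide +kernel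
theorem gen : Submonoid.closure {v1, u1, tau} = ⊤ := eq_top_iff.2 fun w _ => by
  have a : v1 ∈ Submonoid.closure {v1, u1, tau} := Submonoid.subset_closure (by simp)
  have b : u1 ∈ Submonoid.closure {v1, u1, tau} := Submonoid.subset_closure (by simp)
  have t : tau ∈ Submonoid.closure {v1, u1, tau} := Submonoid.subset_closure (by simp)
  have l : ∀ x, L v1 u1 x ∈ Submonoid.closure {v1, u1, tau} := fun x =>
    mul_mem (mul_mem (pow_mem a _) (pow_mem b _)) (pow_mem (mul_mem (mul_mem a b) (mul_mem a b)) _)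
  exact F_id w ▸ mul_mem (mul_mem (l _) (mul_mem (mul_mem t (l _)) t)) (pow_mem t _)

/-- an outer automorphism of the dihedral group -/
def sg : D →* D := MonoidHom.mk' (fun x => match x with | r i => r (-i) | sr i => sr (1 - i)) (by decide)
theorem al_al : ∀ w : W, map sg (map sg w) = w := by decide +kernel
/-- a central automorphism -/
def be : W →* W := MonoidHom.ofClosureMEqTopRight (F v1 (u1 * z2) tau) gen (by decide +kernel) (by
  simp only [Set.mem_insert_iff, Set.mem_singleton_iff]; decide +kernel)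
theorem be_inj : Function.Injective be := (injective_iff_map_eq_one _).2 (by decide +kernel)

/-- the extension by the outer automorphism -/
@[ext] structure X where
  w : W
  e : Bool
instance : DecidableEq X := fun x y => decidable_of_iff (x.w = y.w ∧ x.e = y.e) X.ext_iff.symm
instance : Monoid X where
  mul x y := ⟨x.w * bif x.e then map sg y.w else y.w, xor x.e y.e⟩
  one := ⟨1, false⟩
  mul_assoc := by
    rintro ⟨a, _ | _⟩ ⟨b, _ | _⟩ ⟨c, e⟩ <;> refine X.ext ?_ (by cases e <;> rfl)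
    · exact mul_assoc _ _ _
    · exact mul_assoc _ _ _
    · exact (mul_assoc _ _ _).trans (congrArg _ (map_mul _ _ _).symm)
    · exact (mul_assoc _ _ _).trans (congrArg (a * ·) ((congrArg _ (al_al c).symm).trans (map_mul _ _ _).symm))
  one_mul x := X.ext (one_mul _) (Bool.false_xor _)
  mul_one := by
    rintro ⟨a, _ | _⟩
    exacts [X.ext (mul_one _) rfl, X.ext ((congrArg (a * ·) (map_one (map sg))).trans (mul_one _)) rfl]

theorem hom {H : Type*} [Group H] (f : W →* H) (Y : H) (h1 : ∀ w, Y * f w = f (map sg w) * Y) (h2 : Y * Y = 1)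
    (hz : f zz = 1) (hk : ∀ w, f w = 1 → w = 1 ∨ w = zz) (hY : ∀ w, f w * Y ≠ 1) :
    ∃ θ : W →* H, Function.Injective θ := by
  let Φ : X →* H := ⟨⟨fun x => f x.w * bif x.e then Y else 1, (mul_one _).trans (map_one f)⟩, by
    rintro ⟨a, _ | _⟩ ⟨b, _ | _⟩
    · show f (a * b) * 1 = f a * 1 * (f b * 1); simp
    · show f (a * b) * Y = f a * 1 * (f b * Y); simp [mul_assoc]
    · show f (a * map sg b) * Y = f a * Y * (f b * 1); simp [mul_assoc, h1]
    · show f (a * map sg b) * 1 = f a * Y * (f b * Y); rw [mul_assoc, ← mul_assoc Y, h1, mul_assoc, h2]; simp⟩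
  let th := F (M := X) ⟨tau, false⟩ ⟨⟨sr 0, sr 1, true⟩, true⟩ ⟨v2, false⟩
  have k : ∀ x y : X, x = y ∨ x = y * ⟨zz, false⟩ → Φ x = Φ y := by
    rintro x y (rfl | rfl); · rfl
    rw [map_mul, show Φ ⟨zz, false⟩ = f zz * 1 from rfl, hz, mul_one, mul_one]
  refine ⟨MonoidHom.ofClosureMEqTopRight (fun w => Φ (th w)) gen (by
    rw [← map_one Φ]; exact k _ _ (by decide +kernel)) fun x y hy => by
      rw [← map_mul]; refine k _ _ ?_
      simp only [Set.mem_insert_iff, Set.mem_singleton_iff] at hy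
      revert x y; decide +kernel, (injective_iff_map_eq_one _).2 fun w e => ?_⟩
  replace e : f (th w).w * (bif (th w).e then Y else 1) = 1 := e
  cases c : (th w).e <;> rw [c] at e
  · exact (by decide +kernel : ∀ w, (th w).e = false → (th w).w = 1 ∨ (th w).w = zz → w = 1) w c
      (hk _ ((mul_one _).symm.trans e))
  · exact absurd e (hY _)

variable {G : Type*} [Group G] [Finite G] {ψ : W →* G} {g h : G} {x y x' y' w : W} {Y : Subgroup W}

/-- conjugation -/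
def Cj (ψ : W →* G) (g : G) (x y : W) : Prop := g * ψ x * g⁻¹ = ψ y
theorem Cj.mul (a : Cj ψ g x y) (b : Cj ψ g x' y') : Cj ψ g (x * x') (y * y') := by
  unfold Cj at *; rw [map_mul, map_mul, ← a, ← b]; group
theorem Cj.pow (a : Cj ψ g x y) (n : ℕ) : Cj ψ g (x ^ n) (y ^ n) := by
  unfold Cj at *; rw [map_pow, map_pow, ← a, conj_pow]
theorem Cj.symm (a : Cj ψ g x y) : Cj ψ g⁻¹ y x := by unfold Cj at *; rw [← a]; group
theorem Cj.trans (a : Cj ψ g x y) (b : Cj ψ h y w) : Cj ψ (h * g) x w := by unfold Cj at *; rw [← b, ← a]; group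
theorem Cj.t (t x : W) : Cj ψ (ψ t) x (t * x * t⁻¹) := by simp [Cj]
theorem Cj.F {a b t : W} (ha : Cj ψ g v1 a) (hb : Cj ψ g u1 b) (ht : Cj ψ g tau t) (w : W) : Cj ψ g w (F a b t w) := by
  have l : ∀ x, Cj ψ g (L v1 u1 x) (L a b x) := fun x =>
    ((ha.pow _).mul (hb.pow _)).mul (((ha.mul hb).mul (ha.mul hb)).pow _)
  conv_lhs => rw [← F_id w]
  exact ((l _).mul ((ht.mul (l _)).mul ht)).mul (ht.pow _)
theorem norm_t {t : W} (H : ∀ w ∈ Y, t * w * t⁻¹ ∈ Y) : ψ t ∈ N(Y.map ψ) := mem_norm_of_cj_le fun _ a => by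
  obtain ⟨_, ⟨w, hw, rfl⟩, rfl⟩ := mem_cj'.1 a
  exact ⟨_, H w hw, Eq.symm (Cj.t t w)⟩
theorem ex_Cj (H : g ∈ N(Y.map ψ)) (hw : w ∈ Y) : ∃ w' ∈ Y, Cj ψ g w w' :=
  let ⟨w', h', e⟩ := conj_mem_of_norm H ⟨w, hw, rfl⟩; ⟨w', h', e.symm⟩
theorem T_norm (i : Fin 5) : ψ.range ≤ N((Q i i).map ψ) := by
  rintro _ ⟨t, rfl⟩; exact norm_t fun _ => Q_cj' t

section
variable (H : Function.Injective ψ)
include H

theorem uniq (a : Cj ψ g x y) (b : Cj ψ g x y') : y = y' := H ((show _ = _ from a).symm.trans b)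
theorem cj_mem (a : Cj ψ g x y) (n : g ∈ N(Y.map ψ)) : x ∈ Y ↔ y ∈ Y :=
  ⟨fun hx => let ⟨_, h', e⟩ := ex_Cj n hx; uniq H e a ▸ h',
    fun hy => let ⟨_, h', e⟩ := ex_Cj (inv_mem n) hy; uniq H e a.symm ▸ h'⟩
theorem S_inj {p q : Bool × Bool} (e : (E p).map ψ = (E q).map ψ) : p = q := E_inj (map_injective H e).le

theorem isE {V : Subgroup G} (l : V ≤ ψ.range) (s : ∀ v ∈ V, v ^ 2 = 1) (c : Nat.card V = 16) : ∃ q, V = (E q).map ψ := by
  have e := map_comap_eq_self l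
  obtain ⟨q, hq⟩ := e16 (Y := V.comap ψ) (fun x hx => H (by rw [← sq, map_pow, s _ hx, map_one]))
    (by rw [← card_map_of_injective H, e, c])
  exact ⟨q, by rw [← e, hq]⟩

theorem cjE (n : g ∈ N(ψ.range)) (p : Bool × Bool) : ∃ q, H19.cj g ((E p).map ψ) = (E q).map ψ :=
  isE H (cj_le_of_mem_norm n (map_le_range _ _)) (fun _ a => by
    obtain ⟨_, ⟨w, hw, rfl⟩, rfl⟩ := mem_cj'.1 a
    rw [conj_pow, ← map_pow, sq, E_sq p w hw]; simp) (by rw [card_cj, card_map_of_injective H, card_E])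

theorem diag {q : Bool × Bool} (n : ψ tau ∈ N((E q).map ψ)) : ∃ b, q = (b, b) :=
  ⟨q.1, Prod.ext rfl (congrArg Prod.fst (E_inj (p := (q.2, q.1)) (q := q) fun w hw => by
    have := (cj_mem H (.t tau (tau * w * tau⁻¹)) n).1 (Q_tau hw)
    rwa [(by decide +kernel : ∀ w : W, tau * (tau * w * tau⁻¹) * tau⁻¹ = w)] at this))⟩

theorem cjD (n : g ∈ N(ψ.range)) (b : Bool) : ∃ c, H19.cj g ((E (b, b)).map ψ) = (E (c, c)).map ψ := by
  obtain ⟨q, hq⟩ := cjE H n (b, b)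
  obtain ⟨c, rfl⟩ := diag H (q := q) (by
    rw [← hq, ← cj_norm]; exact ((mem_norm_iff_cj.1 n).ge.trans (cj_mono _ (T_norm _))) ⟨_, rfl⟩)
  exact ⟨c, hq⟩

theorem cardP : Nat.card ψ.range = 128 := by
  rw [← Nat.card_congr (MonoidHom.ofInjective H).toEquiv, card_Wr, DihedralGroup.nat_card]

theorem rank5 (hr : SectionalPRankLE 2 4 G) (n : ∀ p, g ∈ N((E p).map ψ)) (s : g * g ∈ ψ.range) : g ∈ ψ.range := by
  by_contra hg
  have nZ : g ∈ N((Q 2 2).map ψ) := by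
    rw [show Q 2 2 = E (false, false) ⊓ E (true, true) from SetLike.ext (by simp only [mem_inf]; decide +kernel), map_inf _ _ _ H]
    exact zpowers_le.1 (norms_inf (zpowers_le.2 (n _)) (zpowers_le.2 (n _)))
  have k0 : ∀ p q, q ≠ bar p → q ≠ p → ∀ w ∈ E p, w ∈ E q → ∃ c ∈ Q 2 2, Cj ψ g w (w * c) := fun p q h1 h2 w a b => by
    obtain ⟨w', a', e⟩ := ex_Cj (n p) a
    exact ⟨w⁻¹ * w', (by decide +kernel : ∀ p q, q ≠ bar p → q ≠ p → ∀ w ∈ E p, w ∈ E q → ∀ w' ∈ E p, w' ∈ E q →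
      (w ∈ Q 2 2 ↔ w' ∈ Q 2 2) → w⁻¹ * w' ∈ Q 2 2) p q h1 h2 w a b w' a' ((cj_mem H e (n q)).1 b) (cj_mem H e nZ),
      by simpa using e⟩
  have cZ : ∀ c ∈ Q 2 2, ∀ w ∈ Q 3 3, w * c = c * w := by decide +kernel
  have lZ : ∀ c ∈ Q 2 2, c ∈ Q 3 3 := fun c h => ⟨h.1, rfl, rfl⟩
  have km : ∀ {w w'}, w' ∈ Q 3 3 → (∃ c ∈ Q 2 2, Cj ψ g w (w * c)) → (∃ c ∈ Q 2 2, Cj ψ g w' (w' * c)) →
      ∃ c ∈ Q 2 2, Cj ψ g (w * w') (w * w' * c) := fun {w w'} m ⟨c, a, e⟩ ⟨d, b, e'⟩ =>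
    ⟨c * d, mul_mem a b, by simpa only [mul_assoc, ← mul_assoc c, ← cZ c a w' m] using e.mul e'⟩
  have k : ∀ w ∈ Q 3 3, ∃ c ∈ Q 2 2, Cj ψ g w (w * c) := by
    rintro ⟨a, b, _⟩ ⟨rfl, -⟩
    have d : ∀ x : D, ∃ a b, mb 0 a ∧ mb 1 b ∧ x = a * b := by decide +kernel
    obtain ⟨a, c, h1, h2, rfl⟩ := d a
    obtain ⟨b, d, h3, h4, rfl⟩ := d b
    rw [show (⟨a * c, b * d, false⟩ : W) = el a 1 * el c 1 * el 1 b * el 1 d by simp [mul_f]]
    exact km ⟨rfl, rfl, rfl⟩ (km ⟨rfl, rfl, rfl⟩ (km ⟨rfl, rfl, rfl⟩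
      (k0 (false, false) (false, true) (by decide) (by decide) _ ⟨rfl, h1, rfl⟩ ⟨rfl, h1, rfl⟩)
      (k0 (true, false) (true, true) (by decide) (by decide) _ ⟨rfl, h2, rfl⟩ ⟨rfl, h2, rfl⟩))
      (k0 (false, false) (true, false) (by decide) (by decide) _ ⟨rfl, rfl, h3⟩ ⟨rfl, rfl, h3⟩))
      (k0 (false, true) (true, true) (by decide) (by decide) _ ⟨rfl, rfl, h4⟩ ⟨rfl, rfl, h4⟩)
  have sq : ∀ w ∈ Q 3 3, ∀ c ∈ Q 2 2, w * c * (w * c) = w * w ∧ w * w ∈ Q 2 2 ∧ w * c * c = w := by decide +kernel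
  have kz : ∀ c ∈ Q 2 2, Cj ψ g c c := fun c hc => by
    obtain ⟨w, hw, rfl⟩ := (by decide +kernel : ∀ c ∈ Q 2 2, ∃ w ∈ Q 3 3, c = w * w) c hc
    obtain ⟨d, hd, e⟩ := k w hw
    simpa only [(sq w hw d hd).1] using e.mul e
  obtain ⟨p, hp⟩ := s
  have pZ : p ∈ Q 2 2 := (by decide +kernel : ∀ p : W, (∀ w ∈ [v1, u1, v2, u2], p * w * p⁻¹ = w) → p ∈ Q 2 2) p fun w hw => by
    have m : w ∈ Q 3 3 := by revert w; decide
    obtain ⟨c, hc, e⟩ := k w m
    have := e.trans (e.mul (kz c hc))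
    rw [(sq w m c hc).2.2, ← hp] at this
    exact uniq H (.t p w) this
  have nJ : zpowers g ≤ N((Q 3 3).map ψ) := zpowers_le.2 (mem_norm_of_cj_le fun _ a => by
    obtain ⟨_, ⟨w, hw, rfl⟩, rfl⟩ := mem_cj'.1 a
    obtain ⟨c, hc, e⟩ := k w hw
    exact ⟨_, mul_mem hw (lZ c hc), Eq.symm e⟩)
  have l : (Q 2 2).map ψ ≤ (Q 3 3).map ψ ⊔ zpowers g := (map_mono lZ).trans le_sup_left
  have nn : (Q 2 2).map ψ ⊴ (Q 3 3).map ψ ⊔ zpowers g :=
    ⟨l, sup_le ((map_le_range _ _).trans (T_norm 2)) (zpowers_le.2 nZ)⟩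
  have := nn.subgroupOf
  have e2 : ∀ a : ↥((Q 3 3).map ψ ⊔ zpowers g) ⧸ ((Q 2 2).map ψ).subgroupOf _, a ^ 2 = 1 := by
    rintro ⟨x, hx⟩
    obtain ⟨_, ⟨w, hw, rfl⟩, _, ⟨m, rfl⟩, rfl⟩ := (mem_sup_of_norm nJ).1 hx
    refine (QuotientGroup.eq_one_iff (_ ^ 2)).2 (mem_subgroupOf.2 ?_)
    show (ψ w * g ^ m) ^ 2 ∈ _
    have pm : ∀ j : ℤ, ∃ d ∈ Q 2 2, g ^ (2 * j) = ψ d := fun j =>
      ⟨p ^ j, zpow_mem pZ j, by rw [zpow_mul, zpow_two, ← hp, map_zpow]⟩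
    rcases Int.even_or_odd' m with ⟨j, rfl | rfl⟩ <;> obtain ⟨d, hd, e⟩ := pm j
    · rw [e, ← map_mul, ← map_pow, pow_two, (sq w hw d hd).1]; exact ⟨_, (sq w hw d hd).2.1, rfl⟩
    · obtain ⟨c, hc, e'⟩ := k _ (mul_mem hw (lZ d hd))
      rw [zpow_add_one, e, ← mul_assoc, ← map_mul, pow_two,
        show ∀ a : G, a * g * (a * g) = a * (g * a * g⁻¹) * (g * g) from fun a => by group, e', ← hp, ← map_mul, ← map_mul,
        ← mul_assoc]
      exact ⟨_, mul_mem (mul_mem (sq _ (mul_mem hw (lZ d hd)) d hd).2.1 hc) pZ, rfl⟩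
  have c1 := hr _ (((Q 2 2).map ψ).subgroupOf ((Q 3 3).map ψ ⊔ zpowers g)) ⊤ ⟨⟨fun a b => Subtype.ext (by
    have i : ∀ a : ↥((Q 3 3).map ψ ⊔ zpowers g) ⧸ ((Q 2 2).map ψ).subgroupOf _, a⁻¹ = a := fun a =>
      inv_eq_of_mul_eq_one_right (by rw [← pow_two, e2])
    show a.1 * b.1 = b.1 * a.1
    rw [← i (a.1 * b.1), mul_inv_rev, i, i])⟩⟩ fun a _ => e2 a
  have c2 := card_eq_card_quotient_mul_card_subgroup (((Q 2 2).map ψ).subgroupOf ((Q 3 3).map ψ ⊔ zpowers g))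
  have c3 := card_lt (H := (Q 3 3).map ψ) (K := (Q 3 3).map ψ ⊔ zpowers g)
    (left_lt_sup.2 fun l => hg (map_le_range _ _ (l (mem_zpowers g))))
  rw [card_top] at c1
  rw [card_subgroupOf' l, card_map_of_injective H, show Nat.card (Q 2 2) = 4 from
    (card_of _ fun _ => Iff.rfl).trans (by decide +kernel)] at c2
  rw [card_map_of_injective H, show Nat.card (Q 3 3) = 64 from (card_of _ fun _ => Iff.rfl).trans (by decide +kernel)] at c3
  omega

theorem NA (h2 : IsPGroup 2 G) (hr : SectionalPRankLE 2 4 G) (b : Bool) : N((E (b, b)).map ψ) = ψ.range := by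
  refine (le_antisymm (T_norm _) ?_).symm
  by_contra n
  have pg : ∀ K : Subgroup G, H19.PG 2 K := fun K => PiN.of_isPGroup Nat.prime_two (h2.to_subgroup K)
  obtain ⟨x, ⟨h0, h1⟩, hx⟩ := SetLike.exists_of_lt ((pg _).lt_norm (lt_of_le_not_ge (T_norm _) n))
  obtain ⟨k, hk⟩ := h2 x
  have ex : ∃ k, x ^ 2 ^ k ∈ ψ.range := ⟨k, hk ▸ one_mem _⟩
  classical
  obtain ⟨j, hj⟩ := Nat.exists_eq_succ_of_ne_zero (n := Nat.find ex) fun e => hx (by
    have := Nat.find_spec ex; rwa [e, pow_zero, pow_one] at this)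
  have s := Nat.find_spec ex
  have m := Nat.find_min ex (m := j) (by omega)
  rw [hj, pow_succ, pow_mul, sq] at s
  replace h0 : x ^ 2 ^ j ∈ N((E (b, b)).map ψ) := pow_mem h0 (2 ^ j)
  replace h1 : x ^ 2 ^ j ∈ N(ψ.range) := pow_mem h1 (2 ^ j)
  generalize x ^ 2 ^ j = g at s m h0 h1
  have hb : ∀ c, g ∈ N((E (c, c)).map ψ) := fun c => by
    obtain ⟨d, hd⟩ := cjD H h1 c
    by_cases e : d = b
    · subst e; rwa [S_inj H (cj_inj.1 (hd.trans (mem_norm_iff_cj.1 h0).symm))]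
    by_cases e' : c = b
    · exact e' ▸ h0
    · exact mem_norm_iff_cj.2 (hd.trans (by rw [(by decide : ∀ b c d : Bool, ¬ d = b → ¬ c = b → d = c) b c d e e']))
  have nd : ∀ {c q}, H19.cj g ((E (c, !c)).map ψ) = (E q).map ψ → q = (c, !c) ∨ q = (!c, c) := fun {c q} e => by
    by_contra n
    obtain ⟨d, rfl⟩ : ∃ d, q = (d, d) := by clear e; revert c q; decide
    exact absurd (S_inj H (cj_inj.1 (e.trans (mem_norm_iff_cj.1 (hb d)).symm))) (by clear e n; revert c d; decide)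
  have tt : ∀ p : Bool × Bool, H19.cj (ψ tau) ((E p).map ψ) ≤ (E (p.2, p.1)).map ψ := fun p _ a => by
    obtain ⟨_, ⟨w, hw, rfl⟩, rfl⟩ := mem_cj'.1 a
    exact ⟨_, Q_tau hw, Eq.symm (Cj.t _ w)⟩
  obtain ⟨p, hp⟩ := cjE H h1 (false, true)
  obtain ⟨q, hq⟩ := cjE H h1 (true, false)
  have pq : p ≠ q := fun e => absurd (S_inj H (cj_inj.1 (hp.trans (e ▸ hq.symm)))) (by decide)
  rcases nd (c := false) hp with rfl | rfl <;> rcases nd (c := true) hq with rfl | rfl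
  · refine m (rank5 H hr ?_ s)
    rintro ⟨_ | _, _ | _⟩
    exacts [hb _, mem_norm_iff_cj.2 hp, mem_norm_iff_cj.2 hq, hb _]
  · exact pq rfl
  · exact pq rfl
  · refine m ((mul_mem_cancel_left (⟨tau, rfl⟩ : ψ tau ∈ ψ.range)).1 (rank5 H hr ?_ ?_))
    · rintro ⟨_ | _, _ | _⟩
      · exact mul_mem (T_norm 0 ⟨_, rfl⟩) (hb _)
      · exact mem_norm_of_cj_le (by rw [cj_mul, hp]; exact tt _)
      · exact mem_norm_of_cj_le (by rw [cj_mul, hq]; exact tt _)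
      · exact mul_mem (T_norm 1 ⟨_, rfl⟩) (hb _)
    · simpa only [mul_assoc, inv_mul_cancel_left] using
        mul_mem (mul_mem (⟨tau, rfl⟩ : ψ tau ∈ ψ.range) (conj_mem_of_norm h1 ⟨tau, rfl⟩)) s

theorem swp (h2 : IsPGroup 2 G) (hr : SectionalPRankLE 2 4 G) (n : g ∈ N(ψ.range)) (m : g ∉ ψ.range) (b : Bool) :
    H19.cj g ((E (b, b)).map ψ) = (E (!b, !b)).map ψ := by
  obtain ⟨c, e⟩ := cjD H n b
  by_cases h : c = b
  · exact absurd ((NA H h2 hr b).le (mem_norm_iff_cj.2 (h ▸ e))) m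
  · rwa [show (!b) = c by clear e; revert b c; decide]

theorem mulm (h2 : IsPGroup 2 G) (hr : SectionalPRankLE 2 4 G) (n : g ∈ N(ψ.range)) (m : g ∉ ψ.range)
    (n' : h ∈ N(ψ.range)) (m' : h ∉ ψ.range) : g * h ∈ ψ.range :=
  (NA H h2 hr false).le (mem_norm_iff_cj.2 (by rw [cj_mul, swp H h2 hr n' m', swp H h2 hr n m]; rfl))

theorem key {Z : Subgroup N(ψ.range)} [Z.Normal] (hZ : ∀ x, x ∈ Z ↔ x.1 = 1 ∨ x.1 = ψ zz) (n : g ∈ N(ψ.range))
    (m : g ∉ ψ.range) (s : g * g ∈ ψ.range) (e1 : Cj ψ g v1 u1) (e2 : Cj ψ g u1 v1) (e3 : Cj ψ g tau tau) :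
    ∃ θ : W →* N(ψ.range) ⧸ Z, Function.Injective θ := by
  have e : ∀ w, Cj ψ g w (map sg w) := fun w =>
    (by decide +kernel : ∀ w, F u1 v1 tau w = map sg w) w ▸ e1.F e2 e3 w
  let f := ψ.codRestrict N(ψ.range) fun w => le_normalizer ⟨w, rfl⟩
  have k : ∀ x, QuotientGroup.mk' Z x = 1 ↔ x.1 = 1 ∨ x.1 = ψ zz := fun x => (QuotientGroup.eq_one_iff x).trans (hZ x)
  refine hom ((QuotientGroup.mk' Z).comp f) (QuotientGroup.mk' Z ⟨g, n⟩) (fun w => ?_) ?_ ((k _).2 (.inr rfl))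
    (fun w a => ((k _).1 a).imp (fun e => H (e.trans (map_one _).symm)) fun e => H e) fun w a => ?_
  · simp only [MonoidHom.comp_apply, ← map_mul]
    exact congrArg _ (Subtype.ext (mul_inv_eq_iff_eq_mul.1 (e w)))
  · obtain ⟨p, hp⟩ := s
    rw [← map_mul, k]
    rcases (by decide +kernel : ∀ p : W, (∀ w ∈ [v1, u1, tau], p * w * p⁻¹ = w) → p = 1 ∨ p = zz) p fun w _ =>
      uniq H (.t p w) (by simpa only [al_al, hp] using (e w).trans (e _)) with rfl | rfl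
    exacts [.inl (hp.symm.trans (map_one _)), .inr hp.symm]
  · rw [MonoidHom.comp_apply, ← map_mul, k] at a
    refine m ((mul_mem_cancel_left (⟨w, rfl⟩ : ψ w ∈ ψ.range)).1 ?_)
    rcases a with a | a
    exacts [(show ψ w * g = 1 from a) ▸ one_mem _, ⟨zz, a.symm⟩]

theorem emb (h2 : IsPGroup 2 G) (hr : SectionalPRankLE 2 4 G) {Z : Subgroup N(ψ.range)} [Z.Normal]
    (hZ : ∀ x, x ∈ Z ↔ x.1 = 1 ∨ x.1 = ψ zz) (n : g ∈ N(ψ.range)) (m : g ∉ ψ.range) :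
    ∃ θ : W →* N(ψ.range) ⧸ Z, Function.Injective θ := by
  have cj : ∀ {g}, g ∈ N(ψ.range) → g ∉ ψ.range → ∀ b, ∀ w ∈ E (b, b), ∃ w' ∈ E (!b, !b), Cj ψ g w w' :=
    fun n m b w hw => let ⟨w', h, e⟩ := (swp H h2 hr n m b).le (conj_mem_cj.2 ⟨w, hw, rfl⟩); ⟨w', h, e.symm⟩
  have ad : ∀ {g} t, g ∈ N(ψ.range) → g ∉ ψ.range → ψ t * g ∈ N(ψ.range) ∧ ψ t * g ∉ ψ.range := fun t n m =>
    ⟨mul_mem (le_normalizer ⟨t, rfl⟩) n, fun a => m ((mul_mem_cancel_left (⟨t, rfl⟩ : ψ t ∈ ψ.range)).1 a)⟩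
  obtain ⟨t, ht⟩ := conj_mem_of_norm n ⟨tau, rfl⟩
  replace ht : Cj ψ g tau t := ht.symm
  have nJ : g ∈ N((Q 3 3).map ψ) := by
    rw [le_antisymm J_le (sup_le (E_le _) (E_le _)), Subgroup.map_sup, mem_norm_iff_cj, cj_sup, swp H h2 hr n m,
      swp H h2 hr n m, sup_comm]; rfl
  obtain ⟨c, hc⟩ := (by decide +kernel : ∀ t ∉ Q 3 3, t * t = 1 → ∃ c, c * t * c⁻¹ = tau) t
    (fun a => absurd ((cj_mem H ht nJ).2 a) (by decide)) (uniq H (ht.mul ht) (by simp [Cj, show tau * tau = 1 from rfl]))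
  have e3 := hc ▸ ht.trans (.t c t)
  obtain ⟨n, m⟩ := ad c n m
  generalize ψ c * g = g at e3 n m
  obtain ⟨a, ha, ea⟩ := cj n m false v1 (by decide)
  obtain ⟨b, hb, eb⟩ := cj n m true u1 (by decide)
  obtain ⟨p, hp⟩ := mulm H h2 hr n m n m
  have pp : ∀ {x y z}, Cj ψ g x y → Cj ψ g y z → p * x * p⁻¹ = z := fun a b => uniq H (.t p _) (hp ▸ a.trans b)
  obtain ⟨c, hc, h⟩ := (by decide +kernel : ∀ a ∈ E (true, true), ∀ b ∈ E (false, false), a * b ≠ b * a →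
    ∀ p ∈ Finset.univ.filter fun p => p * tau * p⁻¹ = tau, p * v1 * p⁻¹ = F a b tau a → p * u1 * p⁻¹ = F a b tau b →
    ∃ c ∈ Finset.univ.filter fun p => p * tau * p⁻¹ = tau, c * a * c⁻¹ = u1 ∧ c * b * c⁻¹ = v1 ∨
      c * a * c⁻¹ = u1 * z2 ∧ c * b * c⁻¹ = v1 * z2) a ha b hb
    (fun e => absurd (uniq H (ea.mul eb).symm (e ▸ (eb.mul ea).symm)) (by decide)) p
    (Finset.mem_filter.2 ⟨Finset.mem_univ _, pp e3 e3⟩) (pp ea (ea.F eb e3 a)) (pp eb (ea.F eb e3 b))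
  replace e3 := (Finset.mem_filter.1 hc).2 ▸ e3.trans (.t c _)
  replace ea := ea.trans (.t c _)
  replace eb := eb.trans (.t c _)
  obtain ⟨n, m⟩ := ad c n m
  rcases h with ⟨h, h'⟩ | ⟨h, h'⟩ <;> rw [h] at ea <;> rw [h'] at eb
  · exact key H hZ n m (mulm H h2 hr n m n m) ea eb e3
  have rg : (ψ.comp be).range = ψ.range := by
    rw [MonoidHom.range_comp, MonoidHom.range_eq_top.2 (Finite.injective_iff_surjective.1 be_inj), ← MonoidHom.range_eq_map]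
  have s := mulm H h2 hr n m n m
  revert Z
  rw [← rg] at n m s ⊢
  intro Z _ hZ
  refine key (ψ := ψ.comp be) (H.comp be_inj) (by rwa [MonoidHom.comp_apply, show be zz = zz by decide +kernel]) n m s ?_ ?_ ?_
  · show Cj ψ _ (be v1) (be u1)
    rwa [show be v1 = v1 by decide +kernel, show be u1 = u1 * z2 by decide +kernel]
  · show Cj ψ _ (be u1) (be v1)
    have := ea.F eb e3 (u1 * z2)
    rwa [show be v1 = v1 by decide +kernel, show be u1 = u1 * z2 by decide +kernel,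
      ← show F (u1 * z2) (v1 * z2) tau (u1 * z2) = v1 by decide +kernel]
  · show Cj ψ _ (be tau) (be tau)
    rwa [show be tau = tau by decide +kernel]

end

theorem sylW (T : Sylow 2 (Perm (Fin 8))) : Nonempty (W ≃* (T : Subgroup (Perm (Fin 8)))) := by
  let j : W →* Perm (Fin 8) := (finSumFinEquiv (m := 4) (n := 4)).permCongrHom.toMonoidHom.comp (toP.comp (map dl))
  have ji : Function.Injective j := (finSumFinEquiv (m := 4) (n := 4)).permCongrHom.injective.comp (toP_inj.comp (map_inj dl_inj))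
  have c := cardP ji
  obtain ⟨S, hS⟩ := (syl_mk (P := j.range) le_top (PiN.of_card_pow Nat.prime_two (k := 7) c) (by
    have := card_mul_relIndex (le_top (a := j.range))
    rw [c, card_top, Nat.card_perm, Nat.card_fin] at this
    rw [show Nat.factorial 8 = 128 * 315 from rfl] at this
    omega)).exists_sylow_top
  exact ⟨((MonoidHom.ofInjective ji).trans (MulEquiv.subgroupCongr hS.symm)).trans (S.equiv T)⟩

theorem main (h2 : IsPGroup 2 G) (hr : SectionalPRankLE 2 4 G) (P : Subgroup G) (hPlt : P ≠ ⊤)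
    (hP : ∃ T : Sylow 2 (Perm (Fin 8)), Nonempty (P ≃* (T : Subgroup (Perm (Fin 8))))) :
    center G = (center P).map P.subtype ∧ Nat.card (center G) = 2 ∧ P.relIndex N(P) = 2 ∧
    (∃ (_ : ((center G).subgroupOf N(P)).Normal) (T : Sylow 2 (Perm (Fin 8))),
      Nonempty (N(P) ⧸ (center G).subgroupOf N(P) ≃* (T : Subgroup (Perm (Fin 8))))) ∧
    ∀ V : Subgroup G, V ≤ P → (∀ g ∈ P, ∀ v ∈ V, g * v * g⁻¹ ∈ V) → IsElementaryAbelian 2 V → Nat.card V = 16 →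
      N(V) = P := by
  obtain ⟨T, ⟨f⟩⟩ := hP
  obtain ⟨e⟩ := sylW T
  let ψ := P.subtype.comp (e.trans f.symm).toMonoidHom
  have H : Function.Injective ψ := P.subtype_injective.comp (MulEquiv.injective _)
  have rg : ψ.range = P := by
    rw [MonoidHom.range_comp, MonoidHom.range_eq_top.2 (MulEquiv.surjective _), ← MonoidHom.range_eq_map, range_subtype]
  clear_value ψ
  subst rg
  have zc : ∀ x ∈ (center ψ.range).map ψ.range.subtype, x = 1 ∨ x = ψ zz := by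
    rintro _ ⟨⟨_, w, rfl⟩, hw, rfl⟩
    rcases (by decide +kernel : ∀ p : W, (∀ w ∈ [v1, u1, tau], w * p = p * w) → p = 1 ∨ p = zz) w fun t _ =>
      H (by simpa using congrArg Subtype.val (mem_center_iff.1 hw ⟨_, t, rfl⟩)) with rfl | rfl
    exacts [.inl (map_one ψ), .inr rfl]
  have l : center G ≤ (center ψ.range).map ψ.range.subtype := fun x hx =>
    ⟨⟨x, (NA H h2 hr false).le (center_le_normalizer _ hx)⟩,
      mem_center_iff.2 fun y => Subtype.ext (mem_center_iff.1 hx y), rfl⟩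
  have z1 : ψ zz ≠ 1 := fun e => absurd (H (e.trans (map_one _).symm)) (by decide)
  have : Nontrivial G := ⟨_, _, z1⟩
  obtain ⟨⟨x, hx⟩, x1⟩ := @exists_ne _ h2.center_nontrivial 1
  obtain rfl := (zc x (l hx)).resolve_left fun e => x1 (Subtype.ext e)
  have hZ : ∀ x, x ∈ center G ↔ x = 1 ∨ x = ψ zz := fun x =>
    ⟨fun h => zc x (l h), by rintro (rfl | rfl); exacts [one_mem _, hx]⟩
  have c2 : Nat.card (center G) = 2 := by
    classical
    rw [Nat.subtype_card {1, ψ zz} fun x => by simp [hZ], Finset.card_pair z1.symm]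
  obtain ⟨g, ⟨-, n⟩, m⟩ := SetLike.exists_of_lt
    ((PiN.of_isPGroup Nat.prime_two (h2.to_subgroup ⊤)).lt_norm (lt_top_iff_ne_top.2 hPlt))
  have i2 : ψ.range.relIndex N(ψ.range) = 2 := index_eq_two_iff.2 ⟨⟨g, n⟩, fun b => by
    by_cases h : b.1 ∈ ψ.range
    · exact .inr ⟨h, fun a => m ((mul_mem_cancel_left h).1 a)⟩
    · exact .inl ⟨mulm H h2 hr b.2 h n m, h⟩⟩
  refine ⟨le_antisymm l fun x h => (hZ x).2 (zc x h), c2, i2, ⟨inferInstance, T, ?_⟩, fun V l n a c => ?_⟩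
  · obtain ⟨θ, t⟩ := emb H h2 hr (Z := (center G).subgroupOf N(ψ.range)) (fun x => hZ x) n m
    refine ⟨(MulEquiv.ofBijective θ ((Nat.bijective_iff_injective_and_card θ).2 ⟨t, ?_⟩)).symm.trans e⟩
    have c3 := card_eq_card_quotient_mul_card_subgroup ((center G).subgroupOf N(ψ.range))
    rw [card_subgroupOf' (center_le_normalizer _), c2, ← card_mul_relIndex le_normalizer, i2, cardP H] at c3
    rw [card_Wr, DihedralGroup.nat_card]; omega
  · obtain ⟨q, rfl⟩ := isE H l a.2 c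
    obtain ⟨b, rfl⟩ := diag H (q := q) (mem_norm_of_cj_le fun _ a => by
      obtain ⟨v, hv, rfl⟩ := mem_cj'.1 a; exact n _ ⟨_, rfl⟩ v hv)
    exact NA H h2 hr b

end H9.WS
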