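/-
S2198, chunks [RD0]–[RD3]: Frattini covers inside the Monster.
-/
import Cfsg.Agent.H1.PA0

set_option autoImplicit false
set_option linter.unusedSectionVars false

namespace H9.PA
open Cfsg H15 H19 H0 H0.Mo H0.Y H15.ML H15.MX Subgroup Function H1.PA
open scoped commutatorElement

theorem rd0 : RD0 := fun G _ _ A S _ ψ hψ => by
  obtain ⟨H, ⟨φ, h1⟩, h2⟩ := (wellFounded_lt (α := Subgroup G)).has_min {H | ∃ φ : H →* S, Surjective φ} ⟨A, ψ, hψ⟩
  refine ⟨H, φ, h1, le_iInf₂ fun M hM => by_contra fun n => h2 (M.map H.subtype) ⟨(φ.comp M.subtype).comp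
    (M.equivMapOfInjective _ H.subtype_injective).symm, (?_ : Surjective (φ.comp M.subtype)).comp (MulEquiv.surjective _)⟩ ?_⟩
  · rw [← MonoidHom.range_eq_top, MonoidHom.range_comp, range_subtype, ← map_comap_eq_self_of_surjective h1 (M.map φ), comap_map_eq,
      hM.2 _ (left_lt_sup.2 n), ← MonoidHom.range_eq_map, MonoidHom.range_eq_top.2 h1]
  · exact lt_of_le_of_ne (map_subtype_le M) fun e => hM.1 (map_injective H.subtype_injective (by
      rw [e, ← MonoidHom.range_eq_map, range_subtype]))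

section
variable {Γ S : Type} [Group Γ] [Finite Γ] [Group S] {φ : Γ →* S}

theorem cent_of_num {P : Subgroup Γ} {ρ : Γ} {p r : ℕ} (hp : p.Prime) (hr : r.Prime) (pr : p ≠ r) (hP : H19.PG p P)
    (n : ρ ∈ N(P)) (o : PiE {r} ρ) (h : ∀ j, 1 ≤ j → p ^ j ∣ #P → p ^ j % r ≠ 1) : ρ ∈ C(P) := by
  have := Fact.mk hr
  let _ := MulAction.compHom P (P.normalizerMonoidHom.comp (inclusion (zpowers_le.2 n)))
  have m := (piG_zpowers.2 o).isPGroup.card_modEq_card_fixedPoints P
  have e : Nat.card (MulAction.fixedPoints (zpowers ρ) P) = #(P ⊓ C[ρ]) := by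
    rw [inf_comm, ← card_subgroupOf]
    exact Nat.card_congr (Equiv.subtypeEquivRight fun x => ⟨fun k => mem_cent1.2 (mul_inv_eq_iff_eq_mul.1
      (congrArg Subtype.val (k ⟨ρ, mem_zpowers ρ⟩))).symm, fun k g => Subtype.ext (mul_inv_eq_iff_eq_mul.2
        (mem_cent1.1 (cent1_le_cent1_of_mem_zpowers g.2 k)).symm)⟩)
  obtain ⟨a, ha⟩ := hP.exists_card
  obtain ⟨b, hb⟩ := (hP.infl C[ρ]).exists_card
  have l : b ≤ a := (Nat.pow_le_pow_iff_right hp.one_lt).1 (ha ▸ hb ▸ card_le inf_le_left)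
  obtain ⟨j, rfl⟩ := Nat.exists_eq_add_of_le l
  rcases Nat.eq_zero_or_pos j with rfl | hj
  · exact le_cent1_iff.1 ((eq_of_le_of_card_eq inf_le_left (hb.trans ha.symm)).ge.trans inf_le_right)
  rw [e, ha, hb, pow_add] at m
  refine absurd ?_ (h j hj (ha ▸ pow_dvd_pow p (Nat.le_add_left _ _)))
  rw [← Nat.mod_eq_of_lt hr.one_lt]
  exact Nat.ModEq.cancel_left_of_coprime (((Nat.coprime_primes hr hp).2 pr.symm).pow_right b) (m.trans (by rw [mul_one]))

theorem top_of (h : Fra φ) {K : Subgroup Γ} (k : K.map φ = ⊤) : K = ⊤ :=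
  frattini_nongenerating (top_le_iff.1 ((by rw [← comap_map_eq, k, comap_top] : K ⊔ φ.ker = ⊤).ge.trans (sup_le_sup_left h.2 _)))

theorem card_eq (h : Fra φ) : Nat.card Γ = #φ.ker * Nat.card S := by
  rw [← φ.ker.card_mul_index, index_ker, φ.range_eq_top.2 h.1, card_top]

theorem ex_rho (h : Fra φ) {r : ℕ} (hr : r.Prime) (d : r ∣ Nat.card S) : ∃ ρ, PiE {r} ρ ∧ φ ρ ≠ 1 := by
  have := Fact.mk hr
  have := Finite.of_surjective φ h.1
  obtain ⟨s, o⟩ := exists_prime_orderOf_dvd_card' r d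
  obtain ⟨x, rfl⟩ := h.1 s
  refine ⟨_, constt_pi _ x, fun e => (constt_pi {r}ᶜ x).not_dvd hr rfl ?_⟩
  have := congrArg φ (constt_mul_compl {r} x)
  rw [map_mul, e, one_mul] at this
  exact (o.symm.trans (congrArg orderOf this.symm)).dvd.trans (orderOf_map_dvd _ _)

theorem syl_normal (h : Fra φ) {p : ℕ} {P : Subgroup Γ} (s : Syl p P φ.ker) : P.Normal :=
  normalizer_eq_top_iff.1 (frattini_nongenerating (top_le_iff.1 ((s.frattini normalIn_top).ge.trans
    (sup_le (h.2.trans le_sup_right) (inf_le_right.trans le_sup_left)))))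

/-- the elements of `X` with square in `T` -/
def sqS (X T : Subgroup Γ) (h : ⁅X, X⁆ ≤ T) : Subgroup Γ where
  carrier := {x | x ∈ X ∧ x * x ∈ T}
  one_mem' := ⟨one_mem _, by simp⟩
  mul_mem' := fun {x y} a b => ⟨mul_mem a.1 b.1, by
    convert mul_mem (mul_mem a.2 (h (commutator_mem_commutator (inv_mem a.1) b.1))) b.2 using 1
    simp [commutatorElement_def, mul_assoc]⟩
  inv_mem' := fun a => ⟨inv_mem a.1, by simpa using inv_mem a.2⟩

instance sqS_normal (X T : Subgroup Γ) (h : ⁅X, X⁆ ≤ T) [a : X.Normal] [b : T.Normal] : (sqS X T h).Normal :=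
  ⟨fun x k g => ⟨a.conj_mem x k.1 g, by rw [conj_mul]; exact b.conj_mem _ k.2 g⟩⟩

variable [IsSimpleGroup S]

theorem cen_of (h : Fra φ) {N : Subgroup Γ} [N.Normal] {ρ : Γ} (c : ρ ∈ C(N)) (n : φ ρ ≠ 1) : N ≤ center Γ :=
  centralizer_eq_top_iff_subset.1 (top_of h ((((inferInstance : C(N).Normal).map φ h.1).eq_bot_or_eq_top).resolve_left
    fun e => n (mem_bot.1 (e ▸ mem_map_of_mem φ c))))

theorem cen_num (h : Fra φ) {N : Subgroup Γ} [N.Normal] {p r : ℕ} (hp : p.Prime) (hr : r.Prime) (pr : p ≠ r) (hN : H19.PG p N)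
    (d : r ∣ Nat.card S) (k : ∀ j, 1 ≤ j → p ^ j ∣ #N → p ^ j % r ≠ 1) : N ≤ center Γ :=
  let ⟨_, a, b⟩ := ex_rho h hr d
  cen_of h (cent_of_num hp hr pr hN (normalizer_eq_top N ▸ mem_top _) a k) b

theorem cen_two (h : Fra φ) {N : Subgroup Γ} [N.Normal] (hN : H19.PG 2 N) (c : #N ≤ 2 ^ 15)
    (d : 19 ∣ Nat.card S ∨ 29 ∣ Nat.card S) : N ≤ center Γ := by
  have k : ∀ j, 2 ^ j ∣ #N → j ≤ 15 := fun j e =>
    (Nat.pow_le_pow_iff_right one_lt_two).1 ((Nat.le_of_dvd (card_pos N) e).trans c)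
  exact d.elim (fun d => cen_num h Nat.prime_two (by norm_num) (by decide) hN d fun j a b =>
    (by decide : ∀ j ≤ 15, 1 ≤ j → 2 ^ j % 19 ≠ 1) j (k j b) a) fun d => cen_num h Nat.prime_two (by norm_num) (by decide) hN d
      fun j a b => (by decide : ∀ j ≤ 15, 1 ≤ j → 2 ^ j % 29 ≠ 1) j (k j b) a
end

theorem num : ∀ s ∈ [145926144000, 460815505920, 50232960], ∀ p ≤ 71, p.Prime → p ≠ 2 → ∃ r ∈ [13, 17, 19, 29, 31], r ∣ s ∧ p ≠ r ∧
    ∀ j < 180, 1 ≤ j → p ^ j * s ∣ nM → p ^ j % r ≠ 1 := by decide +kernel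

theorem rd1 : RD1 := fun Γ _ _ S _ _ φ h d c => by
  refine ⟨top_of h ?_, fun k => le_of_syl fun p P hp s => ?_⟩
  · rw [_root_.commutator_def, map_commutator, ← MonoidHom.range_eq_map, φ.range_eq_top.2 h.1]
    refine ((commutator_normal ⊤ ⊤).eq_bot_or_eq_top).resolve_left fun e => ?_
    have := Finite.of_surjective φ h.1
    let _ : CommGroup S := { ‹Group S› with mul_comm := fun a b => (commutator_eq_bot_iff_le_centralizer.1 e trivial b trivial).symm }
    have := IsSimpleGroup.prime_card (α := S)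
    rcases c with c | c | c <;> rw [c] at this <;> norm_num at this
  have := syl_normal h s
  by_cases e : p = 2
  · exact k P s.le this (e ▸ s.pi)
  by_cases b : P = ⊥
  · exact b ▸ bot_le
  have d' : ∀ j, p ^ j ∣ #P → p ^ j * Nat.card S ∣ nM := fun j e =>
    (Nat.mul_dvd_mul_right (e.trans (card_dvd s.le)) _).trans (card_eq h ▸ d)
  obtain ⟨r, r1, r2, r3, r4⟩ := num (Nat.card S) (by simpa using c) p (hp.dvd_factorial.1 (((pow_one p).symm.dvd.trans
    ((Dvd.intro _ rfl).trans (d' 1 (by simpa using s.pi.dvd_of_ne_bot b)))).trans (by decide +kernel))) hp e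
  refine cen_num h hp ((by norm_num : ∀ r ∈ [13, 17, 19, 29, 31], Nat.Prime r) r r1) r3 s.pi r2 fun j a e => r4 j ?_ a (d' j e)
  exact (Nat.pow_lt_pow_iff_right one_lt_two).1 ((Nat.pow_le_pow_left hp.two_le j).trans_lt ((Nat.le_of_dvd (by decide)
    ((Dvd.intro _ rfl).trans (d' j e))).trans_lt (by decide +kernel)))

section
variable {G : Type} [Group G] [Finite G] {z : G}

theorem card_C (h : MG z) : #C[z] = 2 ^ 25 * 4157776806543360000 := by
  obtain ⟨f, R, M⟩ := h.1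
  rw [← f.ker.card_mul_index, index_ker, f.range_eq_top.2 M.surj, card_top, card_Co1, ← M.card,
    ← card_subgroupOf' M.le.es.le_cent, show f.ker = (Qo z).subgroupOf _ from ext M.ker]

theorem rk (h : MG z) {H : Subgroup G} {A : Subgroup H} (a : ∀ x ∈ A, x * x = 1) : #A ≤ 2 ^ 15 := by
  have b : ∀ x ∈ A.map H.subtype, x * x = 1 := by rintro _ ⟨x, k, rfl⟩; exact congrArg Subtype.val (a x k)
  exact card_subtype H A ▸ (RK.rank h).2 _ (abelem2_iff.2 b).1 fun x hx => by rw [pow_two, b x hx]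

theorem cases_cen (h : MF z) {H : Subgroup G} {t : H} (c : t ∈ center H) (t2 : t * t = 1) (t1 : t ≠ 1) :
    #H ∣ 2 ^ 25 * 4157776806543360000 ∨ A2 z t.1 ∧ #H ∣ 2 * nB := by
  have d : #H ∣ #C[t.1] := card_dvd fun x hx => mem_cent1.2 (congrArg Subtype.val (mem_center_iff.1 c ⟨x, hx⟩))
  by_cases e : IsConj z t.1
  · exact .inl (card_C (h.mg.conj e) ▸ d)
  have a : A2 z t.1 := ⟨congrArg Subtype.val t2, fun k => t1 (Subtype.ext k), e⟩
  exact .inr ⟨a, h.cA _ a ▸ d⟩
end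

theorem rd2 : RD2 := fun G _ _ z h H S _ _ φ f c P _ n p => by_contra fun b => by
  have : (Ohm1 2 Z(P)).Normal := normalizer_eq_top_iff.1 (top_le_iff.1 ((normalizer_eq_top P).ge.trans (norm_le_norm_Ohm1_center 2 P)))
  have a := abelem2_iff.1 (abelem_Ohm1_center 2 P)
  obtain ⟨t, t0, t1⟩ := exists_ne_one (p.Ohm1_center_ne_bot b)
  have d : Nat.card S ∣ #H := Dvd.intro_left _ (card_eq f).symm
  rcases cases_cen h (cen_two f (pg_of_sq a) (rk h.mg a) (by rcases c with c | c <;> rw [c] <;> decide) t0) (a t t0) t1 with e | ⟨-, e⟩ <;>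
    rcases c with c | c <;> exact absurd (c ▸ d.trans e) (by decide +kernel)

/-- 2A-pure subgroups have order at most 4 (`CA` and `Ta.le`) -/
def PU : Prop := ∀ (G : Type) [Group G] [Finite G] (z : G), MG z → ∀ E, Pure z E → #E ≤ 4

theorem rd3 (pu : PU) : RD3 := fun G _ _ z h H S _ _ φ f c P l n p => by
  clear l
  induction P using (wellFounded_lt (α := Subgroup H)).induction with | _ P ih
  by_contra b
  have ih' : ∀ Q ≤ P, Q.Normal → Q = P ∨ Q ≤ center H := fun Q l k => l.eq_or_lt.imp_right fun l' => ih Q l' k (p.of_le l)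
  have d1 : ⁅P, P⁆ ≤ center H := ih _ (sol_der_lt p.sol fun e => b (e ▸ bot_le)) inferInstance (p.of_le (der_le P))
  have d2 : ∀ x ∈ P, x * x ∈ center H := by
    refine (ih' (sqS P _ d1) (fun _ k => k.1) inferInstance).elim (fun e x k => (e.ge k).2) fun e x k => ?_
    obtain ⟨j, hj⟩ := p.isPGroup ⟨x, k⟩
    have : ∀ j, x ^ 2 ^ j ∈ center H → x ∈ center H := fun j => by
      induction j with
      | zero => simp
      | succ j ih => exact fun a => ih (e ⟨pow_mem k _, by rwa [← pow_two, ← pow_mul, ← pow_succ]⟩)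
    have := this j ((show x ^ 2 ^ j = 1 from congrArg Subtype.val hj) ▸ one_mem _)
    exact mul_mem this this
  let E := sqS (P ⊓ center H) ⊥ (commg_eq_bot.2 (inf_le_right.trans (center_le_centralizer _))).le
  have mE : ∀ x, x ∈ E ↔ (x ∈ P ∧ x ∈ center H) ∧ x * x = 1 := fun x => and_congr Iff.rfl mem_bot
  have d3 : ⁅P, P⁆ ≤ E := commutator_le.2 fun x hx y hy => by
    have k := d1 (commutator_mem_commutator hx hy)
    refine (mE _).2 ⟨⟨der_le P (commutator_mem_commutator hx hy), k⟩, ?_⟩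
    calc ⁅x, y⁆ * ⁅x, y⁆ = x * ⁅x, y⁆ * x⁻¹ * ⁅x, y⁆ := by rw [mem_center_iff.1 k x, mul_inv_cancel_right]
      _ = x * x * y * (x * x)⁻¹ * y⁻¹ := by simp [commutatorElement_def, mul_assoc]
      _ = 1 := by rw [← mem_center_iff.1 (d2 x hx) y, mul_inv_cancel_right, mul_inv_cancel]
  have d : Nat.card S ∣ #H := Dvd.intro_left _ (card_eq f).symm
  have a2 : ∀ t ∈ E, t ≠ 1 → A2 z t.1 := fun t k t1 =>
    ((cases_cen h ((mE t).1 k).1.2 ((mE t).1 k).2 t1).resolve_left fun e => absurd (c ▸ d.trans e) (by decide +kernel)).1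
  have pE : Pure z (E.map H.subtype) := by rintro _ ⟨t, k, rfl⟩ t1; exact a2 t k fun e => t1 (congrArg Subtype.val e)
  have c4 := pu G z h.mg _ pE
  have EC : ∀ x : H, x.1 ∈ C(E.map H.subtype) := by
    rintro x _ ⟨t, k, rfl⟩; exact congrArg Subtype.val (mem_center_iff.1 ((mE t).1 k).1.2 x).symm
  by_cases c4' : #(E.map H.subtype) = 4
  · have rho : ∀ r, r.Prime → r ∣ Nat.card S → ∃ a ∈ C(E.map H.subtype) ⊓ N(P.map H.subtype), orderOf a = r := fun r hr e =>
      let ⟨a, a1, a2⟩ := exists_orderOf_eq_prime hr (e.trans d)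
      ⟨a, ⟨EC ⟨a, a1⟩, (normalIn_map_subtype P).norm a1⟩, a2⟩
    obtain ⟨a, a1, a2⟩ := rho 17 (by norm_num) (by rw [c]; decide)
    obtain ⟨a', a1', a2'⟩ := rho 19 (by norm_num) (by rw [c]; decide)
    exact b fun x hx => ((mE x).1 ((map_le_map_iff_of_injective H.subtype_injective).1 (h.e6 _ pE c4' _ (by rw [H19.PG, PiG, card_subtype]; exact p)
      (map_mono fun x k => ((mE x).1 k).1.1) (by rintro _ ⟨x, -, rfl⟩; exact EC x) a a1 a' a1' a2 a2') hx)).1.2
  have : E.Normal := sqS_normal _ _ _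
  have cX : #(sqS P E d3) ≤ 2 ^ 15 := by
    by_cases e : E = ⊥
    · exact rk h.mg fun x k => mem_bot.1 (e ▸ k.2)
    obtain ⟨t, t0, t1⟩ := exists_ne_one e
    have o : #(zpowers t) = 2 := by rw [Nat.card_zpowers, orderOf_eq_prime ((pow_two t).trans ((mE t).1 t0).2) t1]
    have e2 : zpowers t = E := eq_of_le_of_card_ge (zpowers_le.2 t0) (by
      have := o ▸ card_dvd (zpowers_le.2 t0)
      rw [card_subtype] at c4 c4'; omega)
    refine card_subtype H _ ▸ h.rB _ (a2 t t0 t1) _ ?_ ?_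
    · rintro _ ⟨x, -, rfl⟩; exact mem_cent1.2 (congrArg Subtype.val (mem_center_iff.1 ((mE t).1 t0).1.2 x))
    · rintro _ ⟨x, k, rfl⟩
      obtain ⟨i, e⟩ := e2.ge k.2
      exact ⟨i, congrArg Subtype.val e⟩
  have X := cen_two f (N := sqS P E d3) (p.of_le fun _ k => k.1) cX (.inl (by rw [c]; decide))
  obtain ⟨ρ, r1, r2⟩ := ex_rho f (r := 19) (by norm_num) (by rw [c]; decide)
  refine b (cen_of f (cents_of_commg_le_cent (A := zpowers ρ) (normalizer_eq_top P ▸ le_top) (p.coprime_of (piG_zpowers.2 r1) (by simp))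
    (commutator_le.2 fun x hx g _ => center_le_centralizer _ (X ?_)) (mem_zpowers ρ)) r2)
  have y := n.conj_mem _ (inv_mem hx) g
  have k := d3 (commutator_mem_commutator (inv_mem hx) y)
  refine ⟨by simpa [commutatorElement_def, mul_assoc] using mul_mem hx y, ?_⟩
  have e : g * x⁻¹ * g⁻¹ * (g * x⁻¹ * g⁻¹) = (x * x)⁻¹ := by
    rw [conj_mul, ← mul_inv_rev, mem_center_iff.1 (inv_mem (d2 x hx)) g, mul_inv_cancel_right]
  convert this.conj_mem _ k (x * x) using 1
  rw [← e]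
  simp [commutatorElement_def, mul_assoc]

end H9.PA
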