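import Cfsg.Agent.H9.Qd3
import Cfsg.Agent.H29.Reduce
import Cfsg.Agent.H3.Reduction

/-! Control of strong fusion by `N(W(D))` for strongly closed subgroups `D`. -/

set_option autoImplicit false

namespace H9

open Cfsg Subgroup H28 H29
open scoped Pointwise commutatorElement

universe u

section general

variable {G G' : Type*} [Group G] [Group G'] {p : ℕ} [hp : Fact p.Prime] [Finite G]

theorem StrCl.map {S D : Subgroup G} (hS : IsSylowIn p S ⊤) (h : StrCl D S ⊤) {f : G →* G'}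
    (hf : Function.Surjective f) : StrCl (D.map f) (S.map f) ⊤ := by
  refine ⟨map_mono h.1, ?_⟩
  rintro _ ⟨x, hx, rfl⟩ y - hy
  obtain ⟨g, rfl⟩ := hf y
  obtain ⟨k, hk, hle⟩ := exists_lift_conj_le hS
    (hS.isPGroup.to_le (zpowers_le.2 (h.1 hx))) f (g := g) (by
      rw [MonoidHom.map_zpowers, cj_zpowers]; exact zpowers_le.2 hy)
  refine ⟨_, h.2 x hx (k * g) trivial (hle (conj_mem_cj (mem_zpowers x))), ?_⟩
  simp [MonoidHom.mem_ker.1 hk]

omit hp [Finite G] in
theorem StrCl.subgroupOf {S D H : Subgroup G} (h : StrCl D S H) :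
    StrCl (D.subgroupOf H) (S.subgroupOf H) ⊤ :=
  ⟨fun _ hx => h.1 hx, fun x hx g _ hg => h.2 x hx g g.2 hg⟩

omit hp [Finite G] in
theorem StrCl.normal_of_le {S D P : Subgroup G} (h : StrCl D S ⊤) [hP : P.Normal] (h1 : D ≤ P)
    (h2 : P ≤ S) : D.Normal :=
  ⟨fun x hx g => h.2 x hx g trivial (h2 (hP.conj_mem x (h1 hx) g))⟩

theorem StrCl.inf_normalizer_ne_bot {S D U : Subgroup G} (hS : IsPGroup p S) (h : StrCl D S ⊤)
    (h0 : D ≠ ⊥) (hU : U ≤ S) : D ⊓ (S ⊓ 𝐍 U) ≠ ⊥ := by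
  have := inf_centralizer_ne_bot (hS.to_le hU) (hS.to_le h.1) (hU.trans (h.le_normalizer le_top)) h0
  exact fun e => this (eq_bot_iff.2 (e ▸ le_inf inf_le_left (le_inf (inf_le_left.trans h.1)
    (inf_le_right.trans (centralizer_le_normalizer _)))))

end general

variable {G G' : Type u} [Group G] [Group G'] {p : ℕ} [hp : Fact p.Prime] [Finite G]
  {W : ∀ (Q : Type u) [Group Q], Subgroup Q}

/-- `N_H(W(D))` controls strong `H`-fusion in `S` -/
def ACtl (W : ∀ (Q : Type u) [Group Q], Subgroup Q) (H S D : Subgroup G) : Prop :=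
  ∀ A ≤ S, ∀ h ∈ H, cj h A ≤ S → ∃ n ∈ H ⊓ 𝐍 (inducedFunctor W D), ∃ c ∈ 𝐂 A, h = n * c

omit hp [Finite G] in
theorem aCtl_top_iff {S D : Subgroup G} : ACtl W ⊤ S D ↔ SCtl (𝐍 (inducedFunctor W D)) S :=
  ⟨fun h A hA g hg => by simpa using h A hA g trivial hg,
    fun h A hA g _ hg => by simpa using h A hA g hg⟩

omit hp [Finite G] in
theorem aCtl_of_le {H S D : Subgroup G} (h : H ≤ 𝐍 (inducedFunctor W D)) : ACtl W H S D :=
  fun _ _ g hg _ => ⟨g, ⟨hg, h hg⟩, 1, one_mem _, (mul_one g).symm⟩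

omit hp in
theorem ACtl.of_subgroupOf (hW : IsCharPFunctor.{u} p W) {H S D : Subgroup G} (hS : S ≤ H)
    (hD : D ≤ H) (hDp : IsPGroup p D) (h : ACtl W ⊤ (S.subgroupOf H) (D.subgroupOf H)) :
    ACtl W H S D := by
  intro A hA g hg hle
  obtain ⟨n, hn, c, hc, e⟩ := h (A.subgroupOf H) (fun _ hx => hA hx) ⟨g, hg⟩ trivial (by
    rintro _ ⟨x, hx, rfl⟩
    exact hle ⟨x, hx, rfl⟩)
  refine ⟨n, ⟨n.2, ?_⟩, c, ?_, congrArg Subtype.val e⟩
  · have := map_normalizer_le H.subtype _ (mem_map_of_mem _ hn.2)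
    rwa [← H3.ind_subgroupOf hW hDp hD,
      map_subtype_subgroupOf ((induced_le D).trans hD)] at this
  · have := map_centralizer_le H.subtype _ (mem_map_of_mem _ hc)
    rwa [map_subtype_subgroupOf (hA.trans hS)] at this

/-- lifting along a surjection whose kernel meets `S` trivially -/
theorem ACtl.of_map (hW : IsCharPFunctor.{u} p W) {S D : Subgroup G} (hS : IsSylowIn p S ⊤)
    (hD : D ≤ S) {f : G →* G'} (hf : S ⊓ f.ker = ⊥) (hsurj : Function.Surjective f)
    (h : ACtl W ⊤ (S.map f) (D.map f)) : ACtl W ⊤ S D := by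
  intro A hA g _ hle
  obtain ⟨n, hn, c, hc, e⟩ := h (A.map f) (map_mono hA) (f g) trivial
    (by rw [← map_cj]; exact map_mono hle)
  obtain ⟨n, rfl⟩ := hsurj n
  have hn2 := hn.2
  rw [← map_induced hW (hS.isPGroup.to_le hD)
    (eq_bot_iff.2 (hf ▸ inf_le_inf_right _ hD))] at hn2
  have e2 : cj (f n) (A.map f) = cj (f g) (A.map f) := by
    rw [e, ← cj_cj, cj_eq_self (centralizer_le_normalizer _ hc)]
  obtain ⟨k, hk, h1, h2⟩ := exists_lift_normalizer hS hf hA ((induced_le D).trans hD) hn2 (by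
    rw [e2, ← map_cj]; exact map_mono hle)
  refine exists_mul_iff_exists_eq_on.2 ⟨k * n, ⟨trivial, h1⟩, fun a ha => ?_⟩
  refine eq_of_map_eq hf (h2 (conj_mem_cj ha)) (hle (conj_mem_cj ha)) ?_
  have := mem_centralizer_iff.1 hc (f a) (mem_map_of_mem f ha)
  simp only [map_mul, map_inv, MonoidHom.mem_ker.1 hk, one_mul, e, mul_inv_rev]
  rw [mul_assoc (f n) c, ← this]; group

/-- the part of `P` fused into `D` -/
def fusedPart (D P : Subgroup G) : Subgroup G := closure {x | x ∈ P ∧ ∃ g : G, g * x * g⁻¹ ∈ D}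

omit [Finite G] in
theorem fusedPart_le (D P : Subgroup G) : fusedPart D P ≤ P := (closure_le _).2 fun _ h => h.1

omit [Finite G] in
theorem cj_fusedPart_le (D P : Subgroup G) (g : G) :
    cj g (fusedPart D P) ≤ fusedPart D (cj g P) := by
  rw [fusedPart, MonoidHom.map_closure, closure_le]
  rintro _ ⟨x, ⟨hx, k, hk⟩, rfl⟩
  refine subset_closure ⟨mem_map_of_mem _ hx, k * g⁻¹, ?_⟩
  simpa [mul_assoc] using hk

omit [Finite G] in
theorem cj_fusedPart (D P : Subgroup G) (g : G) : cj g (fusedPart D P) = fusedPart D (cj g P) := by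
  refine le_antisymm (cj_fusedPart_le D P g) ?_
  have := cj_fusedPart_le D (cj g P) g⁻¹
  rwa [cj_inv_cj, ← le_cj_iff] at this

omit [Finite G] in
theorem fusedPart_eq {D S P : Subgroup G} (h : StrCl D S ⊤) (hP : P ≤ S) :
    fusedPart D P = D ⊓ P := by
  refine le_antisymm ((closure_le _).2 ?_) fun x hx => subset_closure ⟨hx.2, 1, by simpa using hx.1⟩
  rintro x ⟨hx, g, hg⟩
  refine ⟨?_, hx⟩
  simpa [mul_assoc] using h.2 _ hg g⁻¹ trivial (by simpa [mul_assoc] using hP hx)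

open Classical in
/-- the conjugacy functor attached to `W` and a strongly closed subgroup `D` -/
noncomputable def relFunctor (W : ∀ (Q : Type u) [Group Q], Subgroup Q) (D P : Subgroup G) :
    Subgroup G := if fusedPart D P = ⊥ then P else inducedFunctor W (fusedPart D P)

omit hp in
theorem isConj_relFunctor (hW : IsCharPFunctor.{u} p W) (D : Subgroup G) :
    IsConjugacyFunctor p (relFunctor W D) := by
  intro P hP
  have h1 := hP.to_le (fusedPart_le D P)
  refine ⟨?_, fun h0 => ?_, fun g => ?_⟩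
  · unfold relFunctor
    split_ifs
    exacts [le_rfl, (induced_le _).trans (fusedPart_le D P)]
  · unfold relFunctor
    split_ifs with h
    exacts [h0, H3.ind_ne_bot hW h1 h]
  · unfold relFunctor
    rw [← cj_fusedPart]
    by_cases h : fusedPart D P = ⊥
    · rw [if_pos h, if_pos (cj_eq_bot.2 h)]
    · rw [if_neg h, if_neg (mt cj_eq_bot.1 h), H3.cj_ind hW h1]

omit hp [Finite G] in
theorem relFunctor_eq {D S P : Subgroup G} (h : StrCl D S ⊤) (hP : P ≤ S) (h0 : D ⊓ P ≠ ⊥) :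
    relFunctor W D P = inducedFunctor W (D ⊓ P) := by
  rw [relFunctor, fusedPart_eq h hP, if_neg h0]

omit hp [Finite G] in
theorem induced_bot : inducedFunctor W (⊥ : Subgroup G) = ⊥ := eq_bot_iff.2 (induced_le _)

/-- local-to-global principle -/
theorem aCtl_of_local (hW : IsCharPFunctor.{u} p W) {S D : Subgroup G} (hS : IsSylowIn p S ⊤)
    (hD : StrCl D S ⊤)
    (hloc : ∀ U, Ext p S ⊤ U → U ≠ ⊥ → ACtl W (𝐍 U) (S ⊓ 𝐍 U) (D ⊓ (S ⊓ 𝐍 U))) :
    ACtl W ⊤ S D := by
  by_cases h0 : D = ⊥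
  · exact aCtl_of_le (by rw [h0, induced_bot, H28.normalizer_bot])
  have := fctl_of_local hS (𝓦 := {relFunctor W D})
    (by rintro _ rfl; exact isConj_relFunctor hW D) (fun U hU hU0 => by
      rw [fctl_singleton_iff, top_inf_eq,
        relFunctor_eq hD inf_le_left (hD.inf_normalizer_ne_bot hS.isPGroup h0 hU.le)]
      exact hloc U hU hU0)
  rwa [fctl_singleton_iff, relFunctor_eq hD le_rfl (by rwa [inf_eq_left.2 hD.1]),
    inf_eq_left.2 hD.1] at this

/-- `N(W(D))` controls strong fusion for all strongly closed `D` -/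
def DCtl (p : ℕ) (W : ∀ (Q : Type u) [Group Q], Subgroup Q) (X : Type u) [Group X] : Prop :=
  ∀ S D : Subgroup X, IsSylowIn p S ⊤ → StrCl D S ⊤ → ACtl W ⊤ S D

omit hp in
theorem DCtl.aCtl (hW : IsCharPFunctor.{u} p W) {H S D : Subgroup G} (h : DCtl p W H)
    (hS : IsSylowIn p S H) (hD : StrCl D S H) : ACtl W H S D :=
  ACtl.of_subgroupOf hW hS.le (hD.1.trans hS.le) (hS.isPGroup.to_le hD.1)
    (h _ _ (by simpa using hS.subgroupOf le_rfl) hD.subgroupOf)

theorem DCtl.of_surjective (hW : IsCharPFunctor.{u} p W) {f : G →* G'}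
    (hsurj : Function.Surjective f) (hk : ∀ S, IsSylowIn p S ⊤ → S ⊓ f.ker = ⊥)
    (h : DCtl p W G') : DCtl p W G := fun S D hS hD =>
  ACtl.of_map hW hS hD.1 (hk S hS) hsurj (h _ _
    (by simpa only [map_top_of_surjective _ hsurj] using hS.map f) (hD.map hS hsurj))

theorem dCtl_step (hW : IsCharPFunctor.{u} p W)
    (ih : ∀ (Y : Type u) [Group Y] [Finite Y], Cfsg.Involves Y G → Nat.card Y < Nat.card G →
      DCtl p W Y) (hnc : ¬ 𝐂 (pCore p G) ≤ pCore p G) : DCtl p W G := by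
  intro S D hS hD
  have hP := isPGroup_pCore p G
  have hPS : pCore p G ≤ S := by simpa only [pCoreOf_top] using hS.pCoreOf_le
  have proper : ∀ {M : Subgroup G}, M ≠ ⊤ → S ≤ M → ∀ {B : Subgroup G}, B ≤ S → ∀ {x : G},
      x ∈ M → cj x B ≤ S → Fus (𝐍 (inducedFunctor W D) : Set G) S B x := by
    intro M hM hSM B hB x hx hle
    obtain ⟨n, hn, c, hc, rfl⟩ := (ih M (involves_subgroup M) (card_lt_of_ne_top hM)).aCtl hW
      (hS.mono hSM le_top) (hD.mono le_top) B hB x hx hle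
    exact Fus.of_mul hB hn.2 hc hle
  by_cases h0 : pCore p G = ⊥
  · refine aCtl_of_local hW hS hD fun U hU hU0 => ?_
    have hs := hU.syl
    rw [top_inf_eq] at hs
    exact (ih _ (involves_subgroup _) (card_lt_of_ne_top (normalizer_ne_top
      (hS.isPGroup.to_le hU.le) (by rwa [h0, le_bot_iff])))).aCtl hW hs
        ((hD.inf inf_le_left).mono le_top)
  by_cases h1 : ∃ K : Subgroup G, K.Normal ∧ S ⊓ K = ⊥ ∧ K ≠ ⊥
  · obtain ⟨K, hK, h2, h3⟩ := h1
    have hs := QuotientGroup.mk'_surjective K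
    exact ACtl.of_map hW hS hD.1 (by rwa [QuotientGroup.ker_mk']) hs
      (ih _ (involves_quotient K) (card_quotient_lt h3) _ _
        (by simpa only [map_top_of_surjective _ hs] using hS.map (QuotientGroup.mk' K))
        (hD.map hS hs))
  push Not at h1
  set P := pCore p G with hPdef
  by_cases hDP : D ≤ P
  · haveI := hD.normal_of_le hDP hPS
    exact aCtl_of_le ((normal_iff_top_le.1 this).trans
      (H3.normalizer_le_normalizer_ind hW (hS.isPGroup.to_le hD.1)))
  have h2 : ¬ S ⊓ 𝐂 P ≤ P := fun h => hnc (centralizer_le_of_sylow hS h1 h)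
  obtain ⟨c, hc, hcP, hcS⟩ := exists_fixed_mod hS.isPGroup.to_inf_left hS.isPGroup
    (le_normalizer_inf le_normalizer (le_normalizer_of_normal' _ _)) h2
  have hZ : P ⊔ zpowers c ≤ S := sup_le hPS (zpowers_le.2 hc.1)
  have hM : 𝐍 (P ⊔ zpowers c) ≠ ⊤ := normalizer_ne_top (hS.isPGroup.to_le hZ)
    fun h => hcP (h ((le_sup_right : zpowers c ≤ _) (mem_zpowers c)))
  have hSM : S ≤ 𝐍 (P ⊔ zpowers c) := fun s hs => mem_normalizer_sup_zpowers (hcS s hs)
  suffices h : ∀ A ≤ S, ∀ g ∈ (⊤ : Subgroup G), cj g A ≤ S →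
      Fus (𝐍 (inducedFunctor W D) : Set G) S A g by
    intro A hA g hg hle
    simpa using (h A hA g hg hle).exists_mul (K := 𝐍 (inducedFunctor W D)) le_rfl
  intro A hA
  refine alperin_ext hS (fusPred_fus _ _) 0 (fun U hU _ ihU g hg => ?_) A hA (Nat.zero_le _)
  have hbig : ∀ V ≤ S, ¬ V ≤ U → ∀ n ∈ 𝐍 U ⊓ 𝐍 V,
      Fus (𝐍 (inducedFunctor W D) : Set G) S U n := by
    intro V hV hVU n hn
    have h3 : n ∈ 𝐍 (U ⊔ V) := le_normalizer_sup inf_le_left inf_le_right hn
    refine (ihU (U ⊔ V) (sup_le hU.le hV) (H28.card_lt_of_lt (lt_of_le_of_ne le_sup_left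
      fun e => hVU (le_sup_right.trans e.ge))) n trivial ?_).restrict le_sup_left
    rw [cj_eq_self h3]; exact sup_le hU.le hV
  by_cases hPU : P ≤ U
  swap
  · exact hbig P hPS hPU g ⟨hg.2, mem_normalizer_of_normal _ _⟩
  by_cases hcU : c ∈ U
  · let f := QuotientGroup.mk' P
    have hf : f.ker = P := QuotientGroup.ker_mk' P
    have hs := QuotientGroup.mk'_surjective P
    have h4 := hS.map f
    rw [map_top_of_surjective _ hs] at h4
    have hD' := hD.map hS hs
    have hle : ∀ x : G, cj (f x) (U.map f) ≤ S.map f → cj x U ≤ S := fun x hx => by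
      rwa [← map_cj, Subgroup.map_le_map_iff, hf, sup_eq_left.2 hPS] at hx
    have hgU : cj g U ≤ S := by rw [cj_eq_self hg.2]; exact hU.le
    obtain ⟨n, hn, d, hd, e⟩ := ih _ (involves_quotient P) (card_quotient_lt h0) _ _ h4 hD'
      (U.map f) (map_mono hU.le) (f g) trivial (by rw [← map_cj]; exact map_mono hgU)
    obtain ⟨d, rfl⟩ := hs d
    have hdU : cj d U ≤ S := hle d (by
      rw [cj_eq_self (centralizer_le_normalizer _ hd)]; exact map_mono hU.le)
    have g1 := proper hM hSM hU.le (mem_normalizer_sup_zpowers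
      (commutatorElement_mem_iff_commute.2
        (mem_centralizer_iff.1 hd _ (mem_map_of_mem f hcU)))) hdU
    have hDp := (hS.isPGroup.to_le hD.1).map f
    have h8 : S ≤ (𝐍 (inducedFunctor W (D.map f))).comap f := map_le_iff_le_comap.1
      ((hD'.le_normalizer le_top).trans (H3.normalizer_le_normalizer_ind hW hDp))
    have h9 : (𝐍 (inducedFunctor W (D.map f))).comap f ≠ ⊤ := fun e' => by
      have e2 := congrArg (Subgroup.map f) e'
      rw [map_comap_eq_self_of_surjective hs, map_top_of_surjective _ hs] at e2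
      refine normalizer_ne_top (hDp.to_le (induced_le _)) ?_ e2
      rw [H1.pCore_quotient_pCore, le_bot_iff]
      refine H3.ind_ne_bot hW hDp ?_
      rwa [Ne, Subgroup.map_eq_bot_iff, hf]
    have h10 := g1.comp (h := g * d⁻¹) (proper h9 h8 hdU (by
      rw [mem_comap, map_mul, map_inv, e, mul_inv_cancel_right]; exact hn.2)
      (by rwa [cj_cj, inv_mul_cancel_right]))
    rwa [inv_mul_cancel_right] at h10
  · have hE : ⊤ ⊓ 𝐍 U ≤ 𝐍 (cmod U P ⊓ 𝐂 P) := le_normalizer_inf
      (le_normalizer_cmod inf_le_right (le_normalizer_of_normal' _ _)) (le_normalizer_of_normal' _ _)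
    have hEU : cmod U P ⊓ 𝐂 P ≤ ⊤ ⊓ 𝐍 U :=
      le_inf le_top (inf_le_left.trans (cmod_le_normalizer_of_le hPU le_rfl))
    have hV := hU.syl.inf_normal' hEU hE
    obtain ⟨n, hn, e, he, rfl⟩ := hV.frattini' (hE hg)
    have hnU : n ∈ 𝐍 U := by simpa using (𝐍 U).mul_mem hg.2 ((𝐍 U).inv_mem (hEU he).2)
    have hcE : c ∈ cmod U P ⊓ 𝐂 P := ⟨⟨mem_normalizer_of_normal _ _, fun u hu =>
      commutatorElement_mem_comm.1 (hcS u (hU.le hu))⟩, hc.2⟩
    have g1 := hbig _ (inf_le_left.trans inf_le_left)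
      (fun h => hcU (h ⟨⟨hc.1, (hEU hcE).2⟩, hcE⟩)) n ⟨hnU, hn⟩
    have h6 : pResidualOf p (cmod U P ⊓ 𝐂 P) ≤ 𝐂 U :=
      pResidualOf_le_centralizer_of_commutator_le hP
        (commutator_le_of_le_cmod ((pResidualOf_le _ _).trans inf_le_left))
        ((pResidualOf_le _ _).trans inf_le_right)
    rw [← hV.pResidualOf_sup] at he
    obtain ⟨v, hv, r, hr, rfl⟩ := (mem_sup_of_le_normalizer (H := S ⊓ 𝐍 U ⊓ (cmod U P ⊓ 𝐂 P))
      (inf_le_right.trans (le_normalizer_pResidualOf _ _))).1 (by rwa [sup_comm] at he)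
    have g2 : Fus (𝐍 (inducedFunctor W D) : Set G) S U v := proper hM hSM hU.le (hSM hv.1.1)
      (by rw [cj_eq_self hv.1.2]; exact hU.le)
    have g3 := (g2.comp (h := n) (by rwa [cj_eq_self hv.1.2])).mul_cent (h6 hr)
    rwa [mul_assoc] at g3

/-- reduction to constrained sections -/
theorem dCtl_of_constrained (hW : IsCharPFunctor.{u} p W)
    (hloc : ∀ (X : Type u) [Group X] [Finite X], Cfsg.Involves X G →
      𝐂 (pCore p X) ≤ pCore p X → DCtl p W X) : DCtl p W G := by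
  refine card_induction (Ψ := fun X _ _ => Cfsg.Involves X G → DCtl p W X) ?_ G involves_refl
  intro X _ _ ih hX
  by_cases hc : 𝐂 (pCore p X) ≤ pCore p X
  · exact hloc X hX hc
  · exact dCtl_step hW (fun Y _ _ hY hlt => ih Y hY hlt (involves_trans hY hX)) hc

/-- `p`-stability in the normalizer form passes to quotients by `p'`-subgroups -/
theorem pStab_of_isNormalizerPStable_of_coprime {G G' : Type*} [Group G] [Group G'] [Finite G]
    (h : IsNormalizerPStable p G) {f : G →* G'} (hf : Function.Surjective f)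
    (hk' : (Nat.card f.ker).Coprime p) : PStab p (⊤ : Subgroup G') := by
  intro B A _ h2 h3 _ h5 h6
  haveI := normal_iff_top_le.2 h2
  obtain ⟨P, -, hP, hPf⟩ := H1.exists_isPGroup_map_eq f (H := ⊤)
    (isPGroup_sup_of_le_normalizer h5 h3 (le_top.trans h2))
    (by rw [Subgroup.map_top_of_surjective f hf]; exact le_top)
  have key : ∀ X : Subgroup G', X ≤ A ⊔ B → (P ⊓ X.comap f).map f = X := fun X hX => by
    refine le_antisymm ((map_mono inf_le_right).trans (map_comap_le f X)) fun y hy => ?_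
    obtain ⟨x, hx, rfl⟩ := hPf.ge (hX hy)
    exact ⟨x, ⟨hx, hy⟩, rfl⟩
  have eA := key A le_sup_left
  have eB := key B le_sup_right
  have hn : P ≤ 𝐍 (P ⊓ B.comap f) :=
    le_normalizer_inf le_normalizer (fun g _ => mem_normalizer_of_normal _ g)
  have := (stabAt_of_isNormalizerPStable h (hP.to_le inf_le_left)
    (inf_le_left.trans hn) (A := P ⊓ A.comap f) ?_).map f
  · rwa [map_normalizer_of_coprime hf hk' (hP.to_le inf_le_left), eA, eB,
      normalizer_eq_top] at this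
  · rw [eq_bot_iff, ← inf_ker_eq_bot hk' hP]
    refine le_inf ((commutator_mono (commutator_le_of_le (le_normalizer_of_le inf_le_left)
      inf_le_left) le_rfl).trans (commutator_le_of_le (le_normalizer_of_le inf_le_left) le_rfl)) ?_
    rw [← Subgroup.map_eq_bot_iff, map_commutator, map_commutator, eA, eB, h6]

/-- functors with the strongly closed ZJ-property -/
def ZJType (p : ℕ) (W : ∀ (Q : Type u) [Group Q], Subgroup Q) : Prop :=
  IsCharPFunctor.{u} p W ∧ ∀ (X : Type u) [Group X] [Finite X] (S D : Subgroup X),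
    IsSylowIn p S ⊤ → StrCl D S ⊤ → PStab p (⊤ : Subgroup X) → IsCharP p (⊤ : Subgroup X) →
      ⊤ ≤ 𝐍 (inducedFunctor W D)

theorem zjType_ZJ (hp2 : p ≠ 2) {e : ℕ} (he : e = p ∨ e = 0) :
    ZJType.{u} p (fun Q _ => ZJ e (⊤ : Subgroup Q)) :=
  ⟨isCharPFunctor_ZJ he, fun X _ _ S D hS hD h1 h2 => by
    rw [induced_ZJ]; exact zj_ZJ hp2 he hS hD h1 h2⟩

theorem zjType_omegaZJ (hp2 : p ≠ 2) {e : ℕ} (he : e = p ∨ e = 0) :
    ZJType.{u} p (fun Q _ => omegaOne p (ZJ e (⊤ : Subgroup Q))) :=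
  ⟨isCharPFunctor_omegaZJ he, fun X _ _ S D hS hD h1 h2 => by
    rw [induced_omegaZJ]
    exact (zj_ZJ hp2 he hS hD h1 h2).trans (normalizer_le_normalizer_omegaOne _ _)⟩

theorem ZJType.dCtl_of_not_involves (hW : ZJType.{u} p W) (hp2 : p ≠ 2)
    (h : ¬ Cfsg.Involves (qd p) G) : DCtl p W G :=
  dCtl_of_constrained hW.1 fun X _ _ hX hc S D hS hD => aCtl_of_le (hW.2 X S D hS hD
    (pStab_of_not_involves_qd hp2 fun h' => h (involves_trans (involves_top_iff.1 h') hX))
    (isCharP_top.2 hc))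

theorem ZJType.dCtl_of_constrained (hW : ZJType.{u} p W) (hst : IsNormalizerPStable p G)
    (hc : IsPConstrained p G) : DCtl p W G := by
  have hk : (Nat.card (QuotientGroup.mk' (pPrimeCore p G)).ker).Coprime p :=
    H1.coprime_card_ker_mk' H1.pPrimeCore_coprime
  have hs := QuotientGroup.mk'_surjective (pPrimeCore p G)
  exact DCtl.of_surjective hW.1 hs (fun S hS => inf_ker_eq_bot hk hS.isPGroup)
    fun S D hS hD => aCtl_of_le (hW.2 _ S D hS hD
      (pStab_of_isNormalizerPStable_of_coprime hst hs hk)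
      (isCharP_top.2 (H1.isPConstrained_iff_centralizer_quotient.1 hc)))

theorem ZJType.aCtl_of_local (hW : ZJType.{u} p W) (hst : IsNormalizerPStable p G)
    {S D : Subgroup G} (hS : IsSylowIn p S ⊤) (hD : StrCl D S ⊤)
    (hc : ∀ U ≤ S, U ≠ ⊥ → IsPConstrained p (𝐍 U)) : ACtl W ⊤ S D := by
  refine H9.aCtl_of_local hW.1 hS hD fun U hU hU0 => ?_
  have hs := hU.syl
  rw [top_inf_eq] at hs
  exact (hW.dCtl_of_constrained (stable_of_injective (𝐍 U).subtype_injective hst)
    (hc U hU.le hU0)).aCtl hW.1 hs ((hD.inf inf_le_left).mono le_top)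

end H9
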