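/-
Traces of automorphisms of the Leech lattice.
-/
import Cfsg.Agent.H1.PA0

set_option autoImplicit false

namespace H9.PA
open Cfsg H15 H19 H0 H0.Mo H0.Y H15.ML H15.MX Subgroup Function H1.PA Matrix

theorem fix8 {σ : Equiv.Perm GolayPt} (hσ : σ ∈ M24) (h1 : σ ≠ 1) : (fixS σ).card ≤ 8 := by
  by_contra h
  obtain ⟨E, hE, h6⟩ := Finset.exists_subset_card_eq (s := fixS σ) (n := 6) (by omega)
  have c := card_fix_six h6
  have m : σ ∈ M24 ⊓ fixingSubgroup (Equiv.Perm GolayPt) (E : Set GolayPt) :=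
    ⟨hσ, (mem_fixingSubgroup_iff _).2 fun p hp => (Finset.mem_filter.1 (hE hp)).2⟩
  have d := Subgroup.orderOf_dvd_natCard _ m
  obtain ⟨p, hp, hd⟩ := Nat.exists_prime_and_dvd (n := orderOf σ) (mt orderOf_eq_one_iff.1 h1)
  have o : orderOf (σ ^ (orderOf σ / p)) = p := orderOf_pow_orderOf_div (orderOf_pos σ).ne' hd
  have s : (fixS σ).card ≤ (fixS (σ ^ (orderOf σ / p))).card := Finset.card_le_card fun x hx =>
    Finset.mem_filter.2 ⟨Finset.mem_univ _, Equiv.Perm.pow_apply_eq_self_of_apply_eq_self (Finset.mem_filter.1 hx).2 _⟩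
  have d' := hd.trans d
  rw [c] at d'
  split_ifs at d'
  · have : p = 2 := (Nat.prime_dvd_prime_iff_eq hp Nat.prime_two).1 (hp.dvd_of_dvd_pow (n := 4) d')
    subst this
    rcases inv_cases (pow_mem hσ _) o with e | e <;> omega
  · have : p = 3 := (Nat.prime_dvd_prime_iff_eq hp Nat.prime_three).1 d'
    subst this
    rcases three_cases (pow_mem hσ _) o with e | e <;> omega

theorem tr_mono {σ : Equiv.Perm GolayPt} (hσ : σ ∈ M24) {c : Finset GolayPt} (hc : c ∈ cw) :
    H1.PA.tr (mono hσ hc) = ((∑ i ∈ fixS σ, (if i ∈ c then -1 else 1) : ℤ) : ℝ) := by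
  unfold H1.PA.tr Matrix.trace
  rw [Finset.sum_filter]
  push_cast
  refine Finset.sum_congr rfl fun i _ => ?_
  simp only [Matrix.diag, H14.Mn.cm, of_apply, mono_e8, H14.Mn.rl, cf_e8, Pi.single_apply]
  by_cases h : σ i = i
  · rw [h]; split_ifs <;> simp_all
  · rw [if_neg (Ne.symm h), if_neg h]; simp

/-- the coordinates of a sublattice -/
def ιL (L : AddSubgroup Lam) : L →ₗ[ℤ] (GolayPt → ℤ) := (leechLattice.subtype.comp L.subtype).toIntLinearMap

theorem ιL_inj (L : AddSubgroup Lam) : Injective (ιL L) := fun _ _ h => Subtype.ext (Subtype.ext h)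

theorem finL (L : AddSubgroup Lam) : Module.Finite ℤ L := Module.Finite.of_injective _ (ιL_inj L)

theorem freeL (L : AddSubgroup Lam) : Module.Free ℤ L := by
  have := finL L
  have : Module.IsTorsionFree ℤ L := Function.Injective.moduleIsTorsionFree _ (ιL_inj L) (map_smul _)
  infer_instance

theorem rl_add (v w : Lam) : H14.Mn.rl (v + w) = H14.Mn.rl v + H14.Mn.rl w := by
  funext i; simp [H14.Mn.rl, cf]

theorem rl_zsmul (a : ℤ) (v : Lam) : H14.Mn.rl (a • v) = (a : ℝ) • H14.Mn.rl v := by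
  funext i; simp [H14.Mn.rl, cf]

theorem rl_sum {ι : Type} (s : Finset ι) (f : ι → Lam) : H14.Mn.rl (∑ i ∈ s, f i) = ∑ i ∈ s, H14.Mn.rl (f i) := by
  funext i; simp [H14.Mn.rl, cf, Finset.sum_apply]

theorem trk_rk (L : AddSubgroup Lam) (P : Matrix GolayPt GolayPt ℝ) (n : ℝ) (hn : n ≠ 0)
    (h1 : ∀ v, ∃ w ∈ L, n • P.mulVec (H14.Mn.rl v) = H14.Mn.rl w)
    (h2 : ∀ v ∈ L, P.mulVec (H14.Mn.rl v) = H14.Mn.rl v) : P.trace = Module.finrank ℤ L := by
  have := finL L
  have := freeL L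
  let b := Module.finBasis ℤ L
  let W : Submodule ℝ (GolayPt → ℝ) := Submodule.span ℝ (Set.range fun k => H14.Mn.rl (b k).1)
  have li : LinearIndependent ℝ fun k => H14.Mn.rl (b k).1 :=
    (linearIndependent_algebraMap_comp_iff (R := ℤ) (S := ℝ) (v := fun k => ιL L (b k))).2
      (b.linearIndependent.map' _ (LinearMap.ker_eq_bot.2 (ιL_inj L)))
  have mW : ∀ w ∈ L, H14.Mn.rl w ∈ W := fun w hw => by
    have e := congrArg Subtype.val (b.sum_repr ⟨w, hw⟩)
    simp only [AddSubgroup.val_finsetSum, AddSubgroup.coe_zsmul] at e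
    rw [← e, rl_sum]
    exact Submodule.sum_mem _ fun k _ => by
      rw [rl_zsmul]; exact Submodule.smul_mem _ _ (Submodule.subset_span ⟨k, rfl⟩)
  have pr : LinearMap.IsProj W (Matrix.toLin' P) := by
    refine ⟨fun x => ?_, fun x hx => ?_⟩
    · rw [Matrix.toLin'_apply, ← Finset.univ_sum_single x, Matrix.mulVec_sum]
      refine Submodule.sum_mem _ fun j _ => ?_
      obtain ⟨w, hw, e⟩ := h1 (e8 j 1)
      have : P *ᵥ Pi.single j (x j) = (x j / (8 * n)) • H14.Mn.rl w := by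
        rw [← e, H14.Mn.rl_e8, mulVec_smul, smul_smul, smul_smul, ← mulVec_smul]
        congr 1; funext i; simp only [Pi.smul_apply, Pi.single_apply]; split_ifs
        · subst_vars; field_simp; simp
        · simp
      rw [this]; exact Submodule.smul_mem _ _ (mW w hw)
    · induction hx using Submodule.span_induction with
      | mem x hx => obtain ⟨k, rfl⟩ := hx; exact h2 _ (b k).2
      | zero => simp
      | add x y _ _ hx hy => rw [map_add, hx, hy]
      | smul a x _ hx => rw [map_smul, hx]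
  rw [← Matrix.trace_toLin'_eq, pr.trace, finrank_span_eq_card li, Fintype.card_fin]

theorem trk_fx (g : Co0) (p : ℕ) (h : g ^ p = 1) :
    ∑ i ∈ Finset.range p, H1.PA.tr (g ^ i) = p * Module.finrank ℤ (H0.Mo.Fx g) := by
  rcases Nat.eq_zero_or_pos p with rfl | hp
  · simp
  have hp' : (p : ℝ) ≠ 0 := by positivity
  have := trk_rk (H0.Mo.Fx g) ((p : ℝ)⁻¹ • ∑ i ∈ Finset.range p, H14.Mn.cm (g ^ i)) p hp' (fun v => ?_) fun v hv => ?_
  · rw [← this, Matrix.trace_smul, Matrix.trace_sum, smul_eq_mul, mul_inv_cancel_left₀ hp']; rfl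
  · refine ⟨∑ i ∈ Finset.range p, g ^ i • v, ?_, ?_⟩
    · show g • _ = _
      have := Finset.sum_range_succ' (fun i => g ^ i • v) p
      rw [Finset.sum_range_succ, h, pow_zero, add_left_inj] at this
      rw [co_sum, this]
      simp only [pow_succ', mul_smul]
    · rw [smul_mulVec, smul_smul, mul_inv_cancel₀ hp', one_smul, Matrix.sum_mulVec, rl_sum]
      simp only [H14.Mn.cm_vec]
  · rw [smul_mulVec, Matrix.sum_mulVec]
    simp only [H14.Mn.cm_vec, pow_fix hv, Finset.sum_const, Finset.card_range]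
    rw [← Nat.cast_smul_eq_nsmul ℝ, smul_smul, inv_mul_cancel₀ hp', one_smul]

theorem ncg {L : AddSubgroup Lam} (pu : ∀ u, u + u ∈ L → u ∈ L) {n : ℕ} (b : Module.Basis (Fin n) ℤ L) (a : L)
    (k : Fin n) (h : b.repr a k = 1) : ¬ Cg a 0 := by
  rintro ⟨u, e⟩
  rw [sub_zero, two_smul] at e
  have m : u ∈ L := pu u (e ▸ a.2)
  have : a = ⟨u, m⟩ + ⟨u, m⟩ := Subtype.ext e
  rw [this, map_add, Finsupp.add_apply] at h
  omega

theorem tr : TR where
  cj g h := by
    unfold H1.PA.tr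
    rw [H14.Mn.cm_mul, Matrix.trace_mul_comm, ← H14.Mn.cm_mul, inv_mul_cancel_left]
  inv g := by
    unfold H1.PA.tr
    have : H14.Mn.cm g⁻¹ = (H14.Mn.cm g)ᵀ := by
      rw [← one_mul (H14.Mn.cm g⁻¹), ← H14.Mn.cm_orth g, Matrix.mul_assoc, ← H14.Mn.cm_mul, mul_inv_cancel,
        H14.Mn.cm_one, Matrix.mul_one]
    rw [this, Matrix.trace_transpose]
  neg g := by unfold H1.PA.tr; rw [H14.Mn.cm_mul, H14.Mn.cm_N, neg_one_mul, Matrix.trace_neg]
  sgn {C} h := by
    rw [H15.sgn, tr_mono, show fixS 1 = Finset.univ from Finset.filter_true_of_mem fun _ _ => rfl,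
      Finset.sum_ite, Finset.sum_const, Finset.sum_const, Finset.filter_mem_eq_inter, Finset.univ_inter,
      Finset.filter_notMem_eq_sdiff, Finset.card_univ_sdiff, show Fintype.card GolayPt = 24 from rfl]
    have : C.card ≤ 24 := C.card_le_univ
    simp only [nsmul_eq_mul, Nat.cast_sub this]
    push_cast; ring
  nn g hg hn := by
    obtain ⟨σ, hσ, c, hc, rfl⟩ := exists_mono hg
    refine ⟨_, tr_mono hσ hc, ?_⟩
    have h1 : σ ≠ 1 := by rintro rfl; exact hn ⟨c, hc, rfl⟩
    have := fix8 hσ h1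
    refine (Finset.sum_le_card_nsmul _ _ 1 fun i _ => by split_ifs <;> norm_num).trans ?_
    simpa using this
  rk := trk_rk
  fx := trk_fx
  r1 L h a ha b hb e := by
    have := finL L
    have := freeL L
    let B := Module.finBasisOfFinrankEq ℤ L h
    have k : ∀ v, ∀ hv : v ∈ L, v = B.repr ⟨v, hv⟩ 0 • (B 0).1 := fun v hv => by
      simpa using congrArg Subtype.val (B.sum_repr ⟨v, hv⟩).symm
    obtain ⟨x, hx⟩ : ∃ x : ℤ, a = x • (B 0).1 := ⟨_, k a ha⟩
    obtain ⟨y, hy⟩ : ∃ y : ℤ, b = y • (B 0).1 := ⟨_, k b hb⟩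
    have n0 : sqNorm (cf (B 0).1) ≠ 0 := fun e0 =>
      B.ne_zero 0 (Subtype.ext (Subtype.ext (sqNorm_eq_zero e0)))
    rw [hx, hy] at e
    have e' : x ^ 2 * sqNorm (cf (B 0).1) = y ^ 2 * sqNorm (cf (B 0).1) := by
      rw [← sqNorm_smul, ← sqNorm_smul]; exact e
    rcases sq_eq_sq_iff_eq_or_eq_neg.1 (mul_right_cancel₀ n0 e').symm with rfl | rfl
    · exact .inl (hy.trans hx.symm)
    · exact .inr (by rw [hx, hy, neg_smul])
  pos L pu h := by
    have := finL L
    have := freeL L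
    let B := Module.finBasis ℤ L
    exact ⟨_, (B ⟨0, by omega⟩).2, ncg pu B _ ⟨0, by omega⟩ (by simp)⟩
  r3 L pu h d := by
    have := finL L
    have := freeL L
    let B := Module.finBasis ℤ L
    by_contra! H
    let i : Fin (Module.finrank ℤ L) := ⟨0, by omega⟩
    let j : Fin (Module.finrank ℤ L) := ⟨1, by omega⟩
    let k : Fin (Module.finrank ℤ L) := ⟨2, by omega⟩
    have ij : j ≠ i := by simp [i, j]
    have ik : k ≠ i := by simp [i, k]
    have jk : k ≠ j := by simp [j, k]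
    have K : ∀ (a : L) l, B.repr a l = 1 → 32 ∣ sqNorm (cf a.1) ∧ ¬ 64 ∣ sqNorm (cf a.1) := fun a l e =>
      ⟨d _ a.2, H _ a.2 (ncg pu B a l e)⟩
    have h1 := K (B i) i (by simp)
    have h2 := K (B j) j (by simp)
    have h3 := K (B k) k (by simp)
    have h4 := K (B i + B j) i (by simp [ij])
    have h5 := K (B i + B k) i (by simp [ik])
    have h6 := K (B j + B k) j (by simp [jk])
    have h7 := K (B i + B j + B k) i (by simp [ij, ik])
    have e : sqNorm (cf (B i + B j + B k).1) = sqNorm (cf (B i + B j).1) + sqNorm (cf (B i + B k).1) +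
        sqNorm (cf (B j + B k).1) - sqNorm (cf (B i).1) - sqNorm (cf (B j).1) - sqNorm (cf (B k).1) := by
      simp only [sqNorm, cf, AddSubgroup.coe_add, Pi.add_apply, ← Finset.sum_add_distrib, ← Finset.sum_sub_distrib]
      exact Finset.sum_congr rfl fun _ _ => by ring
    omega

end H9.PA
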