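import Cfsg.Agent.H21.UM1

/-! S1819, Theorem A: one linear block over a field with at least four elements (normalizer and transfer). -/

set_option autoImplicit false
set_option linter.unusedVariables false
set_option linter.unusedSectionVars false

namespace H9.UM
open H9 hiding zj
open Cfsg Subgroup H28 H29 H29.PU H29.BB H28.GC H21.UM
open scoped commutatorElement

universe u
variable {X : Type u} [Group X] [Finite X] {B C U V Y A₁ A₂ : Subgroup X} {a g u y : X} {F : Type} [Field F] [Finite F]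

theorem tr3 (hU : IsElementaryAbelian 2 U) (h4 : V.relIndex U ≤ 4) (l : V ≤ U) (h1 : g ∈ 𝐍 U ⊓ 𝐍 V)
    (f : ∀ u ∈ U, ⁅g, u⁆ ∈ V → u ∈ V) (ha : a ∈ U) (a1 : a ∉ V) (hY : g ∈ 𝐍 Y) (aY : a ∈ Y) (VY : V ≤ Y) : U ≤ Y :=
  fun u hu => (em (u ∈ V)).elim (fun k => VY k) fun k =>
    let ⟨j, e⟩ := trans3 hU h4 l h1 f ha a1 hu k
    (mul_mem_cancel_left (conj_mem_of_mem_normalizer (pow_mem hY j) aY)).1 (VY e)

theorem ha : HA.{u} := fun X _ _ F _ _ T M B C A₁ A₂ z H => by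
  obtain ⟨D⟩ := H.hs
  have q := H.q4
  have TN := D.le_N q H.pg H.BT
  have BM := H.BT.trans H.TM
  have fin : Hs.KK B A₁ A₂ M → M ≤ 𝐍 B := fun k => (k.resolve_left fun e => H.sw (H.TM.trans e)).resolve_left
    fun e => H.sw fun t ht => D.symm.n₂_of (TN ht) (e (H.TM ht))
  have := D.ch
  obtain ⟨e, -⟩ | ⟨e, -⟩ | e := q_cases F
  · omega
  swap
  · exact fin (D.kk e H.cpM BM)
  by_cases PB : O₂ M ≤ B
  · exact fin (D.kk_le H.cpM BM PB)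
  set P := O₂ M
  have hP : IsPGroup 2 P := isPGroup_pCoreOf 2 M
  have nP : M ≤ 𝐍 P := le_normalizer_pCoreOf 2 M
  have PN : P ≤ 𝐍 B := H.OT.trans TN
  obtain ⟨h, h1, h2, h3, h4⟩ := H.tor
  have hB := D.nB_of h1.1 h1.2
  have hn := nP (H.nB hB)
  have i : P ⊓ 𝐍 A₁ ≤ B := fun y hy => by_contra fun n => by
    obtain ⟨a, a1, a2, a3⟩ := exists_fixed_mod (W := C) (ea_isPGroup D.ea₁) (hP.to_le inf_le_left) (inf_le_right : P ⊓ _ ≤ _)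
      fun l => let ⟨a, a1, a2⟩ := D.exists₁; a2 (l a1)
    have l := tr3 D.ea₁ (by rw [D.idx₁, e]) D.C₁ ⟨h1.1, D.NC hB⟩ h2 a1 a2 (Y := cmod (P ⊓ 𝐍 A₁) C)
      (le_normalizer_cmod (H := 𝐍 P ⊓ 𝐍 A₁ ⊓ 𝐍 C) (le_normalizer_inf (inf_le_left.trans inf_le_left)
        ((inf_le_left.trans inf_le_right).trans le_normalizer)) inf_le_right ⟨⟨hn, h1.1⟩, D.NC hB⟩)
      ⟨D.nBC (D.le₁ a1), fun u hu => commutatorElement_mem_comm.1 (a3 u hu)⟩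
      fun c hc => ⟨le_normalizer hc, fun u hu => comm_mem_of' (D.NC (PN hu.1)) hc⟩
    have := D.fi₁ hy.2 (D.n₂_of (PN hy.1) hy.2) (isPGroup_iff_mem.1 hP y hy.1) n
    rw [relIndex_eq_one.2 (show A₁ ≤ fm y C from fun a ha => ⟨(l ha).1, (l ha).2 y hy⟩)] at this
    omega
  obtain ⟨y, yP, yB⟩ := SetLike.not_le_iff_exists.1 PB
  have y1 : y ∉ 𝐍 A₁ := fun k => yB (i ⟨yP, k⟩)
  have k : ⁅y, h⁆ ∈ B := i ⟨comm_mem_of (B := M) nP yP (H.nB hB), (𝐍 A₁).mul_mem (by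
    rw [← (D.sw (PN yP) y1).2, ← cj_normalizer]; exact conj_mem_cj h1.2) (inv_mem h1.1)⟩
  have c0 : C ⊓ 𝐜 h = ⊥ := by
    rw [← h4 y (PN yP) y1, cj_eq_self (mem_normalizer_of_cj_le ?_), inf_idem]
    rintro _ ⟨c, hc, rfl⟩
    have m := (D.conj_memC (PN yP)).2 hc.1
    refine ⟨m, mem_c_symm.1 ?_⟩
    rw [show h = ⁅y, h⁆⁻¹ * (y * h * y⁻¹) by simp only [commutatorElement_def]; group]
    exact mul_mem (inv_mem (mem_c_of D.cenC k m)) (conj_mem_c.2 (mem_c_symm.1 hc.2))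
  rw [c0, card_bot, mul_one, e] at h3
  have CP : C ≤ 𝐂 P := tr3 D.eaC (V := ⊥) (by rw [relIndex_bot_left, h3]) bot_le ⟨D.NC hB, by rw [normalizer_bot]; trivial⟩
    (fun u hu e => c0.le ⟨hu, mem_c_comm.2 e⟩) H.zC H.z1 (normalizer_le_normalizer_centralizer _ hn)
    (le_c_iff.1 (H.OT.trans H.zT)) bot_le
  have CP' : C ≤ P := (le_inf (D.CB.trans BM) CP).trans H.cpM
  have cC := D.graph4 q (H.chC (ea_isPGroup D.eaC) H.zC (H.tc (sq_of_ea D.eaC H.zC) H.z1 H.zT)) D.cenC le_rfl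
  refine fun m hm => mem_normalizer_iff_cj.2 (D.cj_eq' q ((cj_le_of_mem_normalizer D.cenC
    (normalizer_le_normalizer_centralizer _ (mem_normalizer_of_cj_le ?_))).trans cC))
  rintro _ ⟨c, hc, rfl⟩
  have w1 := conj_mem_of_mem_normalizer (nP hm) (CP' hc)
  have w2 := conj_mem_of_mem_normalizer (normalizer_le_normalizer_centralizer _ (nP hm)) (CP hc)
  have w3 := conj_sq (g := m) (sq_of_ea D.eaC hc)
  by_cases wB : m * c * m⁻¹ ∈ B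
  · exact D.mem_of_sw (PN yP) y1 wB w3 (le_c_iff.2 w2 yP)
  have w4 : m * c * m⁻¹ ∉ 𝐍 A₁ := fun k => wB (i ⟨w1, k⟩)
  have := D.sw_idx (BM.trans nP) w1 (PN w1) w4
  rw [relIndex_eq_one.2 (show P ⊓ B ≤ A₁ from fun b hb => D.C₁ (D.cen_sw (PN w1) w4 (w3 ▸ one_mem _)
    (centralizer_anti CP' w2) hb.2 (le_c_iff.2 w2 hb.1)))] at this
  omega

theorem sign_aux (D : Hs F B C A₁ A₂) (q : 4 ≤ # F) (c₁ : ∀ a ∈ A₁, ∃ h ∈ 𝐍 A₁, a ∈ cj h C) (l : 𝐜 y ≤ 𝐍 B)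
    (hu : u ∈ 𝐍 B) (u1 : u ∉ 𝐍 A₁) (h : g * y * g⁻¹ ∈ A₁) : g * u * g⁻¹ ∉ 𝐍 A₁ := fun e => by
  obtain ⟨k, hk, e'⟩ := c₁ _ h
  have m : g⁻¹ * k ∈ 𝐍 B := mem_normalizer_iff_cj.2 (D.cj_eq' q (((D.conj _).cenC.trans
    (cen_le_c (by rw [← cj_cj, mem_cj, inv_inv]; exact e'))).trans l))
  have e1 : u ∈ 𝐍 (cj (g⁻¹ * k) A₁) := by
    rw [← cj_cj, cj_eq_self hk, ← cj_normalizer, mem_cj, inv_inv]; exact e
  rcases D.swap m with s | s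
  · exact u1 (cj_eq_self s.1 ▸ e1)
  · exact D.not₂ hu u1 (s.1 ▸ e1)

theorem hc : HC.{u} := fun X _ _ F _ _ T M B C A₁ A₂ z H l sc => by
  obtain ⟨D⟩ := H.hs
  have q := H.q4
  have hT := H.syl
  have TN := D.le_N q H.pg H.BT
  have z2 := sq_of_ea D.eaC H.zC
  have z4 := H.zT
  have sign : ∀ {u y g : X}, y * y = 1 → 𝐜 y ≤ 𝐍 B → u ∈ 𝐍 B → u ∉ 𝐍 A₁ → g * y * g⁻¹ ∈ B → g * u * g⁻¹ ∈ 𝐍 B →
      g * u * g⁻¹ ∉ 𝐍 A₁ := fun y2 l hu u1 h h' => (D.inv_or h (conj_sq y2)).elim (sign_aux D q H.c₁ l hu u1) fun k =>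
    D.symm.not₂ h' (sign_aux D.symm q H.c₂ l hu (D.not₂ hu u1) k)
  obtain ⟨u, u1, u2, g, s1, s2⟩ := tmin hT H.res (fun a ha b hb => D.two_N a (TN ha) b (TN hb)) H.sw
  have zT := H.BT (D.CB H.zC)
  obtain ⟨S, hS, l'⟩ := exists_isSylowIn_ge (hT.isPGroup.to_le inf_le_left) (inf_le_right : T ⊓ 𝐜 u ≤ _)
  obtain ⟨r, -, hr⟩ := hT.exists_conj_le hS.isPGroup le_top
  obtain ⟨k, hk, e⟩ := hS.exists_conj_le (isPGroup_cj g⁻¹ (pg_z z2)) (by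
    rw [cj_le_iff, inv_inv, cj_c, zpowers_le, mem_c_symm]; exact z4 s2)
  have e1 := TN (hr (conj_mem_cj (l' ⟨u1, self_mem_c u⟩)))
  have e2 := sign z2 l (TN u1) u2 (sc r (TN (hr (conj_mem_cj (l' ⟨zT, mem_c_symm.1 (z4 u1)⟩))))) e1
  have e3 : r * k * g⁻¹ * z * (r * k * g⁻¹)⁻¹ ∈ B := sc _ (TN (hr (by
    have := conj_mem_cj (g := r) (e (conj_mem_cj (conj_mem_cj (mem_zpowers z))))
    convert this using 1; group)))
  have e4 : r * u * r⁻¹ = r * k * g⁻¹ * (g * u * g⁻¹) * (r * k * g⁻¹)⁻¹ := by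
    conv_lhs => rw [← mem_c''.1 hk]
    group
  have e5 : r * u * r⁻¹ ∈ 𝐜 (r * k * g⁻¹ * z * (r * k * g⁻¹)⁻¹) := e4 ▸ conj_mem_c.2 (z4 s2)
  have e6 : (r * k * g⁻¹)⁻¹ ∈ 𝐍 B := mem_normalizer_iff_cj.2 (D.cj_eq' q (le_trans (by
    rw [cj_le_iff, inv_inv, cj_c]; exact D.cenC.trans (cen_le_c (D.mem_of_sw e1 e2 e3 (conj_sq z2) e5))) l))
  have := sign (g := (r * k * g⁻¹)⁻¹) (conj_sq z2) (cj_c _ z ▸ cj_le_of_mem l (inv_mem_iff.1 e6)) e1 e2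
    (by convert D.CB H.zC using 1; group)
  rw [e4, inv_inv, show ∀ a b : X, a⁻¹ * (a * b * a⁻¹) * a = b from fun a b => by group] at this
  exact this (TN s2) s1

end H9.UM
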