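import Cfsg.Agent.H9.Pd4
import Cfsg.Agent.S2079
import Cfsg.Agent.H16.Out

/-! # Outer involutions of `M(22)` -/

set_option autoImplicit false

open Subgroup H26

namespace H9

open FQ

variable {G H : Type*} [Group G] [Group H] {D : Set G} {E : Set H} {d e w a b k : H}

theorem card_fix {s t : MulAut G} (h : IsConj s t) : Nat.card {g // s g = g} = Nat.card {g // t g = g} := by
  obtain ⟨φ, rfl⟩ := isConj_iff.1 h
  exact Nat.card_congr (φ.toEquiv.subtypeEquiv fun g => by simp)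

theorem Sw.memE [T : TG E] {g x : H} (h : Sw d e g) (hx : x ∈ dcSet (dcSet E d) e) :
    g * x * g⁻¹ ∈ dcSet (dcSet E d) e :=
  ⟨⟨T.conj_mem g hx.1.1, h.2 ▸ Dn.conj hx.2 g⟩, h.1 ▸ Dn.conj hx.1.2 g⟩

theorem S4c.memE (h : S4c E d e w) (ha : a ∈ XX E d e w) : a ∈ dcSet (dcSet E d) e :=
  ⟨⟨ha.1, fun q => h.2.2.2.2.2 (q ▸ ha.2.1.symm), ha.2.2.2⟩, fun q => h.2.2.2.2.1 (q ▸ ha.2.1.symm), ha.2.2.1⟩

theorem K_le (hk : k ∈ centralizer {e, d}) : k ∈ centralizer {d * e} := memC.2 ((memK.1 hk).2.mul_left (memK.1 hk).1)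

variable (D E d e) in
/-- `M(22)` inside `M(24)` -/
structure Ov (π : H → G) (θ : centralizer {d * e} →* MulAut G) : Prop where
  m : IsM H26.M24 H E
  m' : IsM H26.M22 G D
  hd : d ∈ E
  he : e ∈ E
  n : Dn d e
  c : Cov (centralizer {e, d}) (closure {e, d}) (dcSet (dcSet E d) e) D π
  act : ∀ g : centralizer {d * e}, ∀ x ∈ centralizer {e, d}, θ g (π x) = π (g * x * g.1⁻¹)

theorem exists_ov (h : IsM H26.M22 G D) : ∃ (H : Type) (_ : Group H) (E : Set H) (d e : H) (π : H → G)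
    (θ : centralizer {d * e} →* MulAut G), Ov D E d e π θ := by
  have M := F24.isM
  have T := M.tg
  have := M.finite
  obtain ⟨⟨d, hd⟩, ⟨e, he⟩, n1, n2⟩ := (m24_of M).1.wide
  have n : Dn d e := TQ.mem_Dc.1 ⟨n1.symm, n2⟩
  obtain ⟨G', _, D', π, q, c⟩ := cov24_2 M hd he n
  obtain ⟨f, rfl⟩ := q.unique h
  obtain ⟨θ, hθ⟩ := (c.comp f).exists_aut (centralizer {d * e}) (fun g hg x hx =>
    (st_de hd he n (wt24 M) (memC.1 hg)).elim (fun k => mul_mem (mul_mem k hx) (inv_mem k)) (·.conj hx))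
    fun g hg x hx => (closure_le ((closure {e, d}).comap (MulAut.conj g).toMonoidHom)).2 (by
      rcases st_de hd he n (wt24 M) (memC.1 hg) with k | k <;> rintro _ (rfl | rfl) <;> apply Subgroup.subset_closure
      exacts [.inl (by simp [← (memK.1 k).1.eq]), .inr (by simp [← (memK.1 k).2.eq]), .inr k.2, .inl k.1]) hx
  exact ⟨_, _, _, d, e, _, θ, M, h, hd, he, n, c.comp f, hθ⟩

namespace Ov

variable {π : H → G} {θ : centralizer {d * e} →* MulAut G} (o : Ov D E d e π θ) {g : centralizer {d * e}}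
include o

theorem inn (hk : k ∈ centralizer {e, d}) : θ ⟨k, K_le hk⟩ = MulAut.conj (π k) := MulEquiv.ext fun y => by
  obtain ⟨x, hx, rfl⟩ := o.c.surj y
  rw [o.act _ x hx, o.c.map_conj hk hx]; rfl

theorem mem_Z (hk : k ∈ closure {e, d}) : k = 1 ∨ k = e ∨ k = d ∨ k = d * e :=
  o.n.2.eq ▸ mem_closure_two (o.m.tg.sq e o.he) (o.m.tg.sq d o.hd) o.n.2.symm hk

theorem pd : π d = 1 := (o.c.ker d (o.c.le (subset_closure (.inr rfl)))).2 (subset_closure (.inr rfl))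

theorem fix (h : Sw d e g.1) {y : G} : θ g y = y ↔ ∃ k ∈ centralizer {e, d}, Commute g.1 k ∧ π k = y := by
  have T := o.m.tg
  refine ⟨fun q => ?_, by rintro ⟨k, hk, c, rfl⟩; rw [o.act g k hk, c.eq, mul_inv_cancel_right]⟩
  obtain ⟨k, hk, rfl⟩ := o.c.surj y
  rw [o.act g k hk, o.c.eq_iff (h.conj hk) hk] at q
  have m : g * k * g.1⁻¹ * k⁻¹ ∈ commutator H := commutator_mem_commutator (mem_top _) (mem_top _)
  have md := o.c.le (subset_closure (.inr rfl) : d ∈ _)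
  rcases o.mem_Z q with u | u | u | u
  · exact ⟨k, hk, commutatorElement_eq_one_iff_commute.1 u, rfl⟩
  · exact (not_mem24 o.m o.he (u ▸ m)).elim
  · exact (not_mem24 o.m o.hd (u ▸ m)).elim
  refine ⟨k * d, mul_mem hk md, mul_inv_eq_iff_eq_mul.1 ?_, by rw [o.c.mul _ hk _ md, o.pd, mul_one]⟩
  rw [← conj_mul, h.1, mul_inv_eq_iff_eq_mul.1 u, mul_assoc, ← (memK.1 hk).1.eq, mul_assoc, ← mul_assoc e,
    T.sq e o.he, one_mul, (memK.1 hk).2.eq]

theorem outer (h : Sw d e g.1) : θ g ∉ Cfsg.Inn G := fun ⟨y, q⟩ => by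
  have T := o.m.tg
  obtain ⟨k, hk, rfl⟩ := o.c.surj y
  have s := h.mul' (inv_mem hk)
  refine s.not_cen o.hd o.he o.n o.m fun x hx => mul_inv_eq_iff_eq_mul.1 (o.c.inj _ (s.memE hx) _ hx ?_)
  rw [← o.inn hk] at q
  exact (o.act ((⟨k, K_le hk⟩ : centralizer {d * e})⁻¹ * g) x (o.c.sub x hx)).symm.trans (by
    rw [map_mul, map_inv, q, inv_mul_cancel]; rfl)

theorem of_outer {t : MulAut G} (h1 : t ∉ Cfsg.Inn G) (h2 : t * t = 1) :
    ∃ g : centralizer {d * e}, Sw d e g.1 ∧ g.1 * g = 1 ∧ θ g = t := by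
  have T := o.m.tg
  obtain ⟨w, -, -, hw, -⟩ := ex_s4 o.m o.hd o.he o.n
  have i2 : (Cfsg.Inn G).index = 2 := by
    obtain ⟨e, -⟩ := o.m'.unique H26.F22.isM
    exact (H16.card_out_congr e).trans Cfsg.Agent.S2079.result
  obtain ⟨y, q⟩ := (mul_mem_iff_of_index_two i2).2 (iff_of_false (mt inv_mem_iff.1
    (o.outer (g := ⟨_, memC.2 (hw.sw.comm o.n)⟩) hw.sw)) h1)
  obtain ⟨k, hk, rfl⟩ := o.c.surj y
  rw [← o.inn hk, eq_inv_mul_iff_mul_eq, ← map_mul] at q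
  have s := hw.sw.mul hk
  have hg := memC.2 (s.comm o.n)
  replace q : θ ⟨_, hg⟩ = t := q
  generalize w * vv d e w * k = g at s hg q
  have m := s.mul_sw s
  have : MulAut.conj (π (g * g)) = 1 := by rw [← o.inn m, ← h2, ← q, ← map_mul]; rfl
  have md := o.c.le (subset_closure (.inr rfl) : d ∈ _)
  rcases o.mem_Z ((o.c.ker _ m).1 (mem_bot.1 (o.m'.center_eq ▸ mem_center_iff.2 fun x =>
    (mul_inv_eq_iff_eq_mul.1 (DFunLike.congr_fun this x)).symm))) with u | u | u | u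
  · exact ⟨⟨g, hg⟩, s, u, q⟩
  · exact (s.symm.ne o.n.symm (u ▸ (Commute.refl g).mul_left (.refl g))).elim
  · exact (s.ne o.n (u ▸ (Commute.refl g).mul_left (.refl g))).elim
  refine ⟨⟨g, hg⟩ * ⟨d, K_le md⟩, s.mul md, ?_, by rw [map_mul, o.inn md, o.pd, map_one, mul_one, q]⟩
  show g * d * (g * d) = 1
  rw [show g * d * (g * d) = g * d * g⁻¹ * (g * g) * d by group, s.1, u, ← mul_assoc, ← o.n.2.eq, mul_assoc,
    mul_assoc, ← mul_assoc e, T.sq e o.he, one_mul, T.sq d o.hd]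

variable (h : S4c E d e w)
include h

theorem equiv {L : Subgroup H} (l : L ≤ centralizer {e, d} ⊓ centralizer {w}) : Nonempty (L ≃* o.c.img L) :=
  have T := o.m.tg
  o.c.img_equiv (l.trans inf_le_left) fun x p q => by
    have c := (memC.1 (l p).2).symm
    rcases o.mem_Z q with u | u | u | u <;> rw [u] at c
    exacts [u, (h.2.2.2.2.1 c).elim, (h.2.2.2.2.2 c).elim, (h.2.2.2.2.2 (comm2 o.hd o.he h.2.2.1 o.n c).1).elim]

theorem fix2 (e1 : g.1 = w * vv d e w) {y : G} :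
    y ∈ o.c.img (centralizer {e, d} ⊓ centralizer {w}) ↔ θ g y = y := by
  have T := o.m.tg
  rw [o.fix (e1 ▸ h.sw), o.c.mem_img inf_le_left, e1]
  refine ⟨fun ⟨k, ⟨a, b⟩, q⟩ => ⟨k, a, (memC.1 b).mul_left (vv_comm (memK.1 a).2 (memK.1 a).1 (memC.1 b)), q⟩, ?_⟩
  rintro ⟨k, hk, c, rfl⟩
  obtain ⟨h1, h2, h3⟩ := Cl3.cons.1 h.cl
  rcases st_de h1 (h3.1 _ (by simp)) (h2 _ (by simp)) (wt24 o.m) c with u | u
  · exact ⟨k, ⟨hk, memC.2 (memK.1 u).2⟩, rfl⟩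
  have m : d * e ∈ closure {e, d} := mul_mem (subset_closure (.inr rfl)) (subset_closure (.inl rfl))
  refine ⟨k * (d * e), ⟨mul_mem hk (o.c.le m), memC.2 (mul_inv_eq_iff_eq_mul.1 ?_).symm⟩, by
    rw [o.c.mul _ hk _ (o.c.le m), (o.c.ker _ (o.c.le m)).2 m, mul_one]⟩
  refine .trans ?_ u.2
  rw [vv]; group

variable (ha : a ∈ XX E d e w)
include ha

theorem img3 : o.c.img (centralizer {e, d} ⊓ centralizer {w}) ⊓ centralizer {π a} =
    o.c.img (centralizer {e, d} ⊓ centralizer {w} ⊓ centralizer {a}) := by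
  ext y
  rw [mem_inf, o.c.mem_img inf_le_left, o.c.mem_img (inf_le_left.trans inf_le_left)]
  exact ⟨fun ⟨⟨k, p, q⟩, r⟩ => ⟨k, ⟨p, memC.2 ((o.c.comm_iff p.1 (h.memE ha)).1 (q ▸ (memC.1 r).symm)).symm⟩, q⟩,
    fun ⟨k, ⟨p, r⟩, q⟩ => ⟨⟨k, p, q⟩, q ▸ memC.2 ((o.c.comm_iff p.1 (h.memE ha)).2 (memC.1 r).symm).symm⟩⟩

theorem fix3 (e1 : g.1 = w * vv d e w) (hb : b ∈ dcSet (XX E d e w) a) {y : G} : (θ g * MulAut.conj (π a)) y = y ↔
    y ∈ o.c.img (centralizer {e, d} ⊓ centralizer {w}) ⊓ centralizer {π a} := by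
  have T := o.m.tg
  have ma := o.c.sub a (h.memE ha)
  rw [mem_inf, o.fix2 h e1, memC]
  refine ⟨fun q => ?_, fun ⟨p, q⟩ => by rw [MulAut.mul_apply, MulAut.conj_apply, q.eq, mul_inv_cancel_right, p]⟩
  suffices c : Commute (π a) y from
    ⟨by rwa [MulAut.mul_apply, MulAut.conj_apply, c.eq, mul_inv_cancel_right] at q, c⟩
  rw [← o.inn ma, ← map_mul, o.fix ((e1 ▸ h.sw).mul ma)] at q
  obtain ⟨k, hk, c, rfl⟩ := q
  have l := (h.tet ha hb).1.sublist (l' := [w, vv d e w, a]) (by simp)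
  have := ((wt24 o.m).iff (l.conj (fun g x => T.conj_mem g) k) l (by simp) (by simp) (by
    rw [prod_map_conj, mul_inv_eq_iff_eq_mul]; simpa [e1, mul_assoc] using c.symm.eq) (k * a * k⁻¹)).1 (by simp)
  have p := ((memK.1 hk).2.mul_right ha.2.2.2).mul_right (memK.1 hk).2.inv_right
  have q := ((memK.1 hk).1.mul_right ha.2.2.1).mul_right (memK.1 hk).1.inv_right
  simp only [List.mem_cons, List.not_mem_nil, or_false] at this
  rcases this with u | u | u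
  exacts [(h.2.2.2.2.2 (u ▸ p)).elim, (h.nv (u ▸ p) (u ▸ q)).elim,
    ((o.c.comm_iff hk (h.memE ha)).2 (mul_inv_eq_iff_eq_mul.1 u)).symm]

omit h ha in
theorem third {z : H} [T24 E z] (s : Sw d e z) : ∃ C : Subgroup G,
    (∀ y, y ∈ C ↔ θ ⟨z, memC.2 (s.comm o.n)⟩ y = y) ∧ Nat.card C = 3317760 ∧
    Cfsg.IsElementaryAbelian 2 (Cfsg.pCore 2 C) ∧ Nat.card (Cfsg.pCore 2 C) = 64 ∧
      ∃ φ : C →* Cfsg.isometryGroup (ZMod 2) (Cfsg.quadFormMinus 2 (ZMod 2) 1 1),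
        Function.Surjective φ ∧ φ.ker = Cfsg.pCore 2 C := by
  have le : centralizer {z} ⊓ centralizer {d} ≤ centralizer {e, d} := fun k hk => memK.2 ⟨s.1 ▸
    ((memC.1 hk.1).mul_left (memC.1 hk.2)).mul_left (memC.1 hk.1).inv_left, memC.1 hk.2⟩
  refine ⟨(o.c.hom.comp (inclusion le)).range, fun y => ?_, s.third o.hd o.he o.n _
    (MonoidHom.rangeRestrict_surjective _) fun k => ?_⟩
  · rw [o.fix s]
    exact ⟨fun ⟨k, q⟩ => ⟨k, le k.2, memC.1 k.2.1, q⟩, fun ⟨k, p, q, r⟩ => ⟨⟨k, memC.2 q, memC.2 (memK.1 p).2⟩, r⟩⟩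
  refine Subtype.ext_iff.trans ((o.c.ker _ (le k.2)).trans ⟨fun q => ?_, ?_⟩)
  · have c := (memC.1 k.2.1).symm
    rcases o.mem_Z q with u | u | u | u
    exacts [.inl u, (s.symm.ne o.n.symm (u ▸ c)).elim, (s.ne o.n (u ▸ c)).elim, .inr u]
  · rintro (u | u) <;> rw [u]
    exacts [one_mem _, mul_mem (subset_closure (.inr rfl)) (subset_closure (.inl rfl))]

end Ov

end H9
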