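/-
S5211: models given by words.
-/
import Cfsg.Agent.H22.GV1
import Cfsg.Agent.H16.Basic

set_option autoImplicit false
set_option linter.unusedSectionVars false

namespace H9.GL
open H16 H25.GC H25.GC.Gc H22.GV

variable {p : ℕ} [Fact p.Prime] {G : Type*} [Group G] {y : ℕ → G} {ev : Gc (ZMod p) →* G}

/-- the root elements -/
def rt (p : ℕ) [Fact p.Prime] (k : ℕ) : Gc (ZMod p) := [xa 1, xu 1, xs 1, xr 1, xv 1, xz 1].getD k 1
/-- `ev` sends the root elements to the first six letters -/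
def Ev (ev : Gc (ZMod p) →* G) (y : ℕ → G) : Prop := ∀ k < 6, ev (rt p k) = y k
theorem Ev.of (h : ev (xa 1) = y 0 ∧ ev (xu 1) = y 1 ∧ ev (xs 1) = y 2 ∧ ev (xr 1) = y 3 ∧ ev (xv 1) = y 4 ∧ ev (xz 1) = y 5) :
    Ev ev y := fun k hk => by
  obtain ⟨a, b, c, d, e, f⟩ := h
  interval_cases k <;> assumption
theorem Ev.wd (h : Ev ev y) {W : List ℕ} (hW : ∀ k ∈ W, k < 6) : ev (evA (rt p) W) = evA y W :=
  (map_evA _ ev W).trans (evA_congr _ fun k hk => h k (hW k hk))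
theorem Ev.cj (h : Ev ev y) {g i : ℕ} {W : List ℕ} (e : evA y [i, g] = evA y (g :: W)) {c c' : Gc (ZMod p)}
    (k : i < 6 ∧ (∀ k ∈ W, k < 6) ∧ rt p i = c ∧ evA (rt p) W = c') : y g * ev c * (y g)⁻¹ = ev c' := by
  rw [← k.2.2.1, ← k.2.2.2, h.wd k.2.1, h i k.1, mul_inv_eq_iff_eq_mul]; simpa using e
theorem Ev.mem (h : Ev ev y) {H : Subgroup G} (m : ∀ k < 6, y k ∈ H) (c : Gc (ZMod p)) : ev c ∈ H :=
  gmem (X := (H.comap ev).toSubmonoid) c (.inr (show ev _ ∈ H from h 0 (by omega) ▸ m 0 (by omega)))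
    (.inr (show ev _ ∈ H from h 1 (by omega) ▸ m 1 (by omega))) (show ev _ ∈ H from h 2 (by omega) ▸ m 2 (by omega))
    (show ev _ ∈ H from h 3 (by omega) ▸ m 3 (by omega)) (show ev _ ∈ H from h 4 (by omega) ▸ m 4 (by omega))
    (show ev _ ∈ H from h 5 (by omega) ▸ m 5 (by omega))
/-- the relations as pairs of words -/
def RP (p : ℕ) : List (List ℕ × List ℕ) := [(.replicate p 0, []), (.replicate p 1, []), (.replicate p 2, []), (.replicate p 3, []),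
  (.replicate p 4, []), (.replicate p 5, []), ([0, 1], [5, 4, 3, 2, 1, 0]), ([0, 2], [5, 5, 5, 4, 4, 4, 3, 3, 2, 0]),
  ([0, 3], [4, 4, 4, 3, 0]), ([0, 4], [4, 0]), ([0, 5], [5, 0]), ([1, 2], [2, 1]), ([1, 3], [3, 1]), ([4, 1], [5, 1, 4]),
  ([1, 5], [5, 1]), ([2, 3], [5, 5, 5, 3, 2]), ([2, 4], [4, 2]), ([2, 5], [5, 2]), ([3, 4], [4, 3]), ([3, 5], [5, 3]), ([4, 5], [5, 4])]
theorem evA_rep (y : ℕ → G) (k n : ℕ) : evA y (.replicate n k) = y k ^ n := by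
  induction n with
  | zero => simp
  | succ n ih => rw [List.replicate_succ, evA_cons, ih, pow_succ]
theorem rl_of (h : ∀ d ∈ RP p, evA y d.1 = evA y d.2) : Rl p (y 0) (y 1) (y 2) (y 3) (y 4) (y 5) := by
  simp only [RP, List.forall_mem_cons, evA_rep, evA_cons, evA_nil, one_mul] at h
  obtain ⟨h1, h2, h3, h4, h5, h6, h7, h8, h9, h10, h11, h12, h13, h14, h15, h16, h17, h18, h19, h20, h21, -⟩ := h
  exact ⟨h1, h2, h3, h4, h5, h6, h7, by rw [h8]; simp only [pow_succ, pow_zero, one_mul, mul_assoc],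
    by rw [h9]; simp only [pow_succ, pow_zero, one_mul, mul_assoc], h10, h11, h12.symm, h13.symm, h14, h15.symm,
    by rw [h16]; simp only [pow_succ, pow_zero, one_mul, mul_assoc], h17.symm, h18.symm, h19.symm, h20.symm, h21.symm⟩
theorem ex_ev (h : ∀ d ∈ RP p, evA y d.1 = evA y d.2) (h3 : (3 : ZMod p) ≠ 0) (z : y 5 ≠ 1) :
    ∃ ev : Gc (ZMod p) →* G, Function.Injective ev ∧ Ev ev y :=
  let ⟨ev, a, b⟩ := (rl_of h).ex' h3 z; ⟨ev, a, .of b⟩

end H9.GL
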