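/-
S5211, q = 2: the models `G₂(2)`, `M₁₂`, `G₂(3)`.
-/
import Cfsg.Agent.H25.GC1
import Cfsg.Agent.H9.GL1
import Cfsg.Agent.H16.M.G23
import Cfsg.Agent.H16.M.J2A
import Cfsg.Agent.H15.M.M12

set_option autoImplicit false
set_option linter.unusedSectionVars false
set_option maxRecDepth 100000

namespace H9.GM
open H16 H25 H25.GC H25.GC.Gc H2.G H9.GL

/-- the normal form of `c` -/
def nf (c : Gc (ZMod 2)) : List ℕ :=
  [5, 4, 3, 2, 1, 0].filter fun k => [c.a, c.u, c.s, c.r, c.v, c.z + c.s * c.r + c.u * c.v].getD k 0 = 1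
theorem nf_ev : ∀ c, evA (rt 2) (nf c) = c ∧ ∀ k ∈ nf c, k < 6 := by decide +kernel
/-- a lift of `nR` -/
def mR (c : Gc (ZMod 2)) : Gc (ZMod 2) := ⟨0, c.r, c.v + c.r, c.u, c.s + c.u, c.z + c.s * c.r + c.u * c.v⟩
/-- the number of fixed points of a word -/
noncomputable def fx (P : ℕ → ℕ → ℕ) (n : ℕ) (W : List ℕ) : ℕ := ((Finset.range n).filter fun i => apW P W i = i).card

section
variable {G Ω : Type} [Group G] [MulAction G Ω] {g : ℕ → G} {pt : ℕ → Ω} {P : ℕ → ℕ → ℕ} {n K : ℕ} {B : List ℕ}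
  {V : List (List ℕ)} {ev : Gc (ZMod 2) →* G}

theorem fx_le (h : Act g pt P n K) (i : PtInj pt n) {y : ℕ → G} {P' : ℕ → ℕ → ℕ} (h' : Act y pt P' n 6) {a : G}
    (ha : a ∈ gen g K) {W W' : List ℕ} (w : ∀ k ∈ W, k < 6) (w' : ∀ k ∈ W', k < 6) (e : a * evA y W * a⁻¹ = evA y W') :
    fx P' n W ≤ fx P' n W' := by
  choose! σ s1 s2 using fun j (hj : j < n) => h.exists_smul ha hj
  refine Finset.card_le_card_of_injOn σ (fun j hj => ?_) fun j hj k hk e' => ?_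
  · simp only [Finset.coe_filter, Finset.mem_range, Set.mem_ofPred_eq] at hj ⊢
    refine ⟨s1 j hj.1, i _ (h'.apW w' (s1 j hj.1)).1 _ (s1 j hj.1) ?_⟩
    rw [← (h'.apW w' (s1 j hj.1)).2, ← e, ← s2 j hj.1, mul_smul, inv_smul_smul, mul_smul, (h'.apW w hj.1).2, hj.2]
  · simp only [Finset.coe_filter, Finset.mem_range, Set.mem_ofPred_eq] at hj hk
    exact i _ hj.1 _ hk.1 (smul_left_cancel a (by rw [s2 j hj.1, s2 k hk.1, e']))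

/-- the data of a model -/
structure Dt (g : ℕ → G) (pt : ℕ → Ω) (P : ℕ → ℕ → ℕ) (n K : ℕ) (B : List ℕ) (V : List (List ℕ)) : Prop where
  act : Act g pt P n K
  inj : PtInj pt n
  bl : ltAll n B = 0
  ba : IsBase (gen g K) pt B
  ca : ¬ 128 ∣ Nat.card (gen g K)
  ck : allL (ltAll K) V = true ∧ allL (fun d => eqL (wdsP P V) 9 B d.1 d.2) (RP 2) = true ∧
    (∃ i < n, apW (wdsP P V) [5] i ≠ i) ∧ ∀ c : Gc (ZMod 2), c.u = 0 → eqL (wdsP P V) 9 B (nf c ++ [6]) (6 :: nf (m2 c)) = 0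

theorem Dt.eq (h : Dt g pt P n K B V) {W W' : List ℕ} (e : eqL (wdsP P V) 9 B W W' = 0) :
    evA (wds g V) W = evA (wds g V) W' := eqL_sound (h.act.wds h.ck.1 9) h.bl (h.ba.mono (gen_wds_le h.ck.1 9)) e
theorem Dt.mem (h : Dt g pt P n K B V) (k : ℕ) : wds g V k ∈ gen g K := gen_wds_le h.ck.1 (k + 1) (mem_gen _ k.lt_succ_self)
theorem Dt.cj (h : Dt g pt P n K B V) (e : Ev ev (wds g V)) {j : ℕ} {c c' : Gc (ZMod 2)}
    (k : eqL (wdsP P V) 9 B (nf c ++ [j]) (j :: nf c') = 0) : wds g V j * ev c * (wds g V j)⁻¹ = ev c' := by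
  have := h.eq k
  rw [evA_append, evA_cons, evA_cons, ← e.wd (nf_ev c).2, ← e.wd (nf_ev c').2, (nf_ev c).1, (nf_ev c').1] at this
  rw [mul_inv_eq_iff_eq_mul]; simpa using this
theorem Dt.pos (h : Dt g pt P n K B V) (e : Ev ev (wds g V)) {f : AZ (ZMod 2)} (j : ℕ) (m : Gc (ZMod 2) → Gc (ZMod 2))
    (k : ∀ c : Gc (ZMod 2), c.a = 0 → (m c).a = 0 ∧ eqL (wdsP P V) 9 B (nf c ++ [j]) (j :: nf (m c)) = 0 ∧ pv (m c) = f (pv c)) :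
    f ∈ imZ ev (gen g K) := ⟨_, h.mem j, fun c hc => ⟨_, (k c hc).1, h.cj e (k c hc).2.1, (k c hc).2.2⟩⟩
theorem Dt.neg (h : Dt g pt P n K B V) (e : Ev ev (wds g V)) {f : AZ (ZMod 2)}
    (k : ∀ c : Gc (ZMod 2), c.a = 0 → pv c = f (pv (xv 1)) → fx (wdsP P V) n (nf c) < fx (wdsP P V) n (nf (xv 1))) :
    f ∉ imZ ev (gen g K) := fun ⟨a, ha, q⟩ => by
  obtain ⟨c, h1, h2, h3⟩ := q (xv 1) rfl
  refine (k c h1 h3).not_ge (fx_le h.act h.inj (h.act.wds h.ck.1 6) ha (nf_ev _).2 (nf_ev _).2 ?_)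
  rwa [← e.wd (nf_ev c).2, ← e.wd (nf_ev _).2, (nf_ev c).1, (nf_ev _).1]
theorem Dt.mo [Finite G] (h : Dt g pt P n K B V) {a b : Prop}
    (k : ∀ ev, Ev ev (wds g V) → (nZ ∈ imZ ev (gen g K) ↔ a) ∧ (nR ∈ imZ ev (gen g K) ↔ b)) : Mo a b := by
  obtain ⟨i, hi, z⟩ := h.ck.2.2.1
  obtain ⟨ev, i, e⟩ := ex_ev (p := 2) (fun d hd => h.eq (allL_sound h.ck.2.1 d hd)) (by decide)
    (by simpa using (h.act.wds h.ck.1 9).ne_one h.inj ⟨rfl, hi, z⟩)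
  have le : ev.range ≤ gen g K := by rintro _ ⟨c, rfl⟩; exact e.mem (fun k _ => h.mem k) c
  refine ⟨G, _, ‹_›, ev, gen g K, i, ⟨le, fun d => h.ca ?_⟩, ⟨_, h.mem 6, fun c hc => h.cj e (h.ck.2.2.2 c hc)⟩, k ev e⟩
  rw [← (ev.range.subgroupOf (gen g K)).card_mul_index, Nat.card_congr (Subgroup.subgroupOfEquivOfLe le).toEquiv,
    ← Nat.card_congr (MonoidHom.ofInjective i).toEquiv, Gc.card, Nat.card_zmod]
  exact Nat.mul_dvd_mul_left 64 d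
end

def Va : List (List ℕ) := [[3, 2, 3], [0, 1, 0, 1, 2, 3, 2, 0, 1, 0, 1], [1, 0, 3, 2, 0, 1, 3], [1, 0, 1, 2, 1, 0, 1],
  [1, 0, 2, 3, 2, 0, 1], [0, 1, 0, 1, 2, 0, 1, 0, 1, 3, 2, 0, 1, 0, 1], [2, 0, 1, 2, 0, 1, 0, 2, 0, 3, 2, 0, 1, 0, 1, 2, 1],
  [0, 1, 0, 3]]
theorem da : Dt J2A.g (ptF 100) J2A.P 100 4 J2A.B Va :=
  ⟨J2A.act.mono (by omega), ptF_inj _, J2A.Blt, J2A.isBase.mono (gen_mono _ (by omega)),
    by rw [J2A.chain.tail.card' (K := 4) (c := 12096) (ptF_inj _) (by decide +kernel)]; omega, by decide +kernel⟩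
theorem ma : MA := da.mo fun _ e =>
  ⟨iff_true_intro (da.pos e 7 m1 (by decide +kernel)), iff_false_intro (da.neg e (by decide +kernel))⟩

def Vb : List (List ℕ) := [[4, 1, 5, 0, 0, 6, 1, 7, 4], [1, 4, 5, 2, 6, 7, 4, 0], [4, 6, 0, 0, 5, 7, 4], [2, 4, 5, 1, 6, 7, 4, 3],
  [4, 2, 5, 3, 6, 0, 0, 5, 7, 4], [4, 3, 5, 0, 0, 6, 3, 7, 4], [4, 0, 2, 5, 3, 6, 0, 3, 7, 4], [1, 5, 3, 6]]
theorem db : Dt H15.MM12.g H15.pt H15.MM12.P 24 8 H15.MM12.B Vb :=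
  ⟨H15.MM12.act, H15.MM12.inj, H15.MM12.Blt, H15.MM12.isBase, by rw [H15.MM12.card]; omega, by decide +kernel⟩
theorem mb : MB := db.mo fun _ e =>
  ⟨iff_false_intro (db.neg e (by decide +kernel)), iff_true_intro (db.pos e 7 mR (by decide +kernel))⟩

def Vc : List (List ℕ) := [[2, 4, 0, 5, 1, 4, 3], [2, 0, 2, 1, 4, 0, 2, 1, 2], [0, 2, 1, 3, 0, 2, 4, 0, 3, 3, 5, 0, 4, 0, 3, 1],
  [2, 1, 4, 1, 2, 2, 5, 4, 0, 5], [0, 2, 0, 2, 1, 4, 0, 0, 3, 5, 4, 0, 5, 0, 5], [3, 0, 2, 0, 4, 1, 1, 4, 5, 0, 0, 4, 5, 4],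
  [0, 0, 0, 4, 0, 3, 3, 4, 0, 5, 0, 4, 1, 1, 5], [0, 0, 2, 4, 2, 2, 4, 3, 0, 5, 0, 0, 0], [1, 1, 4, 2, 5, 4, 0, 0]]
theorem dc : Dt G23.g (ptF 364) G23.P 364 6 G23.B Vc :=
  ⟨G23.act, ptF_inj _, G23.Blt, G23.isBase, by rw [G23.card]; omega, by decide +kernel⟩
theorem mc : MC := dc.mo fun _ e =>
  ⟨iff_true_intro (dc.pos e 7 m1 (by decide +kernel)), iff_true_intro (dc.pos e 8 mR (by decide +kernel))⟩

end H9.GM
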