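/-
S5211, p = 3: the chunks `N3` and `ZT`.
-/
import Cfsg.Agent.H2.G30

set_option autoImplicit false
set_option linter.unusedSectionVars false
set_option linter.unusedSimpArgs false

namespace H9.G3
open Cfsg Subgroup H25 H25.FS H25.GC H25.GC.Gc H2.G
open H8.PU hiding Co Wt Wy Md Ck G2 S2 N2 E2 TR MD
universe u v
variable {K : Type v} [Field K] [Finite K] [CharP K 3] {Γ : Type u} [Group Γ] [Finite Γ]

theorem n3 : N3 K Γ := fun S A ev M1 M2 h y hA ⟨τ, hτ, w⟩ ⟨g, hg, q⟩ => by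
  have t := h3 (K := K)
  have q1 := (h.invZ (acM y)).mul q
  obtain ⟨β, rfl⟩ : ∃ β, g = M1 * β := ⟨M1⁻¹ * g, by simp⟩
  rw [inv_mul_cancel, inv_mul_cancel_left] at q1
  have q2 : ∀ c : Gc K, ∃ x, c.a = 0 → β * ev c * β⁻¹ = ev (c * xz x) := fun c => by
    by_cases hc : c.a = 0
    · obtain ⟨c', h1, h2, h4⟩ := q1 c hc
      simp only [H24.SP.one_ap, pv, Prod.mk.injEq] at h4
      exact ⟨c'.z - c.z, fun _ => h2.trans (congrArg ev (by ext <;> simp [h1, hc, h4]))⟩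
    · exact ⟨0, fun e => absurd e hc⟩
  choose f e using q2
  have ad : ∀ c d : Gc K, c.a = 0 → d.a = 0 → f (c * d) = f c + f d := fun c d hc hd => by
    have := e (c * d) (by simp [hc, hd])
    rw [map_mul, ← conj_mul, e c hc, e d hd] at this
    gs h [hc, hd] at this
    linear_combination -this
  have f1 : f 1 = 0 := by simpa using ad 1 1 rfl rfl
  have iv : ∀ c : Gc K, c.a = 0 → f c⁻¹ = -f c := fun c hc => by
    have := ad c c⁻¹ hc (by simp [hc])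
    rw [mul_inv_cancel, f1] at this
    linear_combination -this
  have fz : ∀ x, f (xz x) = 0 := fun x => by
    rw [show xz x = xu 1 * xv x * (xu 1)⁻¹ * (xv x)⁻¹ by ext <;> simp, ad _ _ (by simp) (by simp), ad _ _ (by simp) (by simp),
      ad _ _ rfl rfl, iv _ rfl, iv _ rfl]; ring
  have fs : ∀ c : Gc K, c.a = 0 → f (sc 1 (-1) (.refl K) c) = -f c := fun c hc => by
    rw [show sc 1 (-1) (.refl K) c = c⁻¹ * xz (2 * c.z - c.u * c.v + 3 * c.s * c.r) by ext <;> simp [hc]; ring,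
      ad _ _ (by simp [hc]) rfl, fz, iv c hc, add_zero]
  have eg : ∀ c : Gc K, c.a = 0 → M1 * β * ev c * (M1 * β)⁻¹ = ev (m1 (c * xz (f c))) := fun c hc => by
    rw [cj_mul2, e c hc, y.f1 _ (by simp [hc])]
  have k : Agree ((Q1 K).map ev) (M1 * β * β * τ) (τ * (M1 * β)) := by
    rintro _ ⟨c, hc, rfl⟩
    have h1 : (sc 1 (-1) (.refl K) c).a = 0 := by simpa using mQ1.1 hc
    rw [cj_mul2 τ, eg c hc, w.cj, cj_mul2 _ τ, w.cj, cj_mul2 _ β, e _ h1, eg _ (by simpa using mQ1.1 hc), ad _ _ h1 rfl, fz, fs c hc]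
    gs h [mQ1.1 hc]
    grind
  have := k.mem_of_cz_le hA (mul_mem hτ hg)
  rw [mul_mem_cancel_right hτ, mul_mem_cancel_left hg] at this
  exact (mul_mem_cancel_right this).1 hg

/-- central automorphisms -/
def ζ (d e : K) : MulAut (Gc K) :=
  have t := h3 (K := K)
  { toFun := fun c => ⟨c.a, c.u, c.s, c.r - d * c.u, c.v, c.z + e * c.a⟩
    invFun := fun c => ⟨c.a, c.u, c.s, c.r + d * c.u, c.v, c.z - e * c.a⟩
    left_inv := fun c => by simp
    right_inv := fun c => by simp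
    map_mul' := fun c d => by ext <;> simp only [mul_a, mul_u, mul_s, mul_r, mul_v, mul_z] <;> grind }
theorem ζ_ap (d e : K) (c : Gc K) : ζ d e c = ⟨c.a, c.u, c.s, c.r - d * c.u, c.v, c.z + e * c.a⟩ := rfl
theorem cub {d : K} (h : ∀ k, k ≠ 0 → k ^ 2 * d = d) (x : K) : d * x ^ 3 = d * x := by
  by_cases e : x = 0
  · simp [e]
  · linear_combination x * h x e
theorem fix {d : K} (h : ∀ k, k ≠ 0 → k ^ 2 * d = d) (c : d ≠ 0) (φ : K ≃+* K) (x : K) : φ x = x := by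
  have : x * ((x - 1) * (x + 1)) = 0 := mul_left_cancel₀ c (by linear_combination cub h x)
  simp only [mul_eq_zero, sub_eq_zero, add_eq_zero_iff_eq_neg] at this
  obtain rfl | rfl | rfl := this <;> simp
theorem fix' {d : K} (h : ∀ k, k ≠ 0 → k ^ 2 * d = d) (φ : K ≃+* K) : φ d = d := by
  by_cases c : d = 0
  · simp [c]
  · exact fix h c φ d
theorem gr_ζ {d e : K} (hd : ∀ k, k ≠ 0 → k ^ 2 * d = d) (he : ∀ k, k ≠ 0 → k ^ 2 * e = e) (c : Gc K) :
    ζ d e (gr c) = gr (ζ e d c) := by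
  have t := h3 (K := K)
  have := cub hd c.a
  have := cub he c.u
  have := cub he (e * c.u)
  have : e ^ 3 = e := by by_cases q : e = 0 <;> [simp [q]; linear_combination he e q]
  ext <;> simp only [ζ_ap, gr_a, gr_u, gr_s, gr_r, gr_v, gr_z, cube_sub] <;> grind
theorem sc_ζ {d e k l : K} (hd : ∀ k, k ≠ 0 → k ^ 2 * d = d) (he : ∀ k, k ≠ 0 → k ^ 2 * e = e) (k0 : k ≠ 0) (l0 : l ≠ 0)
    (φ : K ≃+* K) (c : Gc K) : ζ d e (sc k l φ c) = sc k l φ (ζ d e c) := by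
  have := hd k k0
  have := he _ (mul_ne_zero k0 l0)
  ext <;> simp only [ζ_ap, sc, map_sub, map_add, map_mul, fix' hd, fix' he] <;> grind
theorem step {S : Subgroup Γ} {ev : Gc K →* Γ} {γ : Γ} {F : FS Γ} {d e : K} (h : Co S ev)
    (k : ∀ c, γ * ev c * γ⁻¹ = ev (ζ d e c)) (m : zZ d * nZ * (zZ d)⁻¹ ∈ imZ ev (F.A ((Q1 K).map ev))) :
    nZ ∈ imZ ev ((cjs γ F).A ((Q1 K).map ev)) := by
  obtain ⟨g, hg, q⟩ := m
  have a : AcZ ev γ (zZ d)⁻¹ := fun c hc => ⟨ζ d e c, hc, k c, rfl⟩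
  rw [cjs_A' (AcZ.nz a)]
  exact ⟨_, conj_mem_cj γ hg, by simpa [mul_assoc] using (a.mul q).mul (h.invZ a)⟩

theorem zt : ZT K Γ := fun S L C0 ev M1 M2 g0 F m o n ft d e hd he a b => by
  wlog x : ∀ k ∈ F.A S, k * g0⁻¹ ∈ C0 → e = d generalizing e
  · push Not at x
    obtain ⟨k, hk, h1, h2⟩ := x
    refine this d hd ?_ fun _ _ _ => rfl
    obtain ⟨r, t, φ, w⟩ := m.wt _ h1
    obtain rfl : φ = .refl K := RingEquiv.ext fun x => by
      by_cases c : d = 0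
      exacts [fix he (c ▸ h2) φ x, fix hd c φ x]
    obtain ⟨τ, hτ, w'⟩ := ft r t w.k0 w.l0
    have := mul_mem (inv_mem hk) ((m.agW w w').mem_A hτ)
    rw [inv_mul_cancel_left, ← n.eS] at this
    rwa [cjs_eq_of_mem_A this]
  obtain ⟨γ, q⟩ := o (ζ d e)
  refine ⟨γ, m.aS q, n.cj m.CS' (m.aS q) fun k hk => ?_, step m.toCo q a, ?_⟩
  · refine Agree.mem_of_cz_le (P := S) (.symm ?_) ((cz_le_ai S S).trans le_sup_right) (mem_sup_left hk.1)
    refine m.top ▸ m.agc q (fun _ => Iff.rfl) fun c _ => ?_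
    obtain h | h := m.mem' hk.1 <;> obtain ⟨r, t, φ, w⟩ := m.wt _ h
    · rw [w.cj, w.cj, q, sc_ζ hd he w.k0 w.l0]
    · obtain rfl := x k hk.2 h
      rw [← inv_mul_cancel_right k g0, cj_mul2 _ g0, cj_mul2 _ g0, m.gj, m.gj, w.cj, w.cj, q, sc_ζ hd he w.k0 w.l0, gr_ζ hd he]
  · rw [cjs_cjs, show g0⁻¹ * γ = g0⁻¹ * γ * g0 * g0⁻¹ by group, ← cjs_cjs]
    refine step m.toCo (e := d) (fun c => ?_) b
    rw [cj_mul2, cj_mul2, m.gj, q, gr_ζ hd he, ← m.gj]; group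

end H9.G3
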