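import Cfsg.Agent.H9.Tc6

/-! Three-local data of type `U₆(2)` and `Co₂`: the sections satisfy the hypothesis of Prince's theorem. -/

set_option autoImplicit false
set_option linter.unusedSectionVars false

open Cfsg Subgroup
namespace H9.TC
open H0 H0.PM H16 H19 H10.X H2.L3
open scoped commutatorElement

universe u
variable {G : Type u} [Group G] [Finite G] {X : Type u} [Group X] [Finite X]
  {A B D J K M P Q R S U W Y Q₁ Q₂ R₁ R₂ : Subgroup G}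
  {a a' b c d g j k m n q r t u y x z r₁ r₂ a₁ b₁ a₂ b₂ : G} {φ : F4 → G} {p v w : F4} {π : G → X}

local notation "𝔷" => zpowers z
local notation "𝔔" => Q₁ ⊔ Q₂
local notation "𝔖" => Q₁ ⊔ Q₂ ⊔ zpowers x
local notation "𝔄" => (Q₁ ⊔ Q₂) ⊓ FX (zpowers z) x
local notation "𝔍" => (Q₁ ⊔ Q₂) ⊓ FX (zpowers z) x ⊔ zpowers x
local notation "𝔅" => zpowers z ⊔ zpowers a₂
local notation "𝔍₁" => zpowers z ⊔ zpowers a₂ ⊔ zpowers x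
local notation "𝔖₁" => Q₂ ⊔ zpowers x

def em (v : F4) : F4 := (v.1, 0, v.2.1, v.2.2.2)

theorem cmt_mem (h1 : g ∈ N(K)) (hq : q ∈ K) : ⁅g, q⁆ ∈ K := mul_mem (conj_mem_of_norm h1 hq) (inv_mem hq)

namespace Cn
variable (h : Cn Q₁ Q₂ R₁ R₂ z x r₁ r₂ a₁ b₁ a₂ b₂ φ)
include h

theorem sgc (e : g * φ v * g⁻¹ = φ w) : sg v ↔ sg w := by
  rw [← h.sing, ← h.sing, ← e]; exact ⟨fun c => c.conj g, Cz.of⟩

theorem add' (e : g * φ v * g⁻¹ = φ w) {v' w' : F4} (e' : g * φ v' * g⁻¹ = φ w') :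
    g * φ (v + v') * g⁻¹ = φ (w + w') ∧ g * φ (v - v') * g⁻¹ = φ (w - w') :=
  ⟨by rw [h.ad, h.ad, ← conj_mul, e, e'], by
    rw [sub_eq_add_neg, sub_eq_add_neg, h.ad, h.ad, h.ng, h.ng, ← conj_mul, ← conj_inv, e, e']⟩

theorem pm (e : m * z * m⁻¹ = φ p ∨ m * z * m⁻¹ = (φ p)⁻¹) : ∃ q, (q = p ∨ q = -p) ∧ m * φ u3 * m⁻¹ = φ q :=
  e.elim (fun e => ⟨_, .inl rfl, h.e3 ▸ e⟩) fun e => ⟨_, .inr rfl, h.e3 ▸ h.ng p ▸ e⟩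

theorem toB (hm : m ∈ C[r₁] ⊓ N(𝔍)) (e : m * z * m⁻¹ = φ p ∨ m * z * m⁻¹ = (φ p)⁻¹) (e1 : w.2.1 = 0)
    (s : w ≠ 0 ∧ ¬ sg w ∧ ¬ sg (w + p) ∧ ¬ sg (w - p)) :
    ∃ w', w'.1 = 0 ∧ w'.2.1 = 0 ∧ w'.2.2.1 ≠ 0 ∧ m * φ w' * m⁻¹ = φ w := by
  obtain ⟨v, ev, e'⟩ := h.exJ1 (conj_mem_of_norm' (h.NJ1 hm) (h.mJ1 e1))
  have e2 : m * φ v * m⁻¹ = φ w := by rw [e']; group
  obtain ⟨q, hq, e⟩ := h.pm e
  have k := h.add' e2 e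
  have : v ≠ 0 ∧ ¬ sg v ∧ ¬ sg (v + u3) ∧ ¬ sg (v - u3) := by
    rw [h.sgc e2, h.sgc k.1, h.sgc k.2]
    refine ⟨fun e => s.1 (h.B.inj (by rw [← e2, e, h.B.add.zero]; group)), s.2.1, ?_⟩
    rcases hq with rfl | rfl
    exacts [s.2.2, by rw [sub_neg_eq_add, ← sub_eq_add_neg]; exact s.2.2.symm]
  have := (by decide +kernel : ∀ v : F4, v.2.1 = 0 → v ≠ 0 ∧ ¬ sg v ∧ ¬ sg (v + u3) ∧ ¬ sg (v - u3) →
    v.1 = 0 ∧ v.2.2.1 ≠ 0) v ev this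
  exact ⟨v, this.1, ev, this.2, e2⟩

theorem cB2 (e : v.1 = 0) (e' : v.2.1 = 0) (n : v.2.2.1 ≠ 0) :
    ∃ q ∈ Q₂, q * φ v * q⁻¹ = a₂ ∨ q * φ v * q⁻¹ = a₂⁻¹ := by
  obtain ⟨i, e⟩ := (by decide +kernel : ∀ v : F4, v.1 = 0 → v.2.1 = 0 → v.2.2.1 ≠ 0 → ∃ i : Fin 3,
    (T2 1)^[i] v = u2 ∨ (T2 1)^[i] v = -u2) v e e' n
  refine ⟨_, pow_mem (inv_mem h.b2.bQ) i, ?_⟩
  rw [Ac.iter h.t2 i v, ← h.e2, ← h.ng]
  exact e.imp (congrArg φ) (congrArg φ)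

/-- `a₂` is conjugate to `x * z` -/
theorem exm (hn : n ∈ C[r₁] ⊓ N(𝔍)) (e : n * z * n⁻¹ = x ∨ n * z * n⁻¹ = x⁻¹) : ∃ q ∈ Q₂,
    b₂ * n * q⁻¹ * a₂ * (b₂ * n * q⁻¹)⁻¹ = φ (u0 + u3) ∨ b₂ * n * q⁻¹ * a₂⁻¹ * (b₂ * n * q⁻¹)⁻¹ = φ (u0 + u3) := by
  obtain ⟨v, e1, e2, e3, e⟩ := h.toB hn (p := u0) (h.e0 ▸ e) (w := u0 + u2) rfl (by decide)
  obtain ⟨q, hq, e'⟩ := h.cB2 e1 e2 e3
  have : b₂ * n * q⁻¹ * (q * φ v * q⁻¹) * (b₂ * n * q⁻¹)⁻¹ = φ (u0 + u3) := by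
    rw [show u0 + u3 = T2 1 (T2 1 (u0 + u2)) by decide, ← h.t2', ← e]; group
  exact ⟨q, hq, e'.imp (fun e => by rwa [e] at this) fun e => by rwa [e] at this⟩

theorem pq (s : Sj D K π) (hQ : Q₂ ≤ D) (hx : x ∈ D) (hR : R₂ ≤ D) (k1 : K ⊓ 𝔖₁ = ⊥) (k2 : K ⊓ R₂ = ⊥)
    (c : ∀ g ∈ D, ⁅g, z⁆ ∈ K → ∃ k ∈ K, k * g ∈ C[z]) (nm : D ⊓ C[z] ≤ N(K ⊔ Q₂))
    (ce : ∀ g ∈ D ⊓ C[z], (∀ q ∈ Q₂, ⁅g, q⁆ ∈ K) → g ∈ K ⊔ 𝔷) (hn : n ∈ D) (hn' : n ∈ C[r₁] ⊓ N(𝔍))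
    (e : n * z * n⁻¹ = x ∨ n * z * n⁻¹ = x⁻¹)
    (sig : ∀ W ≤ D, K ≤ W → PiN {3}ᶜ (K.relIndex W) → 𝔍₁ ≤ N(W) → W ≤ K) :
    Pq (im s.hom Q₂) (π b₂) (π r₂) fun v => π (φ (em v)) := by
  have hS : 𝔖₁ ≤ D := sup_le hQ (zpowers_le.2 hx)
  have mS : ∀ v, φ (em v) ∈ 𝔖₁ := fun v => h.J1S (h.mJ1 rfl)
  have k0 : ∀ {g}, g ∈ 𝔖₁ → π g = 1 → g = 1 := fun hg e => mem_bot.1 (k1.le ⟨(s.ker (hS hg)).1 e, hg⟩)
  have hz := hQ h.s2.zQ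
  have ac : ∀ {g C C'}, g ∈ D → Ac φ g C → (∀ v, C (em v) = em (C' v)) → Ac (fun v => π (φ (em v))) (π g) C' :=
    fun hg a e v => by rw [← s.conj hg (hS (mS v)), a, e]
  have cz : ∀ {g}, g ∈ D → g ∈ C[z] → π g ∈ C[π z] := fun hg e => mem_cent1.2 (by
    rw [← s.mul hg hz, ← s.mul hz hg, mem_cent1.1 e])
  have cz' : ∀ {A}, A ≤ D → A ≤ C[z] → im s.hom A ≤ C[π z] := fun l l' _ m =>
    have ⟨g, hg, _, e⟩ := s.mem_im.1 m; e ▸ cz (l hg) (l' hg)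
  have ex : ∀ σ ∈ C[π z], ∃ g ∈ D ⊓ C[z], π g = σ := fun σ m => by
    obtain ⟨g, hg, rfl⟩ := s.sj σ
    obtain ⟨k, hk, e⟩ := c g hg ((s.cm hg hz).1 (mem_cent1.1 m))
    exact ⟨_, ⟨mul_mem (s.le hk) hg, e⟩, by rw [s.mul (s.le hk) hg, (s.ker (s.le hk)).2 hk, one_mul]⟩
  have cent : C[π z] ⊓ C(im s.hom Q₂) ≤ zpowers (π z) := fun σ m => by
    obtain ⟨g, hg, rfl⟩ := ex σ m.1
    rw [← s.imz hz, s.mem (zpowers_le.2 hz) hg.1]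
    exact ce g hg fun q hq => (s.cm hg.1 (hQ hq)).1 (mem_cent.1 m.2 _ (s.mi hQ hq)).symm
  have E : E3 (im s.hom Q₂) (π z) := ⟨by rw [← s.pow hz, h.z3, s.one], mt (k0 (mem_sup_left h.s2.zQ)) h.z1,
    by rw [s.card' hQ (H19.eq_bot_mono (inf_le_inf_left _ le_sup_left) k1), h.s2.c27], s.mi hQ h.s2.zQ,
    cz' hQ h.s2.QC, fun _ ma _ mb => by
      obtain ⟨a, ha, hd, rfl⟩ := s.mem_im.1 ma
      obtain ⟨b, hb, hd', rfl⟩ := s.mem_im.1 mb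
      rw [← s.cmt hd hd', ← s.imz hz]
      exact s.mi (zpowers_le.2 hz) (h.s2.Qc a ha b hb),
    fun _ m => cent ⟨cz' hQ h.s2.QC m.1, m.2⟩, fun _ ma => by
      obtain ⟨a, ha, hd, rfl⟩ := s.mem_im.1 ma
      rw [← s.pow hd, h.s2.Q3 ha, s.one]⟩
  have e0 : em u0 = u0 := rfl
  have e1 : em u1 = u2 := rfl
  have e3 : em u3 = u3 := rfl
  refine ⟨fun v w => by rw [← s.mul (hS (mS v)) (hS (mS w)), ← h.ad]; rfl, fun {v} e => ?_,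
    (congrArg π h.B.add.zero).trans s.one, ?_, E.Q3, ?_, s.mi hQ h.b2.bQ, ?_,
    s.inv (hQ h.b2.bQ) ▸ ac (inv_mem (hQ h.b2.bQ)) h.t2 fun _ => rfl,
    by rw [← s.mul (hR h.s2.rR) (hR h.s2.rR), h.s2.rr, s.one], ac (hR h.s2.rR) h.aN2 fun _ => rfl,
    by rw [← s.conj (hR h.s2.rR) (hQ h.b2.bQ), h.b2.rb, s.inv (hQ h.b2.bQ)], ?_, ?_, fun T hT hJ => ?_⟩ <;>
    simp only [e0, e1, e3, h.e0, h.e2, h.e3] at *
  · exact (by decide +kernel : ∀ v, em v = 0 → v.1 = 0 ∧ v.2.1 = 0 ∧ v.2.2.2 = 0) v (h.B.inj (k0 (mS v) e))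
  · refine E.ex ⟨E.QC, fun σ m => nm_of fun _ m' => ?_⟩ le_rfl cent
      (Nat.Coprime.mul_dvd_of_dvd_of_dvd (m := 81) (n := 8) (by decide) ?_ ?_)
    · obtain ⟨g, hg, rfl⟩ := ex σ m
      obtain ⟨q, hq, hd, rfl⟩ := s.mem_im.1 m'
      rw [← s.conj hg.1 hd, s.mem hQ (mul_mem (mul_mem hg.1 hd) (inv_mem hg.1))]
      exact conj_mem_of_norm (nm hg) (mem_sup_right hq)
    · rw [← h.c81, ← s.card' hS k1]; exact card_dvd (cz' hS h.S1z)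
    · rw [← h.s2.c8, ← s.card' hR k2]; exact card_dvd (cz' hR h.s2.Rz)
  · exact s.mi hQ h.b2.aQ
  · intro m
    obtain ⟨k, hk, q, hq, e⟩ := (mem_sup_of_norm (hQ.trans s.nm)).1 ((s.mem hQ hx).1 m)
    have := mem_bot.1 (k1.le ⟨hk, (mul_mem_cancel_right (mem_sup_left hq)).1 (e ▸ mem_sup_right (mem_zpowers x))⟩)
    exact h.xn (mem_sup_right (by rw [e, this, one_mul]; exact hq))
  · exact Cz.of (g := (π n)⁻¹) (e.elim (fun e => by rw [← e, s.conj hn hz]; simpa [mul_assoc] using Cz.self) fun e => by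
      rw [← inv_inv x, ← e, s.inv (mul_mem (mul_mem hn hz) (inv_mem hn)), s.conj hn hz]
      simpa [mul_assoc] using Cz.self.inv)
  · obtain ⟨q, hq, e⟩ := h.exm hn' e
    have hg := mul_mem (mul_mem (hQ h.b2.bQ) hn) (inv_mem (hQ hq))
    have ha := hQ h.b2.aQ
    rw [show em (u0 + u3) = u0 + u3 from rfl]
    rcases e with e | e <;> rw [← e]
    exacts [s.conj hg ha ▸ Cz.self.conj _, by rw [s.conj hg (inv_mem ha), s.inv ha]; exact Cz.self.inv.conj _]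
  · have l := h.J1S.trans hS
    have := sig _ (pre_le s.hom T) s.Kpre (by
      have := card_mul_relIndex (s.Kpre (T := T))
      rw [s.card_pre, Nat.mul_right_inj (card_ne_zero K)] at this
      exact this ▸ hT) (norms_pre l (by
      rwa [im_sup (h.BQ.trans hQ) (zpowers_le.2 hx), im_sup (zpowers_le.2 hz) (zpowers_le.2 (hQ h.b2.aQ)), s.imz hz,
        s.imz hx, s.imz (hQ h.b2.aQ)]))
    exact eq_bot_iff.2 fun σ m => have ⟨g, hg, e⟩ := s.sj σ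
      e ▸ (s.ker hg).2 (this (s.mem_pre.2 ⟨hg, e ▸ m⟩))

theorem a3 : a₁ ^ 3 = 1 := h.s1.Q3 h.b1.aQ
theorem na1 : a₁ ∉ 𝔷 := h.b1.na h.s1
theorem a1K : a₁ ∉ C[r₁] := fun m => h.na1 (h.Q1r h.b1.aQ m)
theorem Qa : Q₂ ≤ C[a₁] := le_cent1_iff.2 (h.s1.cm h.b1.aQ)
theorem xa : x ∈ C[a₁] := mem_cent1.2 h.b1.xa
theorem Ra : R₂ ≤ C[a₁] := h.s2.RC.trans (cent_le_cent1 h.b1.aQ)

theorem Ue : zpowers a₁ ⊔ Q₂ = 𝔔 ⊓ C[a₁] := le_antisymm (sup_le (zpowers_le.2 ⟨mem_sup_left h.b1.aQ, mem_cent1_self _⟩)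
    (le_inf le_sup_right h.Qa)) fun q hq => by
  obtain ⟨a, ha, b, hb, rfl⟩ := h.dec hq.1
  exact mul_mem (sup_le (h.s2.e3.ZQ.trans le_sup_right) le_sup_left ((h.s1.e3.cent h.b1.aQ h.na1).le
    ⟨ha, (mul_mem_cancel_right (h.Qa hb)).1 hq.2⟩)) (mem_sup_right hb)

theorem aS : zpowers a₁ ⊓ 𝔖₁ = ⊥ := (inf_comm _ _).trans (inf_zp h.a3 fun m => h.a1K (h.S1K m))

theorem sylA : Syl 3 (zpowers a₁ ⊔ 𝔖₁) (C[a₁] ⊓ C[z]) := by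
  have n : 𝔖₁ ≤ C[a₁] := sup_le h.Qa (zpowers_le.2 h.xa)
  have c : #(zpowers a₁ ⊔ 𝔖₁) = 243 := by
    rw [sup_comm, card_sup_zp h.a3 (fun m => h.a1K (h.S1K m)) (cent_le_norm _ (le_cent1_iff.1 n)), h.c81]
  have c' : #(zpowers a₁ ⊔ Q₂) = 81 := by
    rw [sup_comm, card_sup_zp h.a3 (fun m => h.a1K (h.Q2K m)) (cent_le_norm _ (le_cent1_iff.1 h.Qa)), h.s2.c27]
  refine syl_of_max (sup_le (zpowers_le.2 ⟨mem_cent1_self _, h.s1.QC h.b1.aQ⟩) (le_inf n h.S1z))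
    (pg_card (k := 5) p3 c) fun P l p le => ?_
  have h1 := h.e5.b3' (l.trans inf_le_right) p
  have h2 := card_le ((inf_le_inf_left 𝔔 (l.trans inf_le_left)).trans h.Ue.ge)
  exact (eq_of_le_of_card_ge le (by rw [c]; omega)).symm

theorem ceX (hg : g ∈ C[a₁] ⊓ C[z]) (e : ∀ q ∈ Q₂, ⁅g, q⁆ ∈ zpowers a₁) : g ∈ zpowers a₁ ⊔ 𝔷 := by
  have n : C[a₁] ≤ N(zpowers a₁) := cent1_le_norm_zpowers a₁
  have f : ∀ q ∈ Q₂, g ∈ FX (zpowers a₁) q := fun q hq => FX_symm (n hg.1) ⟨n (h.Qa hq), e q hq⟩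
  have p : PiE {3} g := pe_of_p' fun t ht p => by
    have m := zpowers_le.2 hg ht
    have : t ∈ C(Q₂) := mem_cent.2 fun q hq => by
      have k := (FX_symm (n (h.Qa hq)) (zpowers_le.2 (f q hq) ht)).2
      have := unipc (g := t) (q := q) (c := ⁅t, q⁆) (by
        rw [cm_zp (mem_cent1.1 (h.Qa hq)) k, commutatorElement_def]; group)
        (conj_of_comm (cm_zp (mem_cent1.1 m.1) k)) (cube_zp h.a3 k) p
      exact (commutatorElement_eq_one_iff_mul_comm.1 this).symm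
    refine (pe3 (cube_zp h.z3 (h.s1.CQ ⟨h.s1.e3.semi (h.C2N this) (mem_cent1.1 m.2) p h.b1.aQ h.na1 ?_,
      this⟩))).e_eq_one p
    rw [conj_of_comm (mem_cent1.1 m.1), mul_inv_cancel]; exact one_mem _
  obtain ⟨k, hk, l⟩ := h.sylA.scj_le (zpowers_le.2 hg) (piG_zpowers.2 p)
  have l := l (conj_mem_cj.2 (mem_zpowers g))
  have U : zpowers a₁ ⊔ Q₂ ≤ FX (zpowers a₁) g := sup_le (le_FX (n hg.1)) fun q hq => ⟨n (h.Qa hq), e q hq⟩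
  have hN : zpowers a₁ ⊔ 𝔖₁ ≤ N(Q₂) := sup_le (zpowers_le.2 (cent_le_norm _ (h.s1.cm h.b1.aQ)))
    (sup_le le_normalizer (zpowers_le.2 h.s2.xN))
  have c : k * g * k⁻¹ ∈ C(Q₂) := mem_cent.2 fun q hq => by
    have := FX_conj (n hk.1) (U (x := k⁻¹ * q * k) (h.Ue.ge ⟨conj_mem_of_norm' (h.e5.CN hk.2) (mem_sup_right hq),
      conj_mem_of_norm' (le_normalizer hk.1) (h.Qa hq)⟩))
    rw [show k * (k⁻¹ * q * k) * k⁻¹ = q by group] at this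
    exact (commutatorElement_eq_one_iff_mul_comm.1 (mem_bot.1 (h.aS.le
      ⟨this.2, mem_sup_left (cmt_mem (hN l) hq)⟩))).symm
  have := (h.s1.e3.cent h.b1.aQ h.na1).le ⟨h.C23 c (p.e_conj k), conj_mem_of_norm (le_normalizer hk.1) hg.1⟩
  rw [sup_comm]
  simpa [mul_assoc] using conj_mem_of_norm' (norms_sup (inf_le_right.trans (cent1_le_norm_zpowers z))
    (inf_le_left.trans n) hk) this

theorem exn' : ∃ n ∈ C[a₁], n ∈ C[r₁] ⊓ N(𝔍) ∧ (n * z * n⁻¹ = x ∨ n * z * n⁻¹ = x⁻¹) := by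
  obtain ⟨n, hn, e⟩ := h.exn
  obtain ⟨v, ev⟩ := h.B.surj _ (conj_mem_of_norm hn.2 (h.e1 ▸ h.B.mem u1))
  have : N1 v = -v := h.B.eq h.aN1 (by
    rw [h.ng, ev, ← cjm, ← mem_cent1.1 hn.1, cjm, h.b1.ra, conj_inv])
  rcases (by decide +kernel : ∀ v, N1 v = -v → v = 0 ∨ v = u1 ∨ v = -u1) v this with rfl | rfl | rfl
  · exact (h.na1 (conj_eq_one_iff.1 (ev.symm.trans h.B.add.zero) ▸ one_mem _)).elim
  · exact ⟨n, mem_cent1.2 (comm_of_conj (ev.symm.trans h.e1)), hn, e⟩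
  · refine ⟨n * r₁, mem_cent1.2 (comm_of_conj ?_), mul_mem hn ⟨mem_cent1_self _, h.r1J⟩, ?_⟩
    · rw [cjm, h.b1.ra, ← conj_inv, ← ev, h.ng, inv_inv, h.e1]
    · rwa [cjm, h.s1.rz (mem_zpowers z)]

theorem Je : 𝔍 = 𝔍₁ ⊔ zpowers a₁ := by
  rw [h.A_eq h.b1 h.b2, sup_right_comm _ _ (zpowers a₂), sup_right_comm]

theorem pqX (s : Sj C[a₁] (zpowers a₁) π) : Pq (im s.hom Q₂) (π b₂) (π r₂) fun v => π (φ (em v)) := by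
  obtain ⟨n, h1, h2, e⟩ := h.exn'
  refine h.pq s h.Qa h.xa h.Ra h.aS ((pg_zp h.a3).inf_eq_bot h.s2.R3) (fun g hg e => ⟨1, one_mem _, ?_⟩)
    (h.Ue ▸ norms_inf (inf_le_right.trans h.e5.CN) (norms_of_le inf_le_left)) (fun g => h.ceX) h1 h2 e
    fun W l l' p hn => ?_
  · have : g * z * g⁻¹ ∈ 𝔷 := h.wc' ((mul_mem_cancel_right (inv_mem (h.ZQ (mem_zpowers z)))).1
      (mem_sup_left (zpowers_le.2 h.b1.aQ e))) (Cz.self.conj g)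
    rw [one_mul, mem_cent1, ← commutatorElement_eq_one_iff_mul_comm]
    exact mem_bot.1 ((inf_zp h.a3 h.na1).le ⟨(zpowers z).mul_mem this (inv_mem (mem_zpowers z)), e⟩)
  have c : W ≤ C(zpowers a₁) := cent_zpowers a₁ ▸ l
  have S : Syl 3 (zpowers a₁) W := ⟨l', pg_zp h.a3, p⟩
  obtain ⟨H, hH⟩ := S.exists_compl (norms_of_cents c)
  have := (hH.hall_right S).eq_Oc (hH.sup ▸ sup_le (norms_of_cents (cents_symm (hH.right_le.trans c))) le_normalizer)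
  rw [h.SIG (Oc_pi _ W) (norms_Oc _ (h.Je ▸ sup_le hn (norms_of_cents (cents_symm c))))] at this
  rw [← hH.sup, this, sup_bot_eq]

end Cn

end H9.TC
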