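import Cfsg.Agent.H9.Grp3
import Cfsg.Agent.H9.G3
import Cfsg.Agent.H26.UI

/-! # Two components of a disconnected commuting graph -/

set_option autoImplicit false

open Subgroup Module H11 H12 H12.CForm Cfsg

namespace H9

namespace FQ

variable {X : Type*} [FQ X]

open FQP in
theorem d4' {a d p q : X}
    (h0 : Adj a d)
    (h1 : Adj a p)
    (h2 : Adj a q)
    (h3 : Cm d p)
    (h4 : Cm d q)
    (h5 : Cm p q)
    : (Cm d (t a (t d (t p (t q a)))) ∧ Cm p (t a (t d (t p (t q a)))) ∧ Cm q (t a (t d (t p (t q a))))) := by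
  obtain ⟨q, hq, h⟩ := sound' (k := 8) (hyps := [4098, 8194, 12290, 8396805, 12595205, 12595209, 16777229, 20987913, 25186309, 29384705])
    (goals := [[29388805, 29388809, 29388813]])
    (.st 41 0x210000200180002000a4000000000004c00070000000000004a000430004800060048002440000000000000000aa000000012000e0056b0000000000000000e10000e0030000e0014400012004a0012000c40000000000000000a1000000022003a000ab00000003a0044000ab0000000000000000a10001a003c001a000a40000000000034000b000000000000320008300000003800300008b000000030002a000ab000000000002e00090000000000002c0006300000002a00160006b00000002c00280008b0000000000000000a1000000026000c0014b000000024000c0014b00000000000000020100000001600200028b000000000001e000b0000000000001c000830000000000000001a10000000000000001a20000000000000001a20000000000000001a20000000000000001aa0000000000000001aa0000000000000001aa0000000000000000e00000000000000000c0000000000000000060000000000000000040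 <|
 .df 0 1 <|
 .df 0 2 <|
 .df 1 4 <|
 .st 27 0x4001600040000400000000000000000100036001a0002000050007e0002000a000c400018000c00180002400000000000000000100000000000040001000000000000000000a0000000740002001eb0000000000000000010002200180000002650001a0000001a002a4000040000001a005c50000000000000000010001c0000005e005a5000000000000000041000000000000000001000640002000e000a400058002a0002004a400000000000000000100000000000080001000000000000000000a00000005a00000026b00000000000000002100000000c00040014b000220002001a00265000000000000000041 <|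
 .gl 0 [31, 0, 34])
    (by decide +kernel) (nth a [a, d, p, q, t q a, t p (t q a), t d (t p (t q a)), t a (t d (t p (t q a)))])
    ⟨A_of rfl h0, A_of rfl h1, A_of rfl h2, T_of rfl h3, T_of rfl h4, T_of rfl h5, T_of rfl rfl, T_of rfl rfl, T_of rfl rfl, T_of rfl rfl, trivial⟩
  rcases h with h | h
  · exact ⟨((holds_congr hq (by decide)).1 h.1).1 rfl, ((holds_congr hq (by decide)).1 h.2.1).1 rfl, ((holds_congr hq (by decide)).1 h.2.2.1).1 rfl⟩
  · exact h.elim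


theorem dvd_ncard_of_equiv {α : Type*} [Finite α] {r : α → α → Prop} (h : Equivalence r)
    {N : Set α} {c : ℕ} (hc : ∀ a ∈ N, {b | b ∈ N ∧ r a b}.ncard = c) : c ∣ N.ncard := by
  have := ncard_mul_eq (fun (a : α) (q : Quotient ⟨r, h⟩) => Quotient.mk _ a = q)
    (s := N) (u := Quotient.mk _ '' N) (m := 1) (n := c) (fun a ha => by
      rw [Set.ncard_eq_one]
      exact ⟨Quotient.mk _ a, Set.ext fun _ => ⟨fun k => k.2.symm, by rintro rfl; exact ⟨⟨a, ha, rfl⟩, rfl⟩⟩⟩)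
    (by
      rintro _ ⟨a, ha, rfl⟩
      rw [← hc a ha]; congr 1; ext b
      exact and_congr_right fun _ => Quotient.eq.trans ⟨h.symm, h.symm⟩)
  exact ⟨_, by rw [mul_comm, ← this, mul_one]⟩

theorem four_dvd_ncard {α : Type*} [Finite α] {σ τ : α → α} (h1 : ∀ x, σ (σ x) = x)
    (h2 : ∀ x, τ (τ x) = x) (h3 : ∀ x, σ (τ x) = τ (σ x)) {N : Set α}
    (hN : ∀ x ∈ N, σ x ∈ N ∧ τ x ∈ N ∧ σ x ≠ x ∧ τ x ≠ x ∧ σ (τ x) ≠ x) : 4 ∣ N.ncard := by
  refine dvd_ncard_of_equiv (r := fun a b => b = a ∨ b = σ a ∨ b = τ a ∨ b = σ (τ a))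
    ⟨fun _ => .inl rfl, ?_, ?_⟩ fun a ha => ?_
  · rintro a _ (rfl | rfl | rfl | rfl) <;> simp [h1, h2, h3]
  · rintro a _ _ (rfl | rfl | rfl | rfl) (rfl | rfl | rfl | rfl) <;> simp [h1, h2, h3]
  · obtain ⟨k1, k2, k3, k4, k5⟩ := hN a ha
    refine Set.ncard_eq_four.2 ⟨a, σ a, τ a, σ (τ a), k3.symm, k4.symm, k5.symm, fun e => k5 ?_,
      fun e => k4 ?_, (hN _ k2).2.2.1.symm, Set.ext fun b => ⟨fun k => k.2, fun k => ⟨?_, k⟩⟩⟩
    · rw [← e, h1]
    · rw [← h1 (τ a), ← e, h1]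
    · rcases k with rfl | rfl | rfl | rfl
      exacts [ha, k1, k2, (hN _ k2).1]

theorem exists_act {G : Type*} [Group G] {D : Set G} [TG D] {f : D → X} (hf : IsHom f)
    {γ : Equiv.Perm X} (hγ : γ ∈ Inn (Set.range f)) : ∃ g : G, ∀ y, γ (f y) = f (act D g y) := by
  refine Inn.induction (P := fun γ _ => ∃ g : G, ∀ y, γ (f y) = f (act D g y)) ⟨1, by simp⟩ ?_ hγ
  rintro _ ⟨s, rfl⟩ γ - ⟨g, hg⟩
  exact ⟨s * g, fun y => by rw [map_mul, act_coe, Equiv.Perm.mul_apply, Equiv.Perm.mul_apply, hg, hf]⟩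

/-- two fully joined subspaces acting on each other by inner automorphisms -/
structure TP (S T : Set X) : Prop where
  cs : Cl S
  ct : Cl T
  adj : ∀ x ∈ S, ∀ z ∈ T, Adj x z
  inn : ∀ z ∈ T, ∀ z' ∈ T, t z * t z' ∈ Inn S
  inn' : ∀ z ∈ S, ∀ z' ∈ S, t z * t z' ∈ Inn T

namespace TP

variable {S T : Set X} (h : TP S T)
include h

theorem mem {x z z' : X} (hx : x ∈ S) (hz : z ∈ T) (hz' : z' ∈ T) : t z (t z' x) ∈ S :=
  h.cs.mem (h.inn z hz z' hz') hx

theorem dc {x z z' : X} (hx : x ∈ S) (hz : z ∈ T) (hz' : z' ∈ T) (c : z' ∈ Dc z) :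
    t z (t z' x) ∈ Dc x :=
  ⟨fun e => c.1 (eq_of_t_eq (h.adj x hx z' hz').symm (t_eq_iff.1 e).symm),
    (s4_phi c.2 (h.adj x hx z hz).symm (h.adj x hx z' hz').symm).2⟩

theorem line {x z z' : X} (hx : x ∈ S) (hz : z ∈ T) (hz' : z' ∈ T) (c : Adj z z') :
    t x (t z (t z' x)) = t z' (t z x) ∧ t z (t z' x) ≠ x := by
  have := pl_tab c (h.adj x hx z hz) (h.adj x hx z' hz') (h.adj x hx _ (h.ct z hz z' hz')) 3 4
    (by decide)
  exact ⟨this.1.trans (show t z (t (t z z') x) = _ by rw [FQ.dist, t_t]), this.2.symm⟩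

theorem not_T [Cls S] {n : ℕ} (hS : IsT S n) (hn : 2 ≤ n) {z z' : X} (hz : z ∈ T) (hz' : z' ∈ T)
    (c : z' ∈ Dc z) : False := by
  obtain ⟨e, he⟩ := FQ.Iso.symm hS
  have hf : IsHom (Subtype.val ∘ e) := isHom_val.comp he
  have hi : Function.Injective (Subtype.val ∘ e) := Subtype.val_injective.comp e.injective
  obtain ⟨σ, hσ⟩ := exists_act hf (γ := t z * t z') (by
    rw [e.surjective.range_comp, Subtype.range_coe]; exact h.inn z hz z' hz')
  have key : ∀ i j (k : i ≠ j), σ i ≠ i ∧ σ i ≠ j := fun i j k => by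
    have := h.dc (e (sw i j k)).2 hz hz' c
    rw [show t z (t z' (e (sw i j k))) = _ from hσ (sw i j k), show act _ σ (sw i j k) = sw _ _ (σ.injective.ne k) from
      Subtype.ext ((coe_act _ _).trans (Equiv.swap_apply_apply σ i j).symm)] at this
    have := sw_mem_Dc _ _ |>.1 ((hf.mem_Dc hi).1 this)
    exact ⟨this.1, this.2.1⟩
  exact (key _ _ (key ⟨0, by omega⟩ ⟨1, by omega⟩ (by simp)).1.symm).2 rfl

theorem not_zero {F : Type*} [Field F] {P : FormType F} {V : Type*} [AddCommGroup V] [Module F V]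
    {C : CForm P V} {κ : F} {f : V → X} (hf : LM S C 0 κ f) (hF : ∀ c : F, c ≠ 0 → c * c * c = 1)
    (hS : S.Nonempty) {z z' : X} (hz : z ∈ T) (hz' : z' ∈ T) (c : z' ∈ Dc z) : False := by
  obtain ⟨g, hg⟩ := H26.LM.exists_isom hf (h.inn z hz z' hz')
  have key : ∀ v, Pt C 0 v → f (g.1 v) ∈ Dc (f v) := fun v hv =>
    hg v hv ▸ h.dc (hf.mem hv) hz hz' c
  obtain ⟨x, hx⟩ := hS
  obtain ⟨v, hv, rfl⟩ := hf.surj hx
  have h1 := hv.isom g.2
  obtain ⟨h2, h3⟩ := (hf.mem_Dc hv h1).1 (key v hv)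
  obtain ⟨a, ha⟩ := (hf.eq_iff hv (h1.isom g.2)).1 (by
    rw [hg _ h1, hg _ hv]
    simp only [Equiv.Perm.mul_apply]
    rw [← c.2.t_t_comm, t_t, t_t])
  have a0 : a ≠ 0 := by rintro rfl; exact (h1.isom g.2).1 (by rw [ha, zero_smul])
  have h4 : Pt C 0 (v + a • g.1 v) := ⟨fun e => h3 ((hf.eq_iff h1 hv).2 ⟨-a, by
    rw [neg_smul, eq_neg_iff_add_eq_zero, e]⟩).symm, by
    rw [C.N_add_of_orth (by rw [C.B_smul_right, h2, mul_zero]), hv.2, C.N_smul_of_zero h1.2,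
      add_zero]⟩
  refine (key _ h4).1 ((hf.eq_iff h4 (h4.isom g.2)).2 ⟨a * a, ?_⟩).symm
  rw [map_add, map_smul, ha, smul_add, smul_smul, smul_smul, hF a a0, one_smul, add_comm]

variable [Finite X]

theorem two_dvd {z z' : X} (hz : z ∈ T) (hz' : z' ∈ T) (c : z' ∈ Dc z) : 2 ∣ S.ncard :=
  dvd_ncard_of_fpf (s := t z * t z') (by
    rw [sq, mul_assoc, ← mul_assoc (t z'), ← c.2.mul_comm, mul_assoc, t_mul_t, mul_one, t_mul_t])
    (fun _ hx => h.mem hx hz hz') fun _ hx => (h.dc hx hz hz' c).1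

theorem four_dvd (hT : Clq T 3) : 4 ∣ S.ncard := by
  obtain ⟨p, h1, h2⟩ := hT
  have c1 := (h2 0 1 (by decide)).2.t_t_comm
  have c2 := (h2 0 2 (by decide)).2.t_t_comm
  have c3 := (h2 1 2 (by decide)).2.t_t_comm
  refine four_dvd_ncard (σ := fun x => t (p 0) (t (p 1) x)) (τ := fun x => t (p 0) (t (p 2) x))
    (fun x => by rw [← c1, t_t, t_t]) (fun x => by rw [← c2, t_t, t_t])
    (fun x => by rw [← c1, ← c2, c3]) fun x hx => ⟨h.mem hx (h1 _) (h1 _), h.mem hx (h1 _) (h1 _),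
      (h.dc hx (h1 _) (h1 _) (h2 _ _ (by decide))).1, (h.dc hx (h1 _) (h1 _) (h2 _ _ (by decide))).1,
      ?_⟩
  rw [← c1, t_t]
  exact (h.dc hx (h1 _) (h1 _) (h2 _ _ (by decide))).1

theorem card_dvd {d p q : X} (hd : d ∈ T) (hp : p ∈ T) (hq : q ∈ T) (c1 : p ∈ Dc d) (c2 : q ∈ Dc d)
    (c3 : q ∈ Dc p) {W : Type*} [FQ W] [Finite W] [Nonempty W] (hW : Conn W) {ι : W → X}
    (hι : IsHom ι) (hi : Function.Injective ι)
    (hr : ∀ y, y ∈ Set.range ι ↔ y ∈ T ∧ y ∈ Dc d ∧ y ∈ Dc p ∧ y ∈ Dc q) : Nat.card W ∣ S.ncard := by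
  let F : W → Set X := fun w => {x | x ∈ S ∧ t d (t p (t q (t (ι w) x))) = x}
  have hw := fun w => (hr (ι w)).1 ⟨w, rfl⟩
  have k1 : ∀ w w', Adj w w' → (F w).ncard ≤ (F w').ncard := fun w w' a => by
    obtain ⟨u1, u2, u3, u4⟩ := hw (t w w')
    obtain ⟨v1, v2, v3, v4⟩ := hw w
    refine Set.ncard_le_ncard_of_injOn (t (ι (t w w')) * t (ι w)) (fun x hx => ⟨h.mem hx.1 u1 v1, ?_⟩)
      (Equiv.injective _).injOn
    have e : ι w' = t (ι (t w w')) (t (ι w) (ι w)) := by rw [t_self, ← hι, a.third]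
    simp only [Equiv.Perm.mul_apply]
    rw [e, ← FQ.dist, ← FQ.dist, u4.2.t_t_comm, v4.2.t_t_comm, u3.2.t_t_comm, v3.2.t_t_comm,
      u2.2.t_t_comm, v2.2.t_t_comm, hx.2]
  have k2 : ∀ w w', Adj w w' → (F w).ncard = (F w').ncard := fun w w' a =>
    (k1 _ _ a).antisymm (k1 _ _ a.symm)
  obtain ⟨w₀⟩ := ‹Nonempty W›
  have := ncard_mul_eq (fun x (w : W) => t d (t p (t q (t (ι w) x))) = x) (s := S) (u := Set.univ)
    (m := 1) (n := (F w₀).ncard) (fun x hx => ?_) fun w _ => ?_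
  · exact ⟨_, by rw [← Set.ncard_univ, ← this, mul_one]⟩
  · obtain ⟨e1, e2, e3, e4, e5⟩ := d4 (h.adj x hx d hd) (h.adj x hx p hp) (h.adj x hx q hq) c1.2 c2.2
      c3.2 c1.1.symm c2.1.symm c3.1.symm
    obtain ⟨e6, e7, e8⟩ := d4' (h.adj x hx d hd) (h.adj x hx p hp) (h.adj x hx q hq) c1.2 c2.2 c3.2
    obtain ⟨w, e⟩ := (hr _).2 ⟨by
      rw [c3.2.t_t_comm, c2.2.t_t_comm, ← (h.adj _ (h.mem hx hd hp) q hq).swap]
      exact h.ct.mem (h.inn' x hx _ (h.mem hx hd hp)) hq, ⟨e3, e6⟩, ⟨e4, e7⟩, e5, e8⟩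
    refine Set.ncard_eq_one.2 ⟨w, Set.ext fun w' => ⟨fun k => hi (eq_of_t_eq
      (h.adj x hx _ (hw w').1).symm ?_), fun k => ⟨trivial, by rw [k, e]; exact e1⟩⟩⟩
    rw [← e] at e1
    simpa using k.2.trans e1.symm
  · rcases (hW w w₀).diam sub_univ trivial with rfl | a | ⟨u, -, a, a'⟩
    exacts [rfl, k2 _ _ a, (k2 _ _ a).trans (k2 _ _ a')]

end TP

end FQ

open FQ

variable {X : Type*} [FQ X] [Finite X] {S T : Set X} [Cls S] [Cls T]

theorem FQ.TP.not_M22 (h : TP S T) (hS : M22 S) (hT : M22 T) : False := by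
  have := hT.1.nontrivial
  obtain ⟨d⟩ : Nonempty T := inferInstance
  obtain ⟨a, b, h1, h2⟩ := (hT.2 d).1.wide
  have := h.four_dvd (Clq.val ⟨![d, a, b], fun _ => trivial, fun i j hij => by
    have := a.2; have := b.2; have := Dc.symm a.2; have := Dc.symm b.2
    have : b.1 ∈ Dc a.1 := mem_Dc_coe.1 ⟨h1.symm, h2⟩
    have := Dc.symm this
    fin_cases i <;> fin_cases j <;> simp_all⟩)
  rw [← Nat.card_coe_set_eq, hS.par.card] at this
  omega

theorem FQ.TP.not_M23 (h : TP S T) (hS : M23 S) (hT : Prim T) : False := by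
  obtain ⟨a, b, h1, h2⟩ := hT.wide
  have := h.two_dvd a.2 b.2 (mem_Dc_coe.1 ⟨h1.symm, h2⟩)
  rw [← Nat.card_coe_set_eq, hS.par.card] at this
  omega

theorem FQ.TP.not_M24 (h : TP S T) (hS : M24 S) (hT : M24 T) : False := by
  have := hT.1.nontrivial
  obtain ⟨d⟩ : Nonempty T := inferInstance
  have := (hT.2 d).1.nontrivial
  obtain ⟨p⟩ : Nonempty (Dc d) := inferInstance
  have := ((hT.2 d).2 p).1.nontrivial
  obtain ⟨q⟩ : Nonempty (Dc p) := inferInstance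
  obtain ⟨h1, h2⟩ := ((hT.2 d).2 p).2 q
  have := h1.nontrivial
  have k := h.card_dvd d.2 p.1.2 q.1.1.2 (mem_Dc_coe.1 p.2) (mem_Dc_coe.1 q.1.2)
    (mem_Dc_coe.1 (mem_Dc_coe.1 q.2)) h1.conn (ι := fun w => w.1.1.1.1)
    (isHom_val.comp (isHom_val.comp (isHom_val.comp isHom_val)))
    (fun _ _ e => Subtype.ext (Subtype.ext (Subtype.ext (Subtype.ext e)))) fun y =>
      ⟨by rintro ⟨w, rfl⟩; exact ⟨w.1.1.1.2, mem_Dc_coe.1 w.1.1.2, mem_Dc_coe.1 (mem_Dc_coe.1 w.1.2),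
        mem_Dc_coe.1 (mem_Dc_coe.1 (mem_Dc_coe.1 w.2))⟩, fun ⟨k1, k2, k3, k4⟩ =>
        ⟨⟨⟨⟨⟨y, k1⟩, mem_Dc_coe.2 k2⟩, mem_Dc_coe.2 (mem_Dc_coe.2 k3)⟩,
          mem_Dc_coe.2 (mem_Dc_coe.2 (mem_Dc_coe.2 k4))⟩, rfl⟩⟩
  have := hS.1.nontrivial
  obtain ⟨x⟩ : Nonempty S := inferInstance
  obtain ⟨y, hy⟩ := hS.1.exists_adj x
  rw [(par_u6 h1 h2.to_sub).card, ← Nat.card_coe_set_eq, (hS.par hy).2.2.2] at k
  omega

end H9
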