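import Cfsg.Agent.H17.FV0

/-! S5720, chunk `G3`: the core computation. -/

set_option autoImplicit false
set_option linter.unusedSectionVars false

open H17.FV Subgroup
open scoped commutatorElement

namespace H9.FV

section
variable {X : Type*} [Group X]

/-- congruence modulo the centre -/
def Cz (s t : X) : Prop := s * t⁻¹ ∈ center X

theorem Cz.eq {s t : X} (h : Cz s t) : ∃ z ∈ center X, s = z * t := ⟨_, h, by group⟩

theorem Cz.of {s t z : X} (hz : z ∈ center X) (h : s = z * t) : Cz s t := by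
  rw [Cz, h, mul_inv_cancel_right]; exact hz

theorem Cz.comm {s t s' t' : X} (h : Cz s s') (k : Cz t t') : ⁅s, t⁆ = ⁅s', t'⁆ := by
  obtain ⟨z, hz, rfl⟩ := h.eq
  obtain ⟨y, hy, rfl⟩ := k.eq
  have a := mem_center_iff.1 hz
  have b := mem_center_iff.1 hy
  have a' := mem_center_iff.1 (inv_mem hz)
  have b' := mem_center_iff.1 (inv_mem hy)
  simp only [commutatorElement_def, mul_inv_rev]
  calc _ = z * (s' * y) * t' * s'⁻¹ * (z⁻¹ * t'⁻¹) * y⁻¹ := by group
    _ = z * (y * s') * t' * s'⁻¹ * (t'⁻¹ * z⁻¹) * y⁻¹ := by rw [b, a']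
    _ = z * (y * ((s' * t' * s'⁻¹ * t'⁻¹) * z⁻¹ * y⁻¹)) := by group
    _ = _ := by rw [a' (s' * t' * s'⁻¹ * t'⁻¹), b' (z⁻¹ * _), mul_inv_cancel_left, mul_inv_cancel_left]

theorem Cz.conj {s t : X} (h : Cz s t) (g : X) : Cz (g * s * g⁻¹) (g * t * g⁻¹) := by
  obtain ⟨z, hz, rfl⟩ := h.eq
  refine Cz.of hz ?_
  rw [← mul_assoc g, mem_center_iff.1 hz g]; group

theorem Cz.trans {s t r : X} (h : Cz s t) (k : Cz t r) : Cz s r := by
  have := mul_mem h k
  rwa [mul_assoc, inv_mul_cancel_left] at this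

theorem Cz.mul {s t s' t' : X} (h : Cz s s') (k : Cz t t') : Cz (s * t) (s' * t') := by
  obtain ⟨z, hz, rfl⟩ := h.eq
  obtain ⟨y, hy, rfl⟩ := k.eq
  refine Cz.of (mul_mem hz hy) ?_
  rw [mul_assoc z, ← mul_assoc s', mem_center_iff.1 hy s']; group

theorem Cz.refl (s : X) : Cz s s := by rw [Cz, mul_inv_cancel]; exact one_mem _

theorem Cz.symm {s t : X} (h : Cz s t) : Cz t s := by
  have := inv_mem h
  rwa [mul_inv_rev, inv_inv] at this

theorem Cz.inv {s t : X} (h : Cz s t) : Cz s⁻¹ t⁻¹ := by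
  obtain ⟨z, hz, rfl⟩ := h.eq
  exact Cz.of (inv_mem hz) (by rw [mul_inv_rev, mem_center_iff.1 (inv_mem hz)])

theorem cen_conj {z : X} (hz : z ∈ center X) (g : X) : g * z * g⁻¹ = z := by
  rw [mem_center_iff.1 hz g, mul_inv_cancel_right]

variable {S : Subgroup X} [hS : S.Normal] {a i : X}

theorem one (nt : NT X) (ha : a ^ 3 = 1) (a1 : a ≠ 1) (a2 : ∀ u ∈ S, a * (u * a * u⁻¹) ≠ 1)
    (odd : ∀ s ∈ S, s * s = 1 → s = 1) (hc : ∀ s ∈ S, ∀ t ∈ S, ⁅s, t⁆ ∈ center X)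
    (h2 : ∀ s ∈ S, Cz ((i * a * i⁻¹ * a) * s * (i * a * i⁻¹ * a)⁻¹) s) {u : X} (hu : u ∈ S)
    (h : Cz (i * u * i⁻¹) u ∨ Cz (i * u * i⁻¹) u⁻¹) : a * u * a⁻¹ = u := by
  have v1 := hS.conj_mem u hu a
  have v2 := hS.conj_mem u hu a⁻¹
  have q := hc u hu _ v1
  have e1 : ∀ w ∈ S, Cz (i * u * i⁻¹) w → ⁅u, a * u * a⁻¹⁆ = ⁅w, a⁻¹ * w * a⁻¹⁻¹⁆ := fun w hw k => by
    have k2 : Cz (i * (a * u * a⁻¹) * i⁻¹) (a⁻¹ * w * a⁻¹⁻¹) := by
      have := (h2 _ (hS.conj_mem _ (hS.conj_mem u hu i) a⁻¹)).trans (k.conj a⁻¹)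
      convert this using 1; group
    rw [← k.comm k2, ← cen_conj q i]
    simp only [commutatorElement_def]; group
  have e2 : ⁅u, a * u * a⁻¹⁆ = ⁅u, a⁻¹ * u * a⁻¹⁻¹⁆ := by
    rcases h with h | h
    · exact e1 u hu h
    · rw [e1 _ (inv_mem hu) h, ← cen_conj (hc u hu _ v2) ((a⁻¹ * u * a⁻¹⁻¹) * u)⁻¹]
      simp only [commutatorElement_def]; group
  have e3 : ⁅u, a * u * a⁻¹⁆ = 1 := by
    refine odd _ (mul_mem (mul_mem (mul_mem hu v1) (inv_mem hu)) (inv_mem v1)) ?_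
    nth_rewrite 2 [e2]
    rw [← cen_conj (hc u hu _ v2) a]
    simp only [commutatorElement_def]; group
  have c1 : u * (a * u * a⁻¹) = (a * u * a⁻¹) * u := commutatorElement_eq_one_iff_mul_comm.1 e3
  have a3 : a * a * a = 1 := by rw [← ha, pow_three']
  have ai : a⁻¹ = a * a := by rw [inv_eq_iff_mul_eq_one, ← mul_assoc, a3]
  have b3 : (u * a * u⁻¹) ^ 3 = 1 := by rw [conj_pow, ha]; group
  have b1 : u * a * u⁻¹ ≠ 1 := fun e => a1 (by
    calc a = u⁻¹ * (u * a * u⁻¹) * u := by group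
      _ = 1 := by rw [e]; group)
  obtain ⟨x, hx⟩ : ∃ x, x = a * u * a⁻¹ := ⟨_, rfl⟩
  obtain ⟨y, hy⟩ : ∃ y, y = a⁻¹ * u * a := ⟨_, rfl⟩
  have c2 : Commute u x := hx ▸ c1
  have c3 : Commute y u := by
    have : a⁻¹ * (u * (a * u * a⁻¹)) * a = a⁻¹ * ((a * u * a⁻¹) * u) * a := by rw [c1]
    show y * u = u * y
    rw [hy]; convert this using 1 <;> group
  have c4 : Commute x y := by
    have : a * (u * (a * u * a⁻¹)) * a⁻¹ = a * ((a * u * a⁻¹) * u) * a⁻¹ := by rw [c1]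
    have k : a * (a * u * a⁻¹) * a⁻¹ = y := by
      rw [hy]
      calc _ = (a * a) * u * (a * a)⁻¹ := by group
        _ = _ := by rw [← ai, inv_inv]
    show x * y = y * x
    rw [hx, ← k]; convert this using 1 <;> group
  have ab : (a * (u * a * u⁻¹)) ^ 3 = 1 := by
    have k1 : a * u = x * a := by rw [hx]; group
    have k2 : a * x = y * a := by
      rw [hx, hy]
      calc _ = (a * a) * u * a⁻¹ := by group
        _ = a⁻¹ * u * (a * a) := by rw [← ai]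
        _ = _ := by group
    have k3 : a * y = u * a := by rw [hy]; group
    have j1 : a * u⁻¹ = x⁻¹ * a := by rw [hx]; group
    have j2 : a * x⁻¹ = y⁻¹ * a := by
      calc _ = y⁻¹ * (y * a) * x⁻¹ := by group
        _ = _ := by rw [← k2]; group
    have j3 : a * y⁻¹ = u⁻¹ * a := by rw [hy]; group
    have m : a * (u * a * u⁻¹) = x * y⁻¹ * (a * a) := by
      calc _ = (a * u) * (a * u⁻¹) := by group
        _ = x * (a * x⁻¹) * a := by rw [k1, j1]; group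
        _ = _ := by rw [j2]; group
    have n1 : a * a * (x * y⁻¹) = u * x⁻¹ * (a * a) := by
      calc _ = a * (a * x) * y⁻¹ := by group
        _ = (a * y) * (a * y⁻¹) := by rw [k2]; group
        _ = u * (a * u⁻¹) * a := by rw [k3, j3]; group
        _ = _ := by rw [j1]; group
    have n2 : a * a * (u * x⁻¹) = y * u⁻¹ * (a * a) := by
      calc _ = a * (a * u) * x⁻¹ := by group
        _ = (a * x) * (a * x⁻¹) := by rw [k1]; group
        _ = y * (a * y⁻¹) * a := by rw [k2, j2]; group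
        _ = _ := by rw [j3]; group
    rw [m, pow_three']
    calc _ = x * y⁻¹ * (a * a * (x * y⁻¹)) * (a * a * (x * y⁻¹)) * (a * a) := by group
      _ = x * y⁻¹ * (u * x⁻¹) * (a * a * (u * x⁻¹)) * (a * a * (a * a)) := by rw [n1]; group
      _ = x * y⁻¹ * (u * x⁻¹) * (y * u⁻¹) * ((a * a * a) * (a * a * a)) := by rw [n2]; group
      _ = x * (y⁻¹ * u) * x⁻¹ * (y * u⁻¹) := by rw [a3]; group
      _ = 1 := by
        rw [(c4.inv_right.mul_right c2.symm).eq, mul_inv_cancel_right, c3.inv_left.eq]; group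
  have := nt a _ ha b3 ab a1 b1 (a2 u hu)
  calc a * u * a⁻¹ = (u * a * u⁻¹) * u * a⁻¹ := by rw [← this]
    _ = u := by group

/-- the element of order three centralizes `S` -/
theorem core [Finite X] (nt : NT X) (ha : a ^ 3 = 1) (a1 : a ≠ 1)
    (a2 : ∀ u ∈ S, a * (u * a * u⁻¹) ≠ 1) (odd : Odd (Nat.card S))
    (hc : ∀ s ∈ S, ∀ t ∈ S, ⁅s, t⁆ ∈ center X)
    (h1 : ∀ s ∈ S, Cz ((i * i) * s * (i * i)⁻¹) s)
    (h2 : ∀ s ∈ S, Cz ((i * a * i⁻¹ * a) * s * (i * a * i⁻¹ * a)⁻¹) s) {x : X} (hx : x ∈ S) :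
    a * x * a⁻¹ = x := by
  obtain ⟨k, hk⟩ := odd
  have pw : ∀ s ∈ S, (s * s) ^ (k + 1) = s := fun s hs => by
    have : s ^ (2 * k + 1) = 1 := by
      rw [← hk]; exact congrArg Subtype.val (pow_card_eq_one' (x := (⟨s, hs⟩ : S)))
    rw [← sq, ← pow_mul, mul_add, mul_one, add_comm, show 2 + 2 * k = 1 + (2 * k + 1) by omega,
      pow_add, this, mul_one, pow_one]
  have od : ∀ s ∈ S, s * s = 1 → s = 1 := fun s hs e => by rw [← pw s hs, e, one_pow]
  have sw : ∀ s ∈ S, ∀ t ∈ S, Cz (s * t) (t * s) := fun s hs t ht => by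
    have := hc s hs t ht
    rw [Cz]; convert this using 1; simp only [commutatorElement_def]; group
  have y1 := hS.conj_mem x hx i
  have k0 : Cz (i * (i * x * i⁻¹) * i⁻¹) x := by convert h1 x hx using 1; group
  have u1 := one nt ha a1 a2 od hc h2 (mul_mem hx y1) (Or.inl (by
    have := ((Cz.refl (i * x * i⁻¹)).mul k0).trans (sw _ y1 _ hx)
    convert this using 1; group))
  have u2 := one nt ha a1 a2 od hc h2 (mul_mem (inv_mem y1) hx) (Or.inr (by
    have := k0.inv.mul (Cz.refl (i * x * i⁻¹))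
    convert this using 1 <;> simp only [mul_inv_rev, inv_inv, mul_assoc, inv_mul_cancel_left]))
  have u3 : a * (x * x) * a⁻¹ = x * x := by
    calc _ = (a * (x * (i * x * i⁻¹)) * a⁻¹) * (a * ((i * x * i⁻¹)⁻¹ * x) * a⁻¹) := by group
      _ = _ := by rw [u1, u2]; group
  rw [← pw x hx, ← conj_pow, u3]
end

end H9.FV
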