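/-
S5211, q = 5: words in the Lyons group.
-/
import Cfsg.Agent.H16.D.LYd

set_option autoImplicit false
set_option maxRecDepth 100000

namespace H9.GL
open H16 H16.DC Cfsg

theorem rpL_map' {n p : ℕ} {q : FP n n p} (h : q.OK) {g : ℕ → GL (_root_.Fin n) (ZMod p)} {C : List ℕ} {K : ℕ} (hg : q.RpL g C K)
    {V : List (List ℕ)} (hV : allL (ltAll K) V = true) : q.RpL (wds g V) (V.map (q.ev C)) V.length := fun k hk => by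
  have := hg.ev h (nth_lt hV k)
  rwa [nth_eq_getD 0, List.getD_eq_getElem _ _ (by simpa), List.getElem_map, ← List.getD_eq_getElem _ [] hk, ← nth_eq_getD]

def V : List (List ℕ) := [[2], [3, 5, 2, 2, 5, 5, 3, 0, 4, 1], [0, 4, 1, 4, 0, 5, 1, 5, 0, 4, 1, 4, 0, 5, 1, 5, 3, 5, 5, 2, 2, 5, 3, 4], [0, 4, 1, 4, 0, 5, 1, 5, 3, 4, 2, 5], [0, 4, 1, 4, 0, 5, 1, 5, 0, 4, 1, 4, 0, 5, 1, 5, 3, 5, 5, 2, 2, 5, 5, 3, 5], [4, 0, 4, 1, 5, 0, 5, 1, 4, 0, 4, 1, 5, 0, 5, 1], [1, 3, 1, 2, 2, 1], [0, 0], [2, 2, 1, 3, 3, 0], [6, 4, 6, 3, 0, 2, 4, 6, 0, 4, 1, 4, 0, 5, 1, 3, 3, 1, 3, 3, 0, 3, 0, 2, 0, 0, 4, 1, 4, 0, 5, 1, 5, 3, 4, 2, 5, 0, 4, 1, 4, 0, 5, 1, 5, 3, 4, 2, 5], [8, 2, 0, 2, 8, 0]]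
def P : List (List ℕ × List ℕ) := [([0, 0, 0, 0, 0], []), ([1, 1, 1, 1, 1], []), ([2, 2, 2, 2, 2], []), ([3, 3, 3, 3, 3], []), ([4, 4, 4, 4, 4], []), ([5, 5, 5, 5, 5], []), ([0, 1], [5, 4, 3, 2, 1, 0]), ([0, 2], [5, 5, 5, 4, 4, 4, 3, 3, 2, 0]), ([0, 3], [4, 4, 4, 3, 0]), ([0, 4], [4, 0]), ([0, 5], [5, 0]), ([1, 2], [2, 1]), ([1, 3], [3, 1]), ([1, 4], [5, 5, 5, 5, 4, 1]), ([1, 5], [5, 1]), ([2, 3], [5, 5, 5, 3, 2]), ([2, 4], [4, 2]), ([2, 5], [5, 2]), ([3, 4], [4, 3]), ([3, 5], [5, 3]), ([4, 5], [5, 4]), ([0, 6], [6, 0, 0]), ([1, 6], [6, 1]), ([2, 6], [6, 2, 2]), ([3, 6], [6, 3, 3, 3, 3]), ([4, 6], [6, 4, 4, 4]), ([5, 6], [6, 5, 5, 5]), ([0, 7], [7, 0]), ([1, 7], [7, 1, 1]), ([2, 7], [7, 2, 2]), ([3, 7], [7, 3, 3]), ([4, 7], [7, 4, 4]), ([5, 7], [7, 5, 5, 5, 5]), ([1, 8], [8, 4, 4, 4, 4]), ([2, 8], [8,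 3]), ([3, 8], [8, 2, 2, 2, 2]), ([4, 8], [8, 1]), ([5, 8], [8, 5]), ([0, 9], [9, 2]), ([2, 9], [9, 0, 0, 0, 0]), ([3, 9], [9, 3]), ([4, 9], [9, 5]), ([5, 9], [9, 4, 4, 4, 4]), ([1, 10], [10, 2, 2, 2, 2]), ([2, 10], [10, 1]), ([3, 10], [10, 4, 4]), ([4, 10], [10, 3, 3]), ([5, 10], [10, 5])]
noncomputable def CV : List ℕ := V.map (DLY.q.ev DLY.C)
theorem hV : allL (ltAll 10) V = true := by decide +kernel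
theorem c0 : DLY.q.prChk CV 11 P 0 21 = true := by decide +kernel
theorem c1 : DLY.q.prChk CV 11 P 21 27 = true := by decide +kernel
theorem c2 : DLY.q.neChk CV 11 [5] [] 0 = true := by decide +kernel
theorem rv : DLY.q.RpL (wds DLY.g V) CV 11 := rpL_map' DLY.qok DLY.rp hV
/-- the letters `A U S R V Z τ₁ τ₂ M₁ M₂ g` -/
noncomputable def y : ℕ → Spor.Ly := wds LYd.γ V
theorem em : Emb y (wds DLY.g V) 11 := LYd.emb.wds hV 11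
theorem prs : ∀ d ∈ P, evA y d.1 = evA y d.2 :=
  em.prs (FP.Prs.step DLY.qok rv (FP.Prs.step DLY.qok rv (FP.Prs.zero _ P) c0) c1) (by decide +kernel)
theorem z_ne : y 5 ≠ 1 := by simpa using em.ne (FP.RpL.ne DLY.qok rv c2) (by decide +kernel)

end H9.GL
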