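/-
S5211, q = 5: the Lyons group.
-/
import Cfsg.Agent.H9.GL0
import Cfsg.Agent.H9.GL1
import Cfsg.Agent.H2.G50

set_option autoImplicit false

namespace H9.GL
open H16 H25.GC H25.GC.Gc H2.G Cfsg

theorem ws_mul {G : Type*} [Group G] {ev : Gc F5 →* G} {τ τ' : G} {k l k' l' : F5} (h : Ws ev τ k l) (h' : Ws ev τ' k' l') :
    Ws ev (τ * τ') (k * k') (l * l') := fun c => by
  rw [show τ * τ' * ev c * (τ * τ')⁻¹ = τ * (τ' * ev c * τ'⁻¹) * τ⁻¹ by group, h', h]
  congr 1; ext <;> simp <;> ring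

theorem ly : LY := by
  have P' := fun a b (h : (a, b) ∈ P) => prs (a, b) h
  obtain ⟨ev, i, e⟩ := ex_ev (p := 5) (y := y) (fun d hd => by
    rcases (by decide +kernel : ∀ d ∈ RP 5, d ∈ P ∨ d = ([4, 1], [5, 1, 4])) d hd with h | rfl
    · exact prs d h
    have a := P' [1, 4] [5, 5, 5, 5, 4, 1] (by decide +kernel)
    have b := P' [5, 5, 5, 5, 5] [] (by decide +kernel)
    simp only [evA_cons, evA_nil, one_mul] at a b ⊢
    rw [a]; simp only [mul_assoc] at b ⊢; rw [b, mul_one]) (by decide) z_ne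
  have t1 : Ws ev (y 6) 2 1 := .of (by
    simp only [List.forall_mem_cons]
    exact ⟨e.cj (i := 0) (P' _ [6, 0, 0] (by decide +kernel)) (by decide +kernel), e.cj (i := 1) (P' _ [6, 1] (by decide +kernel)) (by decide +kernel),
      e.cj (i := 2) (P' _ [6, 2, 2] (by decide +kernel)) (by decide +kernel), e.cj (i := 3) (P' _ [6, 3, 3, 3, 3] (by decide +kernel)) (by decide +kernel),
      e.cj (i := 4) (P' _ [6, 4, 4, 4] (by decide +kernel)) (by decide +kernel), e.cj (i := 5) (P' _ [6, 5, 5, 5] (by decide +kernel)) (by decide +kernel),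
      by simp⟩)
  have t2 : Ws ev (y 7) 1 2 := .of (by
    simp only [List.forall_mem_cons]
    exact ⟨e.cj (i := 0) (P' _ [7, 0] (by decide +kernel)) (by decide +kernel), e.cj (i := 1) (P' _ [7, 1, 1] (by decide +kernel)) (by decide +kernel),
      e.cj (i := 2) (P' _ [7, 2, 2] (by decide +kernel)) (by decide +kernel), e.cj (i := 3) (P' _ [7, 3, 3] (by decide +kernel)) (by decide +kernel),
      e.cj (i := 4) (P' _ [7, 4, 4] (by decide +kernel)) (by decide +kernel), e.cj (i := 5) (P' _ [7, 5, 5, 5, 5] (by decide +kernel)) (by decide +kernel),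
      by simp⟩)
  have z9 : y 9 * ev (xz 1) * (y 9)⁻¹ = ev (xv 4) := e.cj (i := 5) (P' _ [9, 4, 4, 4, 4] (by decide +kernel)) (by decide +kernel)
  refine ⟨Spor.Ly, inferInstance, LYd.fin, ev, ⊤, ⟨i, fun _ => trivial, by rw [Subgroup.card_top, DLY.card_eq]; norm_num,
    ⟨_, trivial, ws_mul (ws_mul (ws_mul (ws_mul t1 t1) t1) t2) t2⟩, y 9, trivial, q2_of ?_, xv 4, by decide, z9⟩,
    ⟨y 8, trivial, .of ?_⟩, y 10, trivial, .of ?_⟩ <;> simp only [List.forall_mem_cons]
  · exact ⟨⟨xs 1, rfl, e.cj (i := 0) (P' _ [9, 2] (by decide +kernel)) (by decide +kernel)⟩,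
      ⟨xa 4, rfl, e.cj (i := 2) (P' _ [9, 0, 0, 0, 0] (by decide +kernel)) (by decide +kernel)⟩,
      ⟨xr 1, rfl, e.cj (i := 3) (P' _ [9, 3] (by decide +kernel)) (by decide +kernel)⟩,
      ⟨xz 1, rfl, e.cj (i := 4) (P' _ [9, 5] (by decide +kernel)) (by decide +kernel)⟩, ⟨xv 4, rfl, z9⟩, by simp⟩
  · exact ⟨⟨xv 4, rfl, e.cj (i := 1) (P' _ [8, 4, 4, 4, 4] (by decide +kernel)) (by decide +kernel), by decide +kernel⟩,
      ⟨xr 1, rfl, e.cj (i := 2) (P' _ [8, 3] (by decide +kernel)) (by decide +kernel), by decide +kernel⟩,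
      ⟨xs 4, rfl, e.cj (i := 3) (P' _ [8, 2, 2, 2, 2] (by decide +kernel)) (by decide +kernel), by decide +kernel⟩,
      ⟨xu 1, rfl, e.cj (i := 4) (P' _ [8, 1] (by decide +kernel)) (by decide +kernel), by decide +kernel⟩,
      ⟨xz 1, rfl, e.cj (i := 5) (P' _ [8, 5] (by decide +kernel)) (by decide +kernel), by decide +kernel⟩, by simp⟩
  · exact ⟨⟨xs 4, rfl, e.cj (i := 1) (P' _ [10, 2, 2, 2, 2] (by decide +kernel)) (by decide +kernel), by decide +kernel⟩,
      ⟨xu 1, rfl, e.cj (i := 2) (P' _ [10, 1] (by decide +kernel)) (by decide +kernel), by decide +kernel⟩,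
      ⟨xv 2, rfl, e.cj (i := 3) (P' _ [10, 4, 4] (by decide +kernel)) (by decide +kernel), by decide +kernel⟩,
      ⟨xr 2, rfl, e.cj (i := 4) (P' _ [10, 3, 3] (by decide +kernel)) (by decide +kernel), by decide +kernel⟩,
      ⟨xz 1, rfl, e.cj (i := 5) (P' _ [10, 5] (by decide +kernel)) (by decide +kernel), by decide +kernel⟩, by simp⟩

end H9.GL
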