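import Cfsg.Agent.H9.O4
import Cfsg.Agent.H9.U4

/-! # The exceptional isomorphisms `O₆⁻(2) ≅ O₅(3)` and `U₄(2) ≅ O₅(3)` -/

set_option autoImplicit false
set_option synthInstance.maxSize 4096
set_option synthInstance.maxHeartbeats 200000

open Subgroup Module H11 H12 H12.CForm

namespace H9

open FQ

theorem LM.transfer {F F' : Type*} [Field F] [Field F'] {T : FormType F} {T' : FormType F'}
    {V V' : Type*} [AddCommGroup V] [Module F V] [AddCommGroup V'] [Module F' V'] {C : CForm T V}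
    {C' : CForm T' V'} {c κ : F} {c' κ' : F'} {X : Type*} [FQ X] {S : Set X} {f : V → X}
    (h : LM S C c κ f) (hp : LP T' c' κ') (τ : V' → V) (σ : V → V') (L : List V') (dp : V' → ℕ)
    (h1 : ∀ v, Pt C' c' v → Pt C c (τ v) ∧ (∀ a : F', a ≠ 0 → τ (a • v) = τ v) ∧
      (∀ a : F, a ≠ 0 → ∃ b : F', b ≠ 0 ∧ σ (a • τ v) = b • v) ∧
      (v ∈ L ∨ ∃ s ∈ L, dp (v + (κ' * C'.B s v) • s) < dp v))
    (h2 : ∀ w, Pt C c w → Pt C' c' (σ w) ∧ ∃ a : F, w = a • τ (σ w))
    (h3 : ∀ u ∈ L, Pt C' c' u ∧ ∀ v, Pt C' c' v →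
      ∃ a : F, τ v + (κ * C.B (τ u) (τ v)) • τ u = a • τ (v + (κ' * C'.B u v) • u)) :
    LM S C' c' κ' (f ∘ τ) := by
  have k0 : ∀ u ∈ L, ∀ v, Pt C' c' v → f (τ (v + (κ' * C'.B u v) • u)) = t (f (τ u)) (f (τ v)) :=
    fun u hu v hv => ((h.eq_iff (h1 _ (Pt.t hp (h3 u hu).1 hv)).1
      (Pt.t h.lp (h1 _ (h3 u hu).1).1 (h1 _ hv).1)).2 ((h3 _ hu).2 _ hv)).trans
      (h.map_t (h1 _ (h3 u hu).1).1 (h1 _ hv).1)
  have k1 : ∀ n u, dp u = n → Pt C' c' u → ∀ v, Pt C' c' v →
      f (τ (v + (κ' * C'.B u v) • u)) = t (f (τ u)) (f (τ v)) := by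
    intro n
    induction n using Nat.strong_induction_on with
    | _ n ih =>
    rintro u rfl hu v hv
    rcases (h1 u hu).2.2.2 with k | ⟨s, hs, k⟩
    · exact k0 u k v hv
    have hs' := (h3 s hs).1
    have hw := Pt.t hp hs' hu
    have e : u = (u + (κ' * C'.B s u) • s) + (κ' * C'.B s (u + (κ' * C'.B s u) • s)) • s :=
      (hp.invol hs'.2 u).symm
    generalize u + (κ' * C'.B s u) • s = w at k hw e
    have e2 := congrArg (fun g : C'.isom => g.1 v) (rk_rk hp hs'.2 hw.2)
    simp only [isom_mul_apply, ← e, rk_apply hp hu.2, rk_apply hp hs'.2, rk_apply hp hw.2] at e2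
    rw [← e2, k0 s hs _ (Pt.t hp hw (Pt.t hp hs' hv)), ih _ k w rfl hw _ (Pt.t hp hs' hv),
      k0 s hs v hv, e, k0 s hs w hw, t_t_eq]
    rfl
  refine ⟨hp, fun hv => h.mem (h1 _ hv).1, fun hx => ?_, fun {u v} hu hv => ?_,
    fun hu hv => k1 _ _ rfl hu _ hv⟩
  · obtain ⟨w, hw, rfl⟩ := h.surj hx
    exact ⟨σ w, (h2 w hw).1, (h.eq_iff (h1 _ (h2 w hw).1).1 hw).2 (h2 w hw).2⟩
  · refine ⟨fun e => ?_, fun ⟨a, e⟩ => ?_⟩
    · obtain ⟨a, e⟩ := (h.eq_iff (h1 _ hu).1 (h1 _ hv).1).1 e
      obtain ⟨b, -, e1⟩ := (h1 u hu).2.2.1 a (by rintro rfl; exact (h1 v hv).1.1 (by simpa using e))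
      obtain ⟨b', b0, e2⟩ := (h1 v hv).2.2.1 1 one_ne_zero
      rw [one_smul, e, e1] at e2
      exact ⟨b'⁻¹ * b, by rw [mul_smul, e2, inv_smul_smul₀ b0]⟩
    · have : a ≠ 0 := by rintro rfl; exact hv.1 (by simpa using e)
      simp only [Function.comp, e, (h1 u hu).2.1 a this]

/-- a one-dimensional quadratic space -/
def quadOne (c : ZMod 3) : CForm (quadType (ZMod 3)) (ZMod 3) where
  B := LinearMap.mk₂ (ZMod 3) (fun u v => 2 * c * u * v) (fun u u' v => by ring)
    (fun k u v => by simp only [smul_eq_mul]; ring) (fun u v v' => by ring)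
    (fun k u v => by simp only [smul_eq_mul]; ring)
  N u := c * u * u
  symm x y := by show 2 * c * y * x = 1 * (2 * c * x * y); ring
  N_add x y := by show c * (x + y) * (x + y) = _ + 2 * c * x * y; ring
  N_smul k x := by show c * (k * x) * (k * x) = k * k * _; ring
  B_self x := by show 2 * c * x * x = 2 * _; ring
  N_mem x := ⟨_, rfl⟩

theorem quadOne_nondeg {c : ZMod 3} (hc : c ≠ 0) : (quadOne c).Nondeg := fun x h => by
  have : 2 * c * x * 1 = 0 := h 1
  revert this; clear h; revert c x; decide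

/-- the five-dimensional space -/
abbrev W5 : Type := (((ZMod 3 × ZMod 3) × ZMod 3) × ZMod 3) × ZMod 3

/-- the five-dimensional forms -/
def q5 (c : ZMod 3) : CForm (quadType (ZMod 3)) W5 := oneExt (oneExt (oneExt (oneExt (quadOne c))))

theorem q5_nondeg {c : ZMod 3} (hc : c ≠ 0) : (q5 c).Nondeg :=
  oneExt_nondeg (oneExt_nondeg (oneExt_nondeg (oneExt_nondeg (quadOne_nondeg hc))))

/-- encoding -/
def enc5 (v : W5) : ℕ := v.1.1.1.1.val + 3 * v.1.1.1.2.val + 9 * v.1.1.2.val + 27 * v.1.2.val + 81 * v.2.val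

/-- the six-dimensional space over the field with two elements -/
abbrev W6 : Type := ZMod 2 × ZMod 2 × ZMod 2 × ZMod 2 × ZMod 2 × ZMod 2

/-- the polar form -/
def b6 (u v : W6) : ZMod 2 := u.1 * v.2.1 + u.2.1 * v.1 + u.2.2.1 * v.2.2.2.1 +
  u.2.2.2.1 * v.2.2.1 + u.2.2.2.2.1 * v.2.2.2.2.2 + u.2.2.2.2.2 * v.2.2.2.2.1

/-- the elliptic form in dimension six -/
def q6 : CForm (quadType (ZMod 2)) W6 where
  B := LinearMap.mk₂ (ZMod 2) b6
    (fun u u' v => by simp only [b6, Prod.fst_add, Prod.snd_add]; ring)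
    (fun k u v => by simp only [b6, Prod.smul_fst, Prod.smul_snd, smul_eq_mul]; ring)
    (fun u u' v => by simp only [b6, Prod.fst_add, Prod.snd_add]; ring)
    (fun k u v => by simp only [b6, Prod.smul_fst, Prod.smul_snd, smul_eq_mul]; ring)
  N u := u.1 * u.1 + u.1 * u.2.1 + u.2.1 * u.2.1 + u.2.2.1 * u.2.2.2.1 + u.2.2.2.2.1 * u.2.2.2.2.2
  symm x y := by show b6 y x = 1 * b6 x y; simp only [b6]; ring
  N_add x y := by
    have : (2 : ZMod 2) = 0 := rfl
    show _ = _ + b6 x y
    simp only [b6, Prod.fst_add, Prod.snd_add]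
    linear_combination (x.1 * y.1 + x.2.1 * y.2.1) * this
  N_smul k x := by
    show _ = k * k * _
    simp only [Prod.smul_fst, Prod.smul_snd, smul_eq_mul]; ring
  B_self x := by
    have : (2 : ZMod 2) = 0 := rfl
    show b6 x x = 2 * _
    simp only [b6]
    linear_combination -(x.1 * x.1 + x.2.1 * x.2.1) * this
  N_mem x := ⟨_, rfl⟩

theorem q6_nondeg : q6.Nondeg := by
  have : ∀ x : W6, (∀ y, q6.B x y = 0) → x = 0 := by decide +kernel
  exact this

/-- the table for `O₆⁻(2)` -/
def tabA (v : W5) : W6 :=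
  let k := 0x21000ac00000008c0029000000000000022a8000064001300000001b0004400000000000006920000000000159c00000000005e5026700b1600003000044001b00000001300064000000000000049a0000290008c0000000ac002100000000000002a8800000000009570000000000275405ac01c980000c0000000003d1c0000000000fc5006d0033e00003800000000017f000000000007f40f8c034180000e0b0c00490000022410032c000008000a000280000 >>> (6 * enc5 v)
  ((k : ℕ), (k / 2 : ℕ), (k / 4 : ℕ), (k / 8 : ℕ), (k / 16 : ℕ), (k / 32 : ℕ))

instance {F : Type*} [Field F] [DecidableEq F] {T : FormType F} {V : Type*} [AddCommGroup V]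
    [Module F V] [DecidableEq V] (C : CForm T V) (c : F) (v : V) : Decidable (Pt C c v) :=
  inferInstanceAs (Decidable (_ ∧ _))

/-- decoding -/
def dec5 (k : ℕ) : W5 :=
  (((((k % 4 : ℕ), (k / 4 % 4 : ℕ)), (k / 16 % 4 : ℕ)), (k / 64 % 4 : ℕ)), (k / 256 % 4 : ℕ))

/-- the inverse table for `O₆⁻(2)` -/
def invA (w : W6) : W5 := dec5 (0x18485144000000000040000000008900000001000000000109a9281a50008850584400591415500000000002096918165000486054440099241950000000000049054040940028445244000a41006400 >>> (10 * (w.1.val + 2 * w.2.1.val + 4 * w.2.2.1.val +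
  8 * w.2.2.2.1.val + 16 * w.2.2.2.2.1.val + 32 * w.2.2.2.2.2.val)))

theorem LM.o3_of_q6 {X : Type*} [FQ X] {S : Set X} {f : W6 → X} (h : LM S q6 1 1 f) : IsO3 S 5 :=
  IsLM.of (h.transfer (C' := q5 (-1)) (lpO3 one_ne_zero) tabA invA
    [((((0, 1), 1), 2), 2), ((((1, 1), 0), 2), 0), ((((1, 0), 2), 1), 0), ((((0, 0), 0), 1), 0), ((((0, 1), 2), 1), 1), ((((0, 1), 1), 2), 1)]
    (fun v => 0x1003000001000000000000250001002000002001000000000340000000410000000120210310001001001000002000000000000430001000000003001000000000520000000210000000140230110001000000310000000120120300001000000200000000230130210000340160002620430002001002000 >>> (4 * enc5 v) % 16) (by decide +kernel)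
    (by decide +kernel) (by decide +kernel)) (q5_nondeg (by decide)) (by simp)

/-- the zero space -/
def herm0 : CForm (hermT hF4) PUnit.{1} :=
  ofHerm (frob hF4) (frob_ne_id hF4) (frob_frob hF4) 0 ⟨fun _ _ => by simp⟩

theorem herm0_nondeg : herm0.Nondeg := fun _ _ => rfl

/-- decoding -/
def dec4 (k : ℕ) : F4 := ⟨(k : ℕ), (k / 2 : ℕ)⟩

/-- the four-dimensional space -/
abbrev W4 : Type := (PUnit.{1} × F4 × F4) × F4 × F4

/-- the table for `U₄(2)` -/
def tabB (v : W5) : W4 :=
  let k := 0x320000be1296000000760000fade5a00226e00e6aa0000000000003a0000b61a9e0000007e0000f2d652002a6600eea20000000020f800582800000000a8180038a0000000000000000000000000800000f200007e52d6000000b600003a9e1a00a2ee00662a000000000000fa0000765ade000000be000032961200aae6006e2200000000a0380018a800000000285800f8200000000000000000000000008002ca004a82000000008a4200c20a000000000000000000000000080ac200428a00000000824a00ca0200000000000000000000000008000000000000000088000000000000000088000048000048c8c800 >>>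 (8 * enc5 v)
  ((⟨⟩, dec4 k, dec4 (k / 4)), dec4 (k / 16), dec4 (k / 64))

/-- encoding -/
def enc4 (x : F4) : ℕ := x.re.val + 2 * x.im.val

/-- the inverse table for `U₄(2)` -/
def invB (w : W4) : W5 := dec5 (0xa140000125002940022900000a451991654946150018959000a84006900098549000000000000000001619240099000a2400a91a10000000000000001940000010000a90000100000164042946926500002a4684009240058400a2664000000000000000a440000119002850012500000a5229946459521500261524005900062400692a100000000000000016400000040006500010000002a401264a51a500001a4a8400524009840062564000000000000000002899900068400a900058649000000000000000a500000229002910011900000a152595251916152a40000001000590000400000194101a499295006140000225001940012900000646195155454515644000021900185002250000065129545455511565000001290019100219000006162555151515152540000040000950004000000254401545515400 >>> (10 * (enc4 w.1.2.1 + 4 * enc4 w.1.2.2 +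
  16 * enc4 w.2.1 + 64 * enc4 w.2.2)))

/-- conjugation -/
def cj (x : F4) : F4 := ⟨x.re + x.im, x.im⟩

theorem sq_eq_cj : ∀ x : F4, x ^ 2 = cj x := by decide

/-- the Hermitian form -/
def b4 (u v : W4) : F4 := cj u.1.2.1 * v.1.2.2 + cj u.1.2.2 * v.1.2.1 + cj u.2.1 * v.2.2 + cj u.2.2 * v.2.1

theorem b4_eq (u v : W4) : (hypExt (hypExt herm0)).B u v = b4 u v := by
  rw [hypExt_B, hypExt_B]
  show 0 + _ + _ + _ + _ = _
  simp only [b4, sq_eq_cj, zero_add]

theorem pt4 (v : W4) : Pt (hypExt (hypExt herm0)) 0 v ↔ v ≠ 0 ∧ b4 v v = 0 := by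
  rw [Pt, herm_N, b4_eq]

theorem LM.o3_of_u4 {X : Type*} [FQ X] {S : Set X} {f : W4 → X}
    (h : LM S (hypExt (hypExt herm0)) 0 1 f) : LM S (q5 1) 1 (-1) (f ∘ tabB) :=
  h.transfer (lpO3 one_ne_zero) tabB invB
    [((((1, 0), 1), 1), 1), ((((0, 1), 1), 2), 1), ((((1, 1), 2), 1), 0), ((((0, 0), 0), 1), 0), ((((1, 1), 0), 2), 2)]
    (fun v => 0x1005140001003210530300000001004250002002220420210000130310000360540000000000003003002220004000510120140000002001120005001400120250000350630000230320000000000003430210000120250000000000001520300000210240000000000000000000003000000003003003340 >>> (4 * enc5 v) % 16) (by simp only [pt4]; decide +kernel)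
    (by simp only [pt4]; decide +kernel) (by simp only [b4_eq]; decide +kernel)

theorem IsLM.o3_of_u4 {X : Type*} [FQ X] {S : Set X} (h : IsU S 4) : IsO3 S 5 ∧ Clq S 5 := by
  obtain ⟨C, hC, f, hf⟩ := h
  have hn := hypExt_nondeg (hypExt_nondeg herm0_nondeg)
  obtain ⟨g, hg⟩ := hf.of_iso ((hermT_iso_hermC hF4 hC (n := 4) (by simp)).trans
    (hermT_iso_hermC hF4 hn (by simp [finrank_zero_of_subsingleton])).symm)
  have k := hg.o3_of_u4
  let e : Fin 5 → W5 := ![((((1, 0), 0), 0), 0), ((((0, 1), 0), 0), 0), ((((0, 0), 1), 0), 0),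
    ((((0, 0), 0), 1), 0), ((((0, 0), 0), 0), 1)]
  have h1 : ∀ i, Pt (q5 1) 1 (e i) := by decide +kernel
  have h2 : ∀ i j, i ≠ j → (q5 1).B (e i) (e j) = 0 := by decide +kernel
  exact ⟨IsLM.of k (q5_nondeg one_ne_zero) (by simp), fun i => _, fun i => k.mem (h1 i),
    fun i j hij => (k.dc3 (h1 i) (h1 j)).2 (h2 i j hij)⟩

end H9
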