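import Cfsg.Agent.H10.KI.D1

/-! A model of the two split-by-a-graph-automorphism extensions of `UT₅(2)` on the numbers below 2048. -/

set_option autoImplicit false
set_option maxRecDepth 100000

namespace H9.KI
open Subgroup H16 H6.UT
open scoped commutatorElement

def SGT : ℕ := 0xd2349d6758f63d9f27c8721c9765d85615952548d2f4ad6b5bf6fdaf2bcb729cb76dda5695b52d4adef7adab6bfafeafebfb7a9eb7edfa5e97b5ad6ade379da768fa3e9fe7f87a1e97e5f85e1795a568be2f9ba6e89a2699e6783a0e93e4f81e0791a468beefabaaeb9ae6a9ea7b3a8eb3ecfa1e87b1ac6ab2ecab6adb96e5a92a4b328cb36cda1685b12c4ab22c9b66d89625992648320c9364d81605912448d3b4fd7f5ef7fdef3bcf73dce779df5795f53d4ed374cd735df73ddf37cc735cc771dd5715d5354cdf77cdb36dfb3edff7fc7b5ec7f1fd5f17d5b56cdfb7fdbf6efbfeeffbff7bdee7f9ff5f97f5bd6ebf6fcbb2ed9b26d9f67c3b4ec3f0fd1f07d1b46cbfaffbbeee9be6e9fa7f3bcee3f8ff1f87f1bc6eb3acfb7ede97e5e93a4f33cce378df1785f13c4eb36ccb72dd9725d9364c334cc370dd1705d1344ccbb2fcff3eebfaeefbbf6fdbe6b9af4f93f4bd2ecb72ccf33deb3adef7bc6f5bc6b1ad4f13d4b52cc7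71cc330de739de378c6759c6318d4711d4350cc7b1fc3f0ee7f9ee3b8f67d9e6398f4791f43d0eab6acaf2bd8b22d8f63c2f4bc2b0ad0f03d0b42cabaafafebe8be2e8fa3f2fcbe2b8af0f83f0bc2ea7a9fa3e8e87e1e83a0f27c9e2388f0781f03c0ea769ca328d8721d8360c2749c2308d0701d0340cca329ce738ea3a9ee7b86e1b96a5a84e1394a528caf2aceb3beafaaeebbb6e9bb6adaa4e93b4ad2ac6f1ac2b0be6f9ae2b8b6699b62d8a4691b42d0ac6319c2708e6399e278866199625884611942508aa2a9ae6b88a2298e6382e0b92a4a80e0390a428aaeaaaeabb8ae2a8ea3b2e8bb2acaa0e83b0ac2aa6e9aa2a8b86e1a82a0b2689b22c8a0681b02c0aa6299a2688862198260826099224880601902408d1345d5355f57d4f17c4711c5751d55555451544d1f46d5f56f5bd7f1bc7719c7759d755d5651d46dd375d9365f97e4fd7f4791e57d1f55d57459564ddf76d9f66f9be7fdbf7799e77d9f75dd7659d66bdef6b9ee699a679da77398e73d8f71dc7619c66bd2f5b92e5996649d674390e53d0f51d47419464b1ec6b5ed695a5791a47318c7358d715c5611c46b12c5b52d59565491644310c5350d51545411444d0b43d4b53f4bd3f0bc370dc274dd254d5250d42d0740d4750f47d0f07c0705c0745d05455050540dcb73d8b63f8be3fcbf378de27cdf25cd7258d62dc770d876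0f87e0fc7f0785e07c5f05c57058560bcaf3b8ae398a639ca7338ce23ccf21cc7218c62bc6f0b86e0986609c670384e03c4f01c47018460b0ac3b4ad394a5390a4330cc234cd214c5210c42b06c0b46d09465090640304c0344d01445010440c9325cd335e97a4ed7b46d1b5691a54d53449524c9f26cdf36e9ba7edbb76d9b7699a74dd3649d26c5315c1305e5794e178465195611854551441504c5f16c1f06e5b97e1b87659976198745d1641d06a9ea6adeb689a278da372d8b7298a70dc3609c26a92a5ad2b5896248d6342d0b5290a50d43409424a5e96a1e8685a1781a07258972188705c1601c06a5295a1285856148160425095210850541401404c8b23ccb33e8ba3ecbb36cdb268da24cd3248d22c8720cc730e87a0ec7b06c5b0685a04c53048520c4b13c0b03e4b93e0b8364d9260d8244d1240d02c4710c0700e4790e078064590605804451040500a8aa3acab388a238ca332ccb228ca20cc3208c22a86a0ac6b0886208c6302c4b0284a00c43008420a4a93a0a8384a1380a0324c9220c8204c1200c02a4690a0680846108060024490204800441000400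

noncomputable def sg (v : ℕ) : ℕ := Nat.land (Nat.shiftRight SGT (Nat.mul v (nat_lit 10))) (nat_lit 1023)

theorem sg_eq : ∀ x : T, sg x.v = (σ x).v := by decide +kernel
theorem xor1 : ∀ x : T, Nat.xor x.v (nat_lit 1) = (x * z).v := by decide +kernel

noncomputable def mw (η : Bool) (a b : ℕ) : ℕ := force a fun a => force b fun b =>
  bif Nat.ble (nat_lit 1024) a then
    (bif Nat.ble (nat_lit 1024) b then
      Nat.xor (mu (Nat.sub a (nat_lit 1024)) (sg (Nat.sub b (nat_lit 1024)))) (bif η then nat_lit 1 else nat_lit 0)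
    else Nat.add (mu (Nat.sub a (nat_lit 1024)) (sg b)) (nat_lit 1024))
  else (bif Nat.ble (nat_lit 1024) b then Nat.add (mu a (Nat.sub b (nat_lit 1024))) (nat_lit 1024) else mu a b)

noncomputable def iw (η : Bool) (a : ℕ) : ℕ := force a fun a =>
  bif Nat.ble (nat_lit 1024) a then
    Nat.add (Nat.xor (sg (iv (Nat.sub a (nat_lit 1024)))) (bif η then nat_lit 1 else nat_lit 0)) (nat_lit 1024)
  else iv a

/-- the model: the number `t + 1024 e` stands for `t sᵉ` -/
@[ext] structure W (η : Bool) where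
  v : ℕ
  lt : v < 2048

variable {η : Bool}

def pk (t : T) (e : Bool) : W η := ⟨bif e then t.v + 1024 else t.v, by have := t.lt; cases e <;> simp <;> omega⟩

theorem ind (x : W η) : ∃ t e, x = pk t e := by
  have := x.lt
  by_cases h : x.v < 1024
  exacts [⟨⟨x.v, h⟩, false, rfl⟩, ⟨⟨x.v - 1024, by omega⟩, true, W.ext (by simp [pk]; omega)⟩]

noncomputable def cs (e : Bool) : T →* T := bif e then σ else MonoidHom.id T
noncomputable def zb (e : Bool) : T := bif e then z else 1

theorem zb_c (b : Bool) (x : T) : zb b * x = x * zb b := by cases b <;> simp [zb, zc]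
theorem zb_zb : ∀ a b, zb a * zb b = zb (xor a b) := by decide +kernel
theorem cs_zb : ∀ a b, cs a (zb b) = zb b := by decide +kernel
theorem cs_cs (a b : Bool) (x : T) : cs a (cs b x) = cs (xor a b) x := by cases a <;> cases b <;> simp [cs, σσ]

theorem mw_pk (t u : T) (e f : Bool) : mw η (pk t e : W η).v (pk u f : W η).v =
    (pk (t * cs e u * zb (η && e && f)) (xor e f) : W η).v := by
  have k0 : ∀ t : T, Nat.ble (nat_lit 1024) t.v = false := fun t => by
    rw [← Bool.not_eq_true, Nat.ble_eq]; exact not_le.2 t.lt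
  have k1 : ∀ n, Nat.ble (nat_lit 1024) (n + 1024) = true := fun t => by rw [Nat.ble_eq]; exact Nat.le_add_left _ _
  have k2 : ∀ n, Nat.sub (n + 1024) (nat_lit 1024) = n := fun n => Nat.add_sub_cancel ..
  have k3 : ∀ t u : T, mu t.v u.v = (t * u).v := fun _ _ => rfl
  rw [mw, force_eq, force_eq]
  cases e <;> cases f <;> cases η <;>
    simp only [pk, cond_true, cond_false, k0, k1, k2, sg_eq, k3, xor1, cs, zb, Bool.and_true, Bool.and_false, mul_one,
      Bool.xor_false, Bool.xor_true, Bool.not_true, Bool.not_false, MonoidHom.id_apply] <;> first | rfl | exact Nat.xor_zero _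

theorem iw_lt : ∀ η, ∀ a < 2048, iw η a < 2048 ∧ mw η (iw η a) a = 0 := by decide +kernel

noncomputable instance : Mul (W η) := ⟨fun x y => ⟨mw η x.v y.v, by
  obtain ⟨t, e, rfl⟩ := ind x; obtain ⟨u, f, rfl⟩ := ind y; exact mw_pk t u e f ▸ W.lt _⟩⟩

theorem pk_mul (t u : T) (e f : Bool) : (pk t e * pk u f : W η) = pk (t * cs e u * zb (η && e && f)) (xor e f) :=
  W.ext (mw_pk t u e f)

noncomputable instance : Group (W η) where
  one := ⟨nat_lit 0, by norm_num⟩
  inv x := ⟨iw η x.v, (iw_lt _ _ x.lt).1⟩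
  mul_assoc x y w := by
    obtain ⟨t, e, rfl⟩ := ind x; obtain ⟨u, f, rfl⟩ := ind y; obtain ⟨v, g, rfl⟩ := ind w
    have : ∀ η e f g : Bool, xor (η && e && f) (η && xor e f && g) = xor (η && f && g) (η && e && xor f g) := by decide
    simp only [pk_mul, map_mul, cs_cs, cs_zb, Bool.xor_assoc]
    rw [mul_assoc _ (zb _), zb_c, mul_assoc, mul_assoc (cs _ v), zb_zb, this]
    simp only [mul_assoc, zb_zb]
  one_mul x := by
    obtain ⟨t, e, rfl⟩ := ind x
    exact (pk_mul 1 t false e).trans (by simp [cs, zb])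
  mul_one x := by
    obtain ⟨t, e, rfl⟩ := ind x
    exact (pk_mul t 1 e false).trans (by simp [zb])
  inv_mul_cancel x := W.ext (iw_lt _ _ x.lt).2

/-- the element with number `n` -/
def m (n : ℕ) : W η := ⟨Nat.mod n (nat_lit 2048), Nat.mod_lt _ (by norm_num)⟩

theorem m_v (x : W η) : m x.v = x := W.ext (Nat.mod_eq_of_lt x.lt)

instance : Finite (W η) :=
  Finite.of_injective (fun x => (⟨x.v, x.lt⟩ : Fin 2048)) fun _ _ h => W.ext (congrArg Fin.val h)

instance : DecidableEq (W η) := fun x y => decidable_of_iff (x.v = y.v) W.ext_iff.symm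

noncomputable instance (priority := high) decAll (p : W η → Prop) [DecidablePred p] : Decidable (∀ x, p x) :=
  decidable_of_iff (allN (fun k => decide (p (m k))) (nat_lit 2048) = true) (by
    rw [allN_iff]
    exact ⟨fun h x => by simpa [m_v] using h x.v x.lt, fun h k _ => decide_eq_true (h _)⟩)

noncomputable def em : T →* W η := MonoidHom.mk' (fun t => pk t false) fun t u => by rw [pk_mul]; simp [cs, zb]

/-- outside `T` -/
def Ou (x : W η) : Prop := Nat.ble (nat_lit 1024) x.v = true

instance (x : W η) : Decidable (Ou x) := instDecidableEqBool _ _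

theorem ou_em {x : W η} (h : ¬ Ou x) : ∃ t, em t = x :=
  ⟨⟨x.v, by rw [Ou, Nat.ble_eq] at h; exact not_le.1 h⟩, rfl⟩

theorem em_ou (t : T) : ¬ Ou (em t : W η) := by rw [Ou, Nat.ble_eq]; exact not_le.2 t.lt

noncomputable def tb (c v : ℕ) : Bool := Nat.beq (Nat.land (Nat.shiftRight c v) (nat_lit 1)) (nat_lit 1)
noncomputable def bs (l : List ℕ) : ℕ := List.rec (nat_lit 0) (fun k _ ih => Nat.lor (Nat.shiftLeft (nat_lit 1) k) ih) l

theorem tb_bs (l : List ℕ) (v : ℕ) : tb (bs l) v = true ↔ v ∈ l := by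
  have k : ∀ c, tb c v = true ↔ c.testBit v = true := fun c => by
    rw [tb, Nat.beq_eq, Nat.testBit_eq_decide_div_mod_eq, decide_eq_true_iff, ← Nat.shiftRight_eq_div_pow,
      ← Nat.and_one_is_mod]; rfl
  rw [k]
  induction l with
  | nil => simp [bs]
  | cons a l ih =>
    change (1 <<< a ||| bs l).testBit v = true ↔ _
    rw [Nat.testBit_or, Bool.or_eq_true, Nat.one_shiftLeft, Nat.testBit_two_pow, decide_eq_true_iff, List.mem_cons]
    exact or_congr eq_comm ih

noncomputable def chk (η : Bool) (c : ℕ) (l : List ℕ) : Bool := and (and (Nat.beq (bs l) c) (tb c 0))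
  (allL (fun a => and (and (Nat.blt a 2048) (tb c (iw η a))) (allL (fun b => tb c (mw η a b)) l)) l)

/-- a subgroup, given by its bit set and its list of elements -/
structure Sd (η : Bool) where
  c : ℕ
  l : List ℕ
  ok : chk η c l = true

theorem Sd.ok' (d : Sd η) : (∀ v, tb d.c v = true ↔ v ∈ d.l) ∧ tb d.c 0 = true ∧
    ∀ a ∈ d.l, (a < 2048 ∧ tb d.c (iw η a) = true) ∧ ∀ b ∈ d.l, tb d.c (mw η a b) = true := by
  have := d.ok
  simp only [chk, allL_eq, Bool.and_eq_true, List.all_eq_true, Nat.beq_eq, Nat.blt_eq] at this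
  exact ⟨fun v => this.1.1 ▸ tb_bs _ v, this.1.2, this.2⟩

def Sd.s (d : Sd η) : Subgroup (W η) where
  carrier := {x | tb d.c x.v = true}
  one_mem' := d.ok'.2.1
  mul_mem' := fun a b => (d.ok'.2.2 _ ((d.ok'.1 _).1 a)).2 _ ((d.ok'.1 _).1 b)
  inv_mem' := fun a => (d.ok'.2.2 _ ((d.ok'.1 _).1 a)).1.2

theorem Sd.mem (d : Sd η) (x : W η) : x ∈ d.s ↔ x ∈ d.l.map m := by
  rw [List.mem_map]
  exact ⟨fun h => ⟨_, (d.ok'.1 _).1 h, m_v x⟩, fun ⟨n, h, e⟩ => (d.ok'.1 _).2 (by
    rwa [← e, show (m n : W η).v = n from Nat.mod_eq_of_lt (d.ok'.2.2 n h).1.1])⟩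

noncomputable instance (d : Sd η) (x : W η) : Decidable (x ∈ d.s) := instDecidableEqBool _ _
noncomputable instance (priority := high) (d : Sd η) (p : W η → Prop) [DecidablePred p] :
    Decidable (∀ x ∈ d.s, p x) :=
  decidable_of_iff (allL (fun k => decide (p (m k))) d.l = true) (by simp [allL_eq, d.mem])

/-- one of the listed elements -/
def Ex (l : List ℕ) (p : W η → Prop) : Prop := ∃ k ∈ l, p (m k)

noncomputable instance (l : List ℕ) (p : W η → Prop) [DecidablePred p] : Decidable (Ex l p) :=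
  decidable_of_iff (anyL (fun k => decide (p (m k))) l = true) (by simp [anyL_eq, Ex])

theorem Ex.ex {l : List ℕ} {p : W η → Prop} (h : Ex l p) : ∃ x, p x := let ⟨_, _, h⟩ := h; ⟨_, h⟩

theorem gens {P : Subgroup (W η)} (h : ∀ k < 11, m (2 ^ k) ∈ P) (w : W η) : w ∈ P := by
  have k : ∀ η, ∀ y : W η, y = 1 ∨ ∃ k < 11, (y * (m (2 ^ k))⁻¹).v < y.v := by decide +kernel
  induction hn : w.v using Nat.strong_induction_on generalizing w with
  | _ n ih =>
    obtain rfl | ⟨k, hk, h2⟩ := k η w
    exacts [one_mem _, (mul_mem_cancel_right (inv_mem (h k hk))).1 (ih _ (hn ▸ h2) _ rfl)]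

noncomputable def dQ (η : Bool) : Sd η := ⟨0xffffffff000000000000000000000000ffffffff0000000000000000000000000000000000000000000000000000000000000000000000000000000000000000ffffffff000000000000000000000000ffffffff,
  [0, 1, 2, 3, 4, 5, 6, 7, 8, 9, 10, 11, 12, 13, 14, 15, 16, 17, 18, 19, 20, 21, 22, 23, 24, 25, 26, 27, 28, 29, 30, 31,
  128, 129, 130, 131, 132, 133, 134, 135, 136, 137, 138, 139, 140, 141, 142, 143, 144, 145, 146, 147, 148, 149, 150,
  151, 152, 153, 154, 155, 156, 157, 158, 159, 512, 513, 514, 515, 516, 517, 518, 519, 520, 521, 522, 523, 524, 525,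
  526, 527, 528, 529, 530, 531, 532, 533, 534, 535, 536, 537, 538, 539, 540, 541, 542, 543, 640, 641, 642, 643, 644,
  645, 646, 647, 648, 649, 650, 651, 652, 653, 654, 655, 656, 657, 658, 659, 660, 661, 662, 663, 664, 665, 666, 667,
  668, 669, 670, 671],
  by cases η <;> decide +kernel⟩
noncomputable def dR (η : Bool) : Sd η := ⟨0x3000c000c0003000000000000000000000000000000000000000000000000000000000000000000000000000000000000000000000000000000000000000000000c0003000c0003000000000000000000000000000000000000000000000000000000000000000000000000000000000000000000000000000000000000000003000c000c0003000000000000000000000000000000000000000000000000000000000000000000000000000000000000000000000000000000000000000000000c0003000c0003,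
  [0, 1, 18, 19, 32, 33, 50, 51, 520, 521, 538, 539, 554, 555, 568, 569, 1024, 1025, 1042, 1043, 1056, 1057, 1074, 1075,
  1544, 1545, 1562, 1563, 1578, 1579, 1592, 1593],
  by cases η <;> decide +kernel⟩
noncomputable def dRt (η : Bool) : Sd η := ⟨0x3000c000c0003000000000000000000003000c000c0003000000000000000000000000000000000000000000000000000000000000000000000000000000000000c0003000c000300000000000000000000c0003000c0003000000000000000000000000000000000000000000000000000000000000000000000000000000003000c000c0003000000000000000000003000c000c0003000000000000000000000000000000000000000000000000000000000000000000000000000000000000c0003000c000300000000000000000000c0003000c0003,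
  [0, 1, 18, 19, 32, 33, 50, 51, 132, 133, 150, 151, 164, 165, 182, 183, 520, 521, 538, 539, 554, 555, 568, 569, 652,
  653, 670, 671, 686, 687, 700, 701, 1024, 1025, 1042, 1043, 1056, 1057, 1074, 1075, 1156, 1157, 1174, 1175, 1188,
  1189, 1206, 1207, 1544, 1545, 1562, 1563, 1578, 1579, 1592, 1593, 1676, 1677, 1694, 1695, 1710, 1711, 1724, 1725],
  by cases η <;> decide +kernel⟩
noncomputable def dDt (η : Bool) : Sd η := ⟨0xc00030000000000000000000000000000c000300000000000000000000000000000000000000000000000000000000000000000000000000000000000000000000c00030000000000000000000000000000c0003,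
  [0, 1, 18, 19, 132, 133, 150, 151, 520, 521, 538, 539, 652, 653, 670, 671],
  by cases η <;> decide +kernel⟩
noncomputable def dFt (η : Bool) : Sd η := ⟨0xc00030000000000000000000000000000c000300000000000000000000000000000000000000000000000000000000000000000000000000000000000000000000c00030000000000000000000000000000c00030000000000000000000000000000000000000000000000000000000000000000000000000000000000000000c00030000000000000000000000000000c000300000000000000000000000000000000000000000000000000000000000000000000000000000000000000000000c00030000000000000000000000000000c0003,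
  [0, 1, 18, 19, 132, 133, 150, 151, 520, 521, 538, 539, 652, 653, 670, 671, 1024, 1025, 1042, 1043, 1156, 1157, 1174,
  1175, 1544, 1545, 1562, 1563, 1676, 1677, 1694, 1695],
  by cases η <;> decide +kernel⟩
noncomputable def dZf (η : Bool) : Sd η := ⟨0xc000300000000000000000000000000000000000000000000000000000000000000000000000000000000000000000000000000000000000000000000000000000c0003,
  [0, 1, 18, 19, 520, 521, 538, 539],
  by cases η <;> decide +kernel⟩
noncomputable def dZ (η : Bool) : Sd η := ⟨3, [0, 1], by cases η <;> decide +kernel⟩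

noncomputable abbrev Qw (η : Bool) : Subgroup (W η) := (dQ η).s
noncomputable abbrev Rw (η : Bool) : Subgroup (W η) := (dR η).s
noncomputable abbrev Rtw (η : Bool) : Subgroup (W η) := (dRt η).s
noncomputable abbrev Dtw (η : Bool) : Subgroup (W η) := (dDt η).s
noncomputable abbrev Ftw (η : Bool) : Subgroup (W η) := (dFt η).s
noncomputable abbrev Zfw (η : Bool) : Subgroup (W η) := (dZf η).s
noncomputable abbrev Zw (η : Bool) : Subgroup (W η) := (dZ η).s

end H9.KI
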