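import Cfsg.Agent.H9.KI3

/-! Computations in the model. -/

set_option autoImplicit false
set_option linter.unusedSectionVars false
set_option maxRecDepth 100000

namespace H9.KI
open Cfsg H17.GS H6.UT H10.KI
open Subgroup hiding mk
open H19 hiding eq_bot_mono
open scoped commutatorElement
universe u

variable {η : Bool}

/-- moves `Ft` -/
abbrev Mv (k : W η) : Prop := Ex [1024, 520, 132] fun f => f ∈ Ftw η ∧ k * f * k⁻¹ ∉ Ftw η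

theorem Mv.not {k : W η} (h : k ∈ N(Ftw η)) : ¬ Mv k := fun j => let ⟨_, a, b⟩ := j.ex; b (conj_mem_of_norm h a)

theorem d1 : ∀ η, ∀ u ∈ Rw η, u * u = 1 → (Ex [16, 132] fun w => w * u * w⁻¹ = u * m 1) ∨ ∀ v ∈ Rw η, v * v = 1 →
    v * u * (v * u) ∈ Zw η ∨ ∀ x ∈ Rtw η, ⁅x, v⁆ ∈ Zw η → x ∈ Ftw η := by decide +kernel
theorem d2 : ∀ η, ∀ x ∈ Ftw η, (x ∈ Rtw η ∧ ⁅x, m 520⁆ ∈ Zw η) ∧ (x ∈ Dtw η ∨ Ou x) ∧ ⁅(m 2 : W η), x⁆ ∈ Zfw η ∧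
    ((x ∈ Qw η ∧ ⁅x, m 1024⁆ ∈ Zw η) ∨ (x * m 1024 ∈ Qw η ∧ ⁅x * m 1024, m 1024⁆ ∈ Zw η)) ∧
    (x ∈ Zfw η ∨ Ex [132, 1024] fun f => f ∈ Ftw η ∧ x * f ≠ f * x) := by decide +kernel
theorem d3 : ∀ η, ∀ x ∈ Qw η, (⁅x, m 1024⁆ ∈ Zw η → x ∈ Ftw η) ∧ ∀ f ∈ Ftw η, x * f * x⁻¹ ∈ Ftw η := by decide +kernel
theorem d4 : ∀ η, ∀ k : W η, Mv k ∨ (Ex [0, 32, 1024, 1056] fun a => k * a⁻¹ ∈ Qw η ∧ a ∈ Rw η ∧ a * m 32 = m 32 * a ∧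
    (a = 1 ∨ a = m 32 ∨ a = m 1024 ∨ a = m 32 * m 1024)) ∧
    (⁅k, ⁅(m 8 : W η), m 1024⁆⁆ ∈ Zw η → ⁅k, ⁅(m 8 : W η), m 32⁆⁆ ∈ Zw η → k ∈ Qw η) ∧
    (⁅k, m 520⁆ ∈ Zw η → ∀ x ∈ Dtw η, ⁅k, x⁆ ∈ Zw η) := by decide +kernel
theorem d5 : ∀ η, ∀ x ∈ Zfw η, x ∈ Ftw η ∧ x * x ∈ Zw η ∧ ⁅(m 2 : W η), x⁆ ∈ Zw η ∧ ∀ f ∈ Ftw η, x * f = f * x := by
  decide +kernel
theorem d6 : ∀ η, ∀ p ∈ Rw η, p * p * (p * p) = 1 ∧ (∀ q ∈ Rw η, ⁅p, q⁆ = 1 ∨ ⁅p, q⁆ = m 19) ∧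
    (p * m 32 = m 32 * p → p * m 520 = m 520 * p → p * p = 1 → p = 1 ∨ p = m 1 ∨ p = m 18 ∨ p = m 19 ∨ p = m 1024 ∨
      p = m 19 * m 1024 ∨ m 134 * p * (m 134)⁻¹ = p * m 19) := by decide +kernel
theorem d7 : ∀ η, ∀ t : T, ((em t * em t : W η) = 1 ↔ (m 1024 * m 1024 : W η) = 1) →
    (em t * em t * (em t * em t) : W η) = 1 → t ∈ A1 ∨ t ∈ A2 ∨
    (∃ p ∈ [(4, 128), (6, 144), (20, 134), (22, 130), (2, 512), (2, 640), (4, 656), (6, 528), (8, 16), (10, 144),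
      (12, 16), (14, 128), (18, 138), (18, 140), (18, 518), (18, 644), (20, 646), (22, 516), (26, 136), (30, 130),
      (164, 300), (180, 264), (4, 160), (4, 162), (6, 160), (6, 162), (164, 316), (180, 280)],
      (m p.1 * em t : W η) = em t * m p.1 ∧ (m p.2 * em t : W η) = em t * m p.2 ∧ (⁅(m p.1 : W η), m p.2⁆ : W η) = m 1) ∨
    (Ex [1088, 1092, 1216, 1220, 1608, 1612, 1736, 1740] fun p : W η => p * em t = em t * p ∧ p * p * (p * p) ≠ 1) ∨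
    Ex [0, 8, 128, 136, 512, 520, 640, 648, 1024, 1032, 1152, 1160, 1536, 1544, 1664, 1672]
      fun w : W η => w * (em t * em t) * w⁻¹ = m 36 := by decide +kernel
theorem d8 : ∀ η, ((m 1 ∈ Rw η ∧ m 32 ∈ Rw η ∧ m 520 ∈ Rw η) ∧ m 32 ∈ Rtw η ∧ m 520 ∈ Rtw η ∧ m 132 ∈ Rtw η) ∧
    (m 1024 ∈ Ftw η ∧ m 520 ∈ Zfw η ∧ m 2 ∈ Qw η ∧ m 8 ∈ Qw η ∧ m 132 ∈ Qw η ∧ m 1024 * m 1024 ∈ Zw η) ∧
    (⁅(m 2 : W η), m 1024⁆ ∉ Zw η ∧ m 520 * m 32 * (m 520 * m 32) ∉ Zw η ∧ (∀ x ∈ Dtw η, x ∈ Ftw η) ∧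
      (∀ f ∈ Ftw η, m 32 * f * (m 32)⁻¹ ∈ Ftw η)) ∧
    (m 32 * m 32 : W η) = 1 ∧ (m 520 * m 520 : W η) = 1 ∧ (m 32 * m 1 : W η) = m 33 ∧ (⁅(m 32 : W η), m 520⁆ : W η) = m 19 ∧
    (m 132 * (m 1 * m 1024) * (m 132)⁻¹ : W η) = m 1024 ∧ (m 1 * m 19 : W η) = m 18 ∧ (m 1 * m 1 : W η) = 1 ∧
    (m 19 : W η) ≠ 1 ∧ (m 36 : W η) ≠ 1 ∧ (m 1 : W η) ≠ m 1024 ∧ (m 1 : W η) ≠ m 19 * m 1024 := by decide +kernel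

theorem d9 : ∀ η, ∀ x : W η, ¬ Ou (x * m 1024) ↔ Ou x := by decide +kernel

end H9.KI
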