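import Cfsg.Agent.H0.TRX
import Cfsg.Agent.H16.M.U43
import Cfsg.Agent.H15.T.U43
import Cfsg.Agent.H16.L.U43
import Cfsg.Agent.H11.Congr

/-! Generated by tools/h0/tr.py. -/

set_option maxRecDepth 100000
set_option maxHeartbeats 0

namespace H9.Lf0
open H16 H0.TR

noncomputable def F_W : List (List ℕ) := [[nat_lit 1, nat_lit 3, nat_lit 3, nat_lit 4, nat_lit 3, nat_lit 7],
  [nat_lit 5, nat_lit 2, nat_lit 2, nat_lit 1, nat_lit 3, nat_lit 7, nat_lit 5],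
  [nat_lit 3, nat_lit 4, nat_lit 2, nat_lit 7, nat_lit 5, nat_lit 6],
  [nat_lit 3, nat_lit 3, nat_lit 1, nat_lit 3, nat_lit 7, nat_lit 4],
  [nat_lit 0, nat_lit 7, nat_lit 4, nat_lit 6, nat_lit 1],
  [nat_lit 3, nat_lit 1, nat_lit 3, nat_lit 7, nat_lit 0, nat_lit 5, nat_lit 8, nat_lit 3, nat_lit 6, nat_lit 1],
  [nat_lit 2, nat_lit 1, nat_lit 3, nat_lit 3, nat_lit 7, nat_lit 8, nat_lit 7, nat_lit 1],
  [nat_lit 1, nat_lit 3, nat_lit 7],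
  [nat_lit 0, nat_lit 4, nat_lit 7, nat_lit 1, nat_lit 8, nat_lit 6, nat_lit 1, nat_lit 5]]
noncomputable def F_P : ℕ → ℕ → ℕ := wdsP H16.U43.P F_W

theorem F_lt : allL (ltAll 9) F_W = true := by decide +kernel
theorem ab0_k : cjL F_P F_P 9 H16.U43.B 5 [nat_lit 0] [nat_lit 1] = 0 := by decide +kernel
theorem ab1_k : cjL F_P F_P 9 H16.U43.B 5 [nat_lit 1] [nat_lit 2] = 0 := by decide +kernel
theorem ab2_k : cjL F_P F_P 9 H16.U43.B 5 [nat_lit 2] [nat_lit 3] = 0 := by decide +kernel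
theorem ab3_k : cjL F_P F_P 9 H16.U43.B 5 [nat_lit 3] [nat_lit 4] = 0 := by decide +kernel
theorem ab4_k : cjL F_P F_P 9 H16.U43.B 5 [nat_lit 4] [nat_lit 0] = 0 := by decide +kernel
theorem b3_k : fixL F_P 9 H16.U43.B (List.replicate 3 0) = 0 := by decide +kernel
theorem a5_k : fixL F_P 9 H16.U43.B (List.replicate 5 5) = 0 := by decide +kernel
theorem u2_k : fixL F_P 9 H16.U43.B (List.replicate 2 6) = 0 := by decide +kernel
theorem b1_k : 56 < 280 ∧ ltAll 9 (List.replicate 1 0) = 0 ∧ ltAll 9 [] = 0 ∧ apW F_P (List.replicate 1 0) 56 ≠ apW F_P [] 56 := by decide +kernel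
theorem c01_k : eqL F_P 9 H16.U43.B [nat_lit 0, nat_lit 1] [nat_lit 1, nat_lit 0] = 0 := by decide +kernel
theorem c02_k : eqL F_P 9 H16.U43.B [nat_lit 0, nat_lit 2] [nat_lit 2, nat_lit 0] = 0 := by decide +kernel
theorem pr_k : eqL F_P 9 H16.U43.B [nat_lit 0, nat_lit 1, nat_lit 2, nat_lit 3, nat_lit 4] [] = 0 := by decide +kernel
theorem s10_k : cjL F_P F_P 9 H16.U43.B 7 [nat_lit 0] [nat_lit 1] = 0 := by decide +kernel
theorem s11_k : cjL F_P F_P 9 H16.U43.B 7 [nat_lit 1] [nat_lit 0] = 0 := by decide +kernel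
theorem s20_k : cjL F_P F_P 9 H16.U43.B 8 [nat_lit 0] [nat_lit 2] = 0 := by decide +kernel
theorem s21_k : cjL F_P F_P 9 H16.U43.B 8 [nat_lit 2] [nat_lit 0] = 0 := by decide +kernel
theorem u0_k : cjL F_P F_P 9 H16.U43.B 6 [nat_lit 0] [nat_lit 0, nat_lit 0] = 0 := by decide +kernel
theorem uu1_k : cjL F_P F_P 9 H16.U43.B 6 [nat_lit 1] [nat_lit 0, nat_lit 0, nat_lit 2] = 0 := by decide +kernel
theorem uu2_k : cjL F_P F_P 9 H16.U43.B 6 [nat_lit 2] [nat_lit 0, nat_lit 0, nat_lit 1] = 0 := by decide +kernel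
theorem uu3_k : cjL F_P F_P 9 H16.U43.B 6 [nat_lit 3] [nat_lit 0, nat_lit 0, nat_lit 3] = 0 := by decide +kernel
theorem uu4_k : cjL F_P F_P 9 H16.U43.B 6 [nat_lit 4] [nat_lit 0, nat_lit 0, nat_lit 4] = 0 := by decide +kernel

theorem F_act {G Ω : Type*} [Group G] [MulAction G Ω] {g : ℕ → G} {pt : ℕ → Ω}
    (M : Md g pt H16.U43.P 280 9 H16.U43.B 3265920) : Act (wds g F_W) pt F_P 280 9 :=
  M.wact F_lt
theorem ab0 {G Ω : Type*} [Group G] [MulAction G Ω] {g : ℕ → G} {pt : ℕ → Ω}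
    (M : Md g pt H16.U43.P 280 9 H16.U43.B 3265920) : (wds g F_W) 5 * evA (wds g F_W) [0] = evA (wds g F_W) [1] * (wds g F_W) 5 :=
  M.cjw (F_act M) (F_act M) (by decide) ab0_k
theorem ab1 {G Ω : Type*} [Group G] [MulAction G Ω] {g : ℕ → G} {pt : ℕ → Ω}
    (M : Md g pt H16.U43.P 280 9 H16.U43.B 3265920) : (wds g F_W) 5 * evA (wds g F_W) [1] = evA (wds g F_W) [2] * (wds g F_W) 5 :=
  M.cjw (F_act M) (F_act M) (by decide) ab1_k
theorem ab2 {G Ω : Type*} [Group G] [MulAction G Ω] {g : ℕ → G} {pt : ℕ → Ω}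
    (M : Md g pt H16.U43.P 280 9 H16.U43.B 3265920) : (wds g F_W) 5 * evA (wds g F_W) [2] = evA (wds g F_W) [3] * (wds g F_W) 5 :=
  M.cjw (F_act M) (F_act M) (by decide) ab2_k
theorem ab3 {G Ω : Type*} [Group G] [MulAction G Ω] {g : ℕ → G} {pt : ℕ → Ω}
    (M : Md g pt H16.U43.P 280 9 H16.U43.B 3265920) : (wds g F_W) 5 * evA (wds g F_W) [3] = evA (wds g F_W) [4] * (wds g F_W) 5 :=
  M.cjw (F_act M) (F_act M) (by decide) ab3_k
theorem ab4 {G Ω : Type*} [Group G] [MulAction G Ω] {g : ℕ → G} {pt : ℕ → Ω}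
    (M : Md g pt H16.U43.P 280 9 H16.U43.B 3265920) : (wds g F_W) 5 * evA (wds g F_W) [4] = evA (wds g F_W) [0] * (wds g F_W) 5 :=
  M.cjw (F_act M) (F_act M) (by decide) ab4_k
theorem b3 {G Ω : Type*} [Group G] [MulAction G Ω] {g : ℕ → G} {pt : ℕ → Ω}
    (M : Md g pt H16.U43.P 280 9 H16.U43.B 3265920) : (wds g F_W) 0 ^ 3 = 1 :=
  M.pw (F_act M) b3_k
theorem a5 {G Ω : Type*} [Group G] [MulAction G Ω] {g : ℕ → G} {pt : ℕ → Ω}
    (M : Md g pt H16.U43.P 280 9 H16.U43.B 3265920) : (wds g F_W) 5 ^ 5 = 1 :=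
  M.pw (F_act M) a5_k
theorem u2 {G Ω : Type*} [Group G] [MulAction G Ω] {g : ℕ → G} {pt : ℕ → Ω}
    (M : Md g pt H16.U43.P 280 9 H16.U43.B 3265920) : (wds g F_W) 6 ^ 2 = 1 :=
  M.pw (F_act M) u2_k
theorem b1 {G Ω : Type*} [Group G] [MulAction G Ω] {g : ℕ → G} {pt : ℕ → Ω}
    (M : Md g pt H16.U43.P 280 9 H16.U43.B 3265920) : (wds g F_W) 0 ^ 1 ≠ 1 :=
  M.npw (F_act M) _ b1_k
theorem c01 {G Ω : Type*} [Group G] [MulAction G Ω] {g : ℕ → G} {pt : ℕ → Ω}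
    (M : Md g pt H16.U43.P 280 9 H16.U43.B 3265920) : evA (wds g F_W) [0, 1] = evA (wds g F_W) [1, 0] :=
  M.eq_of (F_act M) c01_k
theorem c02 {G Ω : Type*} [Group G] [MulAction G Ω] {g : ℕ → G} {pt : ℕ → Ω}
    (M : Md g pt H16.U43.P 280 9 H16.U43.B 3265920) : evA (wds g F_W) [0, 2] = evA (wds g F_W) [2, 0] :=
  M.eq_of (F_act M) c02_k
theorem pr {G Ω : Type*} [Group G] [MulAction G Ω] {g : ℕ → G} {pt : ℕ → Ω}
    (M : Md g pt H16.U43.P 280 9 H16.U43.B 3265920) : evA (wds g F_W) [0, 1, 2, 3, 4] = evA (wds g F_W) [] :=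
  M.eq_of (F_act M) pr_k
theorem s10 {G Ω : Type*} [Group G] [MulAction G Ω] {g : ℕ → G} {pt : ℕ → Ω}
    (M : Md g pt H16.U43.P 280 9 H16.U43.B 3265920) : (wds g F_W) 7 * evA (wds g F_W) [0] = evA (wds g F_W) [1] * (wds g F_W) 7 :=
  M.cjw (F_act M) (F_act M) (by decide) s10_k
theorem s11 {G Ω : Type*} [Group G] [MulAction G Ω] {g : ℕ → G} {pt : ℕ → Ω}
    (M : Md g pt H16.U43.P 280 9 H16.U43.B 3265920) : (wds g F_W) 7 * evA (wds g F_W) [1] = evA (wds g F_W) [0] * (wds g F_W) 7 :=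
  M.cjw (F_act M) (F_act M) (by decide) s11_k
theorem s20 {G Ω : Type*} [Group G] [MulAction G Ω] {g : ℕ → G} {pt : ℕ → Ω}
    (M : Md g pt H16.U43.P 280 9 H16.U43.B 3265920) : (wds g F_W) 8 * evA (wds g F_W) [0] = evA (wds g F_W) [2] * (wds g F_W) 8 :=
  M.cjw (F_act M) (F_act M) (by decide) s20_k
theorem s21 {G Ω : Type*} [Group G] [MulAction G Ω] {g : ℕ → G} {pt : ℕ → Ω}
    (M : Md g pt H16.U43.P 280 9 H16.U43.B 3265920) : (wds g F_W) 8 * evA (wds g F_W) [2] = evA (wds g F_W) [0] * (wds g F_W) 8 :=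
  M.cjw (F_act M) (F_act M) (by decide) s21_k
theorem u0 {G Ω : Type*} [Group G] [MulAction G Ω] {g : ℕ → G} {pt : ℕ → Ω}
    (M : Md g pt H16.U43.P 280 9 H16.U43.B 3265920) : (wds g F_W) 6 * evA (wds g F_W) [0] = evA (wds g F_W) [0, 0] * (wds g F_W) 6 :=
  M.cjw (F_act M) (F_act M) (by decide) u0_k
theorem uu1 {G Ω : Type*} [Group G] [MulAction G Ω] {g : ℕ → G} {pt : ℕ → Ω}
    (M : Md g pt H16.U43.P 280 9 H16.U43.B 3265920) : (wds g F_W) 6 * evA (wds g F_W) [1] = evA (wds g F_W) [0, 0, 2] * (wds g F_W) 6 :=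
  M.cjw (F_act M) (F_act M) (by decide) uu1_k
theorem uu2 {G Ω : Type*} [Group G] [MulAction G Ω] {g : ℕ → G} {pt : ℕ → Ω}
    (M : Md g pt H16.U43.P 280 9 H16.U43.B 3265920) : (wds g F_W) 6 * evA (wds g F_W) [2] = evA (wds g F_W) [0, 0, 1] * (wds g F_W) 6 :=
  M.cjw (F_act M) (F_act M) (by decide) uu2_k
theorem uu3 {G Ω : Type*} [Group G] [MulAction G Ω] {g : ℕ → G} {pt : ℕ → Ω}
    (M : Md g pt H16.U43.P 280 9 H16.U43.B 3265920) : (wds g F_W) 6 * evA (wds g F_W) [3] = evA (wds g F_W) [0, 0, 3] * (wds g F_W) 6 :=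
  M.cjw (F_act M) (F_act M) (by decide) uu3_k
theorem uu4 {G Ω : Type*} [Group G] [MulAction G Ω] {g : ℕ → G} {pt : ℕ → Ω}
    (M : Md g pt H16.U43.P 280 9 H16.U43.B 3265920) : (wds g F_W) 6 * evA (wds g F_W) [4] = evA (wds g F_W) [0, 0, 4] * (wds g F_W) 6 :=
  M.cjw (F_act M) (F_act M) (by decide) uu4_k

/-- a subgroup `3⁴ : A₆` -/
structure F1 {P : Type*} [Group P] (b : ℕ → P) (a u s t : P) : Prop where
  ab : ∀ i < 5, a * b i = b ((i + 1) % 5) * a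
  b3 : b 0 ^ 3 = 1
  a5 : a ^ 5 = 1
  u2 : u ^ 2 = 1
  b1 : b 0 ≠ 1
  c1 : b 0 * b 1 = b 1 * b 0
  c2 : b 0 * b 2 = b 2 * b 0
  pr : b 4 * b 3 * b 2 * b 1 * b 0 = 1
  s0 : s * b 0 = b 1 * s
  s1 : s * b 1 = b 0 * s
  t0 : t * b 0 = b 2 * t
  t2 : t * b 2 = b 0 * t
  u0 : u * b 0 = b 0 * b 0 * u
  u1 : u * b 1 = b 2 * b 0 * b 0 * u
  u2' : u * b 2 = b 1 * b 0 * b 0 * u
  u3 : u * b 3 = b 3 * b 0 * b 0 * u
  u4 : u * b 4 = b 4 * b 0 * b 0 * u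

theorem exists_f1 (K : Type) [Field K] [Fintype K] (hK : Fintype.card K = 9) :
    IsSimpleGroup (Cfsg.PSU 4 K 3) ∧ Nat.card (Cfsg.PSU 4 K 3) = 3265920 ∧
      ∃ (b : ℕ → Cfsg.PSU 4 K 3) (a u s t : Cfsg.PSU 4 K 3), F1 b a u s t := by
  have e := H16.LU43.equiv.some.trans (H11.psuCongr 4 3
    (H11.nonempty_ringEquiv_of_card (F := H16.F9c) (K := K) (by rw [hK]; rfl)).some)
  obtain ⟨_, g, M, -⟩ := H15.TU43.md e
  have := H16.U43.simple
  refine ⟨e.symm.isSimpleGroup, M.card, wds g F_W, _, _, _, _, fun i hi => ?_, b3 M, a5 M, u2 M,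
    by simpa using b1 M, by simpa [evA] using (c01 M).symm, by simpa [evA] using (c02 M).symm,
    by simpa [evA] using pr M, by simpa [evA] using s10 M, by simpa [evA] using s11 M,
    by simpa [evA] using s20 M, by simpa [evA] using s21 M, by simpa [evA] using u0 M,
    by simpa [evA] using uu1 M, by simpa [evA] using uu2 M, by simpa [evA] using uu3 M,
    by simpa [evA] using uu4 M⟩
  interval_cases i
  exacts [by simpa [evA] using ab0 M, by simpa [evA] using ab1 M, by simpa [evA] using ab2 M,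
    by simpa [evA] using ab3 M, by simpa [evA] using ab4 M]

end H9.Lf0
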