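import Cfsg.Agent.H9.Lf1
import Cfsg.Agent.H0.TRX

/-! # Words in transvections acting on codes -/

set_option autoImplicit false
set_option maxRecDepth 100000

open Subgroup

namespace H9.Fv

open H16 H0.TR

noncomputable def Om : ℕ := nat_lit 0x824024804820000024804820824000004820824024800000000000000000000124804820824000004820824024800000824024804820000000000000000000014820824024800000824024804820000024804820824000000000000000000001000000000000000100000000000000010000000000000001000100010001111e248048208240000048208240248000008240248048200000000000000000000148208240248000008240248048200000248048208240000000000000000000018240248048200000248048208240000048208240248000000000000000000001000000000000000100000000000000010000000000000001000100010001111e482082402480000082402480482000002480482082400000000000000000000182402480482000002480482082400000482082402480000000000000000000012480482082400000482082402480000082402480482000000000000000000001000000000000000100000000000000010000000000000001000100010001111e000000000000000100000000000000010000000000000001000100010001111e000000000000000100000000000000010000000000000001000100010001111e000000000000000100000000000000010000000000000001000100010001111e000100010001111e000100010001111e000100010001111e111e111e111eeee0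
noncomputable def Ob (v : ℕ) : ℕ := Nat.land (Nat.shiftRight Om v) 1

theorem Ob_k : allZ (fun v => Nat.xor (Ob v) (cond (Oc v) 1 0)) 0 4096 = true := by decide +kernel

theorem O_ob {v : ℕ} (hv : v < 4096) : O (dec v) ↔ Ob v = 1 := by
  rw [O_dec, xor_zero (allZ_sound0 Ob_k v hv)]; cases Oc v <;> simp

theorem O_ob0 {v : ℕ} (hv : v < 4096) : ¬ O (dec v) ↔ Ob v = 0 := by
  rw [O_dec, xor_zero (allZ_sound0 Ob_k v hv)]; cases Oc v <;> simp

theorem O.qf {v : V} (h : O v) : qf v = 0 := by
  rw [qf_wt]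
  rcases h with h | h
  · rw [h]; rfl
  · have : ∀ i, nz (v i) = 1 := fun i => if_neg fun e => by
      rw [pr, Finset.prod_eq_zero (Finset.mem_univ i) e] at h; exact zero_ne_one h
    simp only [wt, this]; rfl

theorem O.hm {v : V} (h : O v) : hm v v = 0 := hm_self.2 h.qf

theorem O.ne {v : V} (h : O v) : v ≠ 0 := fun e => by subst e; revert h; decide

theorem O.smul {v : V} (h : O v) {a : F4} (ha : a ≠ 0) : O (a • v) := by
  have : ∀ a b : F4, a ≠ 0 → nz (a * b) = nz b ∧ a ^ 6 = 1 := by decide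
  simpa [O, wt, pr, Finset.prod_mul_distrib, this a _ ha, (this a 0 ha).2] using h

noncomputable def tauc (p v : ℕ) : ℕ := Nat.xor v (smc (hc v p) p)

/-- the letters: `0` is the conjugation, the code of `p` is the transvection `τ p` -/
noncomputable def A (k : ℕ) : Equiv.Perm V := if k = 0 then sg else if Ob k = 0 then 1 else tau (dec k)

noncomputable def Pc (k v : ℕ) : ℕ := force v fun v => ifz k (sgc v) (ifz (Ob k) v (tauc k v))

theorem A_zero : A 0 = sg := if_pos rfl

theorem A_of {k : ℕ} (h : Ob k = 1) : A k = tau (dec k) := by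
  have : k ≠ 0 := fun e => by subst e; revert h; decide +kernel
  rw [A, if_neg this, if_neg (by omega)]

theorem actA : Act A dec Pc 4096 4096 := fun k hk i hi => by
  simp only [Pc, force_eq, ifz_eq, A]
  split_ifs with h1 h2
  · exact ⟨sgc_lt _, (dec_sgc _).symm⟩
  · exact ⟨hi, rfl⟩
  · have : O (dec k) := by_contra fun n => h2 ((O_ob0 hk).1 n)
    exact ⟨xor_lt hi (smc_lt _ _), by
      rw [tauc, dec_xor, dec_smc (hc_lt _ _), ← hm_dec, Equiv.Perm.smul_def, tau_apply this.hm]⟩

/-- the additive isometries -/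
def AP : Subgroup (Equiv.Perm V) where
  carrier := {g | Ad g ∧ ∀ v, qf (g v) = qf v}
  one_mem' := ⟨fun _ _ => rfl, fun _ => rfl⟩
  mul_mem' := fun {a b} ⟨a1, a2⟩ ⟨b1, b2⟩ => ⟨fun u v => by simp [a1 _ _, b1 _ _], fun v => by simp [a2, b2]⟩
  inv_mem' := fun {a} ⟨a1, a2⟩ => ⟨a1.inv, fun v => by rw [← a2]; simp⟩

theorem WT_le : WT ≤ AP := fun _ h => ⟨h.1, h.2.1⟩

theorem A_mem (k : ℕ) : A k ∈ AP := by
  unfold A; split_ifs
  exacts [WT_le sg_mem, one_mem _, ⟨tau_ad _, tau_qf _⟩]

theorem evA_AP (W : List ℕ) : evA A W ∈ AP := evA_mem A fun k _ => A_mem k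

def B12 : List ℕ := [1, 2, 4, 8, 16, 32, 64, 128, 256, 512, 1024, 2048]

theorem ad_ext {f g : V → V} (hf : ∀ u v, f (u + v) = f u + f v) (hg : ∀ u v, g (u + v) = g u + g v)
    (h : ∀ i ∈ B12, f (dec i) = g (dec i)) (v : V) : f v = g v := by
  have f0 : f 0 = 0 := by simpa using hf 0 0
  have g0 : g 0 = 0 := by simpa using hg 0 0
  have k : ∀ m ≤ 12, ∀ n < 2 ^ m, f (dec n) = g (dec n) := fun m => by
    induction m with
    | zero => intro _ n hn; obtain rfl : n = 0 := by omega
              rw [dec_zero, f0, g0]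
    | succ m ih =>
      intro hm n hn
      by_cases c : n < 2 ^ m
      · exact ih (by omega) n c
      · have e : n = Nat.xor (2 ^ m) (n - 2 ^ m) := by
          have := Nat.two_pow_add_eq_or_of_lt (i := m) (b := n - 2 ^ m) (by omega) 1
          rw [mul_one, Nat.add_sub_cancel' (by omega)] at this
          refine this.trans (Nat.eq_of_testBit_eq fun j => ?_)
          change _ = ((2 ^ m) ^^^ (n - 2 ^ m)).testBit j
          rw [Nat.testBit_or, Nat.testBit_xor, Nat.testBit_two_pow]
          by_cases hj : m = j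
          · subst hj; simp [Nat.testBit_lt_two_pow (show n - 2 ^ m < 2 ^ m by omega)]
          · simp [hj]
        have : 2 ^ m ∈ B12 := by
          have : m < 12 := by omega
          interval_cases m <;> decide
        rw [e, dec_xor, hf, hg, h _ this, ih (by omega) _ (by omega)]
  exact all_V (P := fun v => f v = g v) (k 12 le_rfl) v

theorem baseA : IsBase AP dec B12 := fun _ ha h => Equiv.ext (ad_ext ha.1 (fun _ _ => rfl) h)

theorem genA_le {x : ℕ → Equiv.Perm V} (h : ∀ k, x k ∈ AP) (K : ℕ) : IsBase (gen x K) dec B12 :=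
  baseA.mono (gen_le.2 fun k _ => h k)

theorem eqA {U W : List ℕ} (h : eqL Pc 4096 B12 U W = 0 := by decide +kernel) : evA A U = evA A W :=
  eqL_sound actA (by decide) (genA_le A_mem _) h

theorem apA {W : List ℕ} {i j : ℕ}
    (h : (Nat.beq (ltAll 4096 W) 0 && Nat.blt i 4096 && Nat.beq (apW Pc W i) j) = true := by decide +kernel) :
    evA A W (dec i) = dec j := by
  simp only [Bool.and_eq_true, Nat.beq_eq, Nat.blt_eq] at h
  rw [← h.2]; exact (actA.apW (ltAll_zero h.1.1) h.1.2).2

theorem eq_evA {f : V → V} (hf : ∀ u v, f (u + v) = f u + f v) {W : List ℕ} (hW : ltAll 4096 W = 0)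
    (h : ∀ i ∈ B12, f (dec i) = dec (apW Pc W i)) (v : V) : f v = evA A W v :=
  ad_ext hf (evA_AP W).1 (fun i hi => (h i hi).trans
    (actA.apW (ltAll_zero hW) (ltAll_zero (show ltAll 4096 B12 = 0 by decide) i hi)).2.symm) v

theorem actW {Ws : List (List ℕ)} (h : allL (ltAll 4096) Ws = true) (K : ℕ) :
    Act (wds A Ws) dec (wdsP Pc Ws) 4096 K := actA.wds h K

/-! ## Labelled forests and counting -/

noncomputable def forL (P : ℕ → ℕ → ℕ) (F lab : ℕ → ℕ) (K m n : ℕ) (Rt : List ℕ) (i : ℕ) : ℕ :=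
  force (F i) fun e => Bool.rec (motive := fun _ => ℕ)
    (force (Nat.land e m) fun c => force (Nat.div c K) fun u =>
      Nat.add (Nat.add (Nat.xor (P (force (Nat.mod c K) fun k => k) u) i)
      (Nat.sub (Nat.succ u) n)) (Nat.add (Nat.sub (Nat.succ (F u)) e) (Nat.xor (lab u) (lab i))))
    (Nat.xor (nth 0 Rt (lab i)) i) (Nat.ble e m)

theorem forL_sound {G Ω : Type*} [Group G] [MulAction G Ω] {g : ℕ → G} {pt : ℕ → Ω}
    {P : ℕ → ℕ → ℕ} {n K : ℕ} (h : Act g pt P n K) (hK : 0 < K) {F lab : ℕ → ℕ} {m : ℕ} {Rt : List ℕ}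
    (hF : ∀ i < n, forL P F lab K m n Rt i = 0) :
    ∀ i < n, ∃ a ∈ gen g K, a • pt (nth 0 Rt (lab i)) = pt i := by
  suffices ∀ d, ∀ i < n, F i = d → ∃ a ∈ gen g K, a • pt (nth 0 Rt (lab i)) = pt i from
    fun i hi => this _ i hi rfl
  intro d
  induction d using Nat.strong_induction_on with
  | _ d ih =>
    intro i hi hd
    have h1 := hF i hi
    unfold forL at h1
    simp only [force_eq] at h1
    cases hb : Nat.ble (F i) m with
    | true => rw [hb] at h1; exact ⟨1, one_mem _, by rw [xor_zero h1, one_smul]⟩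
    | false =>
      rw [hb] at h1
      obtain ⟨h2, h4⟩ := Nat.add_eq_zero_iff.1 h1
      obtain ⟨h2, h3⟩ := Nat.add_eq_zero_iff.1 h2
      obtain ⟨h4, h5⟩ := Nat.add_eq_zero_iff.1 h4
      have h3' : Nat.land (F i) m / K + 1 - n = 0 := h3
      have h4' : F (Nat.land (F i) m / K) + 1 - F i = 0 := h4
      have hu : Nat.land (F i) m / K < n := by omega
      obtain ⟨a, ha, e⟩ := ih _ (by omega) _ hu rfl
      have hk : Nat.land (F i) m % K < K := Nat.mod_lt _ hK
      refine ⟨g _ * a, mul_mem (mem_gen g hk) ha, ?_⟩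
      rw [mul_smul, ← xor_zero h5]
      exact (congrArg _ e).trans ((h _ hk _ hu).2.trans (congrArg pt (xor_zero h2)))

noncomputable def cn1 (p : ℕ → ℕ) (lo n : ℕ) : ℕ :=
  Nat.rec (motive := fun _ => ℕ) 0 (fun j r => Nat.add r (force (Nat.add lo j) fun i => ifz (p i) 1 0)) n

/-- the number of codes `i` with `p i = 0` -/
noncomputable def cnt (p : ℕ → ℕ) : ℕ :=
  Nat.rec (motive := fun _ => ℕ) 0 (fun j r => Nat.add r (force (Nat.mul 64 j) fun lo => cn1 p lo 64)) 64

theorem cn1_eq (p : ℕ → ℕ) (lo n : ℕ) : ((Finset.range (lo + n)).filter fun i => p i = 0).card =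
    ((Finset.range lo).filter fun i => p i = 0).card + cn1 p lo n := by
  induction n with
  | zero => rfl
  | succ n ih =>
    have : cn1 p lo (n + 1) = cn1 p lo n + if p (lo + n) = 0 then 1 else 0 := by
      simp only [cn1, force_eq, ifz_eq]; rfl
    rw [this, ← add_assoc, ← add_assoc, ← ih, Finset.range_add_one, Finset.filter_insert]
    split
    · rw [Finset.card_insert_of_notMem (by simp)]
    · rfl

theorem cnt_eq (p : ℕ → ℕ) : cnt p = ((Finset.range 4096).filter fun i => p i = 0).card := by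
  have : ∀ m, Nat.rec (motive := fun _ => ℕ) 0 (fun j r => Nat.add r (force (Nat.mul 64 j)
      fun lo => cn1 p lo 64)) m = ((Finset.range (64 * m)).filter fun i => p i = 0).card := fun m => by
    induction m with
    | zero => rfl
    | succ m ih => rw [mul_add, mul_one, cn1_eq, ← ih]; simp only [force_eq]; rfl
  exact this 64

theorem ncard_code {Z : Set V} (p : ℕ → ℕ) (h : ∀ n < 4096, dec n ∈ Z ↔ p n = 0) : Z.ncard = cnt p := by
  rw [cnt_eq, ← Set.ncard_coe_finset, ← Set.InjOn.ncard_image (f := dec)]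
  · congr 1; ext v; obtain ⟨n, hn, rfl⟩ := dec_surj v
    simp only [Set.mem_image, Finset.coe_filter, Finset.mem_range, Set.mem_setOf_eq, h n hn]
    exact ⟨fun k => ⟨n, ⟨hn, k⟩, rfl⟩, fun ⟨m, ⟨a, b⟩, e⟩ => dec_inj _ a _ hn e ▸ b⟩
  · intro a ha b hb e
    simp only [Finset.coe_filter, Finset.mem_range, Set.mem_setOf_eq] at ha hb
    exact dec_inj _ ha.1 _ hb.1 e

theorem ncard_le_code {Z : Set V} (p : ℕ → ℕ) (h : ∀ n < 4096, dec n ∈ Z → p n = 0) : Z.ncard ≤ cnt p := by
  rw [← ncard_code (Z := {v | ∃ n < 4096, dec n = v ∧ p n = 0}) p fun n hn =>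
    ⟨fun ⟨m, a, e, b⟩ => dec_inj _ a _ hn e ▸ b, fun k => ⟨n, hn, rfl, k⟩⟩]
  refine Set.ncard_le_ncard (fun v hv => ?_) (Set.toFinite _)
  obtain ⟨n, hn, rfl⟩ := dec_surj v
  exact ⟨n, hn, rfl, h n hn hv⟩

theorem card_stab (Γ : Subgroup (Equiv.Perm V)) (v : V) : Nat.card (MulAction.stabilizer Γ v) =
    Nat.card ↥(Γ ⊓ MulAction.stabilizer (Equiv.Perm V) v) := by
  have : MulAction.stabilizer Γ v = (Γ ⊓ MulAction.stabilizer (Equiv.Perm V) v).subgroupOf Γ := by
    rw [inf_subgroupOf_left]; rfl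
  rw [this]
  exact Nat.card_congr (subgroupOfEquivOfLe inf_le_left).toEquiv

theorem card_le_orbit {Γ : Subgroup (Equiv.Perm V)} {v : V} {Z : Set V} (h : ∀ g ∈ Γ, g v ∈ Z) :
    Nat.card Γ ≤ Z.ncard * Nat.card ↥(Γ ⊓ MulAction.stabilizer (Equiv.Perm V) v) := by
  have e := (MulAction.stabilizer Γ v).card_mul_index
  rw [MulAction.index_stabilizer] at e
  have e2 := card_stab Γ v
  rw [← e, ← e2, mul_comm]
  exact Nat.mul_le_mul_right _ (Set.ncard_le_ncard (fun _ ⟨g, e⟩ => e ▸ h g g.2) (Set.toFinite _))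

theorem card_orbit {Γ : Subgroup (Equiv.Perm V)} {v : V} {Z : Set V} (h : ∀ u, u ∈ Z ↔ ∃ g ∈ Γ, g v = u) :
    Nat.card Γ = Z.ncard * Nat.card ↥(Γ ⊓ MulAction.stabilizer (Equiv.Perm V) v) := by
  have e := (MulAction.stabilizer Γ v).card_mul_index
  rw [MulAction.index_stabilizer] at e
  have e2 := card_stab Γ v
  have e3 : MulAction.orbit Γ v = Z := Set.ext fun u => by
    rw [h]; exact ⟨fun ⟨g, e⟩ => ⟨g, g.2, e⟩, fun ⟨g, hg, e⟩ => ⟨⟨g, hg⟩, e⟩⟩
  rw [← e, ← e2, mul_comm, e3]

end H9.Fv
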