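/-
S2198, chunks [OL], [JL]: lifting relations to a triple cover.
-/
import Cfsg.Agent.H1.PA0

set_option autoImplicit false
set_option linter.unusedSectionVars false

namespace H9.PA
open Cfsg H15 H19 H0 Subgroup Function H1.PA
open scoped commutatorElement

section
variable {Γ S : Type} [Group Γ] [Finite Γ] [Group S] {φ : Γ →* S} (h : C3 φ)
include h

theorem k3 {k : Γ} (e : φ k = 1) : k ^ 3 = 1 :=
  orderOf_dvd_iff_pow_eq_one.1 ((orderOf_dvd_card' (H := φ.ker) e).trans h.2.2)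

theorem ex_c : ∃ c : Γ, c ^ 3 = 1 ∧ (∀ x, c * x = x * c) ∧ ∀ a b, φ a = φ b → ∃ k : ℕ, a = b * c ^ k := by
  have : IsCyclic φ.ker := ((Nat.dvd_prime Nat.prime_three).1 h.2.2).elim
    (fun e => by rw [card_eq_one.1 e]; infer_instance) fun e => cyclic_of_prime (e ▸ Nat.prime_three)
  obtain ⟨c, hc⟩ := IsCyclic.exists_monoid_generator (α := φ.ker)
  refine ⟨c, k3 h c.2, fun x => (mem_center_iff.1 (h.2.1 c.2) x).symm, fun a b e => ?_⟩
  obtain ⟨k, hk⟩ := hc ⟨b⁻¹ * a, by simp [e]⟩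
  exact ⟨k, by rw [show c.1 ^ k = b⁻¹ * a from congrArg Subtype.val hk, mul_inv_cancel_left]⟩

theorem ex_lift {s : S} {n : ℕ} (e : s ^ n = 1) (c : n * n % 3 = 1) : ∃ x, φ x = s ∧ x ^ n = 1 := by
  obtain ⟨y, rfl⟩ := h.1 s
  have k : φ (y ^ n) = 1 := by rw [map_pow, e]
  refine ⟨y * (y ^ n) ^ (2 * n), by rw [map_mul, map_pow, k, one_pow, mul_one], ?_⟩
  rw [((Commute.refl y).pow_right _ |>.pow_right _).mul_pow, ← pow_mul (y ^ n), ← pow_succ', show 2 * n * n + 1 =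
    3 * (2 * (n * n / 3) + 1) by rw [mul_assoc]; omega, pow_mul, k3 h k, one_pow]

theorem uq {x y : Γ} (a : PiE {3}ᶜ x) (b : PiE {3}ᶜ y) (e : φ x = φ y) : x = y := by
  have k : φ (x * y⁻¹) = 1 := by simp [e]
  have c := mem_center_iff.1 (h.2.1 k) y
  refine mul_inv_eq_one.1 (PiN.e_eq_one (π := {3}) ((PiN.prime_pow Nat.prime_three 1).dvd (orderOf_dvd_of_pow_eq_one (k3 h k)))
    (a.e_mul b.e_inv ?_))
  rw [inv_mul_cancel_right, ← mul_assoc, mul_inv_eq_iff_eq_mul] at c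
  rw [eq_inv_mul_iff_mul_eq, ← mul_assoc, c, mul_inv_cancel_right]

theorem cq {x y : Γ} (g : Γ) (a : PiE {3}ᶜ x) (b : PiE {3}ᶜ y) (e : φ g * φ x * (φ g)⁻¹ = φ y) : g * x * g⁻¹ = y :=
  uq h (a.e_conj g) b (by simpa using e)

theorem cm {x : Γ} (g : Γ) (a : PiE {3}ᶜ x) (e : φ g * φ x = φ x * φ g) : g * x = x * g :=
  mul_inv_eq_iff_eq_mul.1 (cq h g a a (mul_inv_eq_iff_eq_mul.2 e))

theorem six {z : Γ} (e : ∃ g, 6 < orderOf (φ z * (g * φ z * g⁻¹))) : ∃ g, 6 < orderOf (z * (g * z * g⁻¹)) := by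
  obtain ⟨g, e⟩ := e
  obtain ⟨g, rfl⟩ := h.1 g
  exact ⟨g, e.trans_le (Nat.le_of_dvd (orderOf_pos _) (by simpa using orderOf_map_dvd φ (z * (g * z * g⁻¹))))⟩
end

theorem pe {Γ : Type} [Group Γ] {x : Γ} {p : ℕ} (hp : p.Prime) (e : x ^ p = 1) : PiE {p} x :=
  (PiN.prime_pow hp 1).dvd (orderOf_dvd_of_pow_eq_one (by rwa [pow_one]))

theorem ol : OL := fun Γ _ _ S _ φ h z w x n m p q o => by
  obtain ⟨c, c3, cc, cd⟩ := ex_c h
  obtain ⟨z, rfl, z2⟩ := ex_lift h ((pow_two z).trans o.zz) rfl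
  obtain ⟨g, g1⟩ := isConj_iff.1 o.c1
  obtain ⟨g', g2⟩ := isConj_iff.1 o.c2
  obtain ⟨g, rfl⟩ := h.1 g
  obtain ⟨g', rfl⟩ := h.1 g'
  obtain rfl : φ (g * z * g⁻¹) = w := by simpa using g1
  obtain ⟨x, rfl, x7⟩ := ex_lift h (o.ox ▸ pow_orderOf_eq_one x) rfl
  obtain ⟨n, rfl⟩ := h.1 n
  obtain ⟨m, rfl⟩ := h.1 m
  obtain ⟨p, rfl⟩ := h.1 p
  obtain ⟨q, rfl⟩ := h.1 q
  have uz : PiE {3}ᶜ z := (pe Nat.prime_two z2).sing_ne (by decide)
  have ux : PiE {3}ᶜ x := (pe (by norm_num) x7).sing_ne (by decide)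
  have wz := cm h _ uz o.wz
  refine ⟨c, z, g * z * g⁻¹, x, n, m, p, q, (pow_two z).symm.trans z2, six h o.six, wz, isConj_iff.2 ⟨g, rfl⟩,
    isConj_iff.2 ⟨g', cq h g' uz ((uz.e_conj g).e_mul uz wz) (by rw [g2, map_mul φ _ z])⟩,
    haveI := Fact.mk (by norm_num : Nat.Prime 7); orderOf_eq_prime x7 fun e => by simpa [e] using o.ox,
    cm h _ uz o.xz, cm h _ ux o.px, cm h _ ux o.qx, cd _ _ (by simpa using o.pq), c3, cc _, cc _, cc _, cc _, cc _,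
    cm h _ uz o.nz, cm h _ uz o.mz, by simpa using cd (n ^ 3) 1 (by simpa using o.n3),
    by simpa using cd (m ^ 3) 1 (by simpa using o.m3), ?_, cq h n ux (ux.e_pow 2) (by simpa using o.nx), fun i hi j hj k => ?_⟩
  · obtain ⟨k, e⟩ := cd (n * m) (m * n) (by simpa using o.nm)
    exact ⟨k, e.trans (Commute.pow_left (cc _) k).eq.symm⟩
  obtain ⟨u, _, u1, -, u2⟩ := o.cj i hi j hj k
  obtain ⟨u, rfl⟩ := h.1 u
  obtain ⟨k, e⟩ := cd (u * (n ^ i * m ^ j) * u⁻¹) n (by simpa using u2)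
  exact ⟨u, k, cm h _ uz u1, (cc u).symm, e⟩

theorem jl : JL := fun Γ _ _ S _ φ h z s a f y e ρ o y3 => by
  obtain ⟨z, rfl, z2⟩ := ex_lift h ((pow_two z).trans o.zz) rfl
  choose s' s1 s2 using fun i => ex_lift h ((pow_two (s i)).trans (o.ss i)) rfl
  choose a' a1 a2 using fun i => ex_lift h ((pow_two (a i)).trans (o.a2 i)) rfl
  obtain rfl : (fun i => φ (s' i)) = s := funext s1
  obtain rfl : (fun i => φ (a' i)) = a := funext a1
  obtain ⟨u, u1, u5⟩ := ex_lift h o.fy rfl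
  obtain ⟨f, rfl, f5⟩ := ex_lift h o.f5 rfl
  obtain rfl : φ (f⁻¹ * u) = y := by simp [u1]
  obtain ⟨e, rfl⟩ := h.1 e
  obtain ⟨ρ, rfl⟩ := h.1 ρ
  generalize hy : f⁻¹ * u = y at *
  set T := closure (Set.range (fun i => φ (s' i)) ∪ Set.range fun i => φ (a' i))
  obtain ⟨P, hP⟩ := exists_syl 2 (T.comap φ)
  have := Finite.of_surjective φ h.1
  have inP : ∀ {x}, PiE {2} x → φ x ∈ T → x ∈ P := fun b c => hP.mem_of_normal ((hP.sup_eq (ker_le_comap φ T) (by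
    rw [relIndex_ker, map_comap_eq_self_of_surjective h.1]; exact PiN.of_isPGroup Nat.prime_two o.pg)).ge.trans
      (sup_le (h.2.1.trans ((center_le_centralizer _).trans (cent_le_norm P))) le_normalizer)) c b
  have sT : ∀ i, φ (s' i) ∈ T := fun i => subset_closure (.inl ⟨i, rfl⟩)
  have aT : ∀ i, φ (a' i) ∈ T := fun i => subset_closure (.inr ⟨i, rfl⟩)
  have zT : φ z ∈ T := (mul_mem_cancel_right (mul_mem (sT 1) (sT 0))).1 (o.an 0 1 (by decide) ▸ mul_mem (sT 0) (sT 1))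
  have sP := fun i => inP (pe Nat.prime_two (s2 i)) (sT i)
  have aP := fun i => inP (pe Nat.prime_two (a2 i)) (aT i)
  have zP := inP (pe Nat.prime_two z2) zT
  have U : ∀ {x}, x ∈ P → PiE {3}ᶜ x := fun k => (hP.pi.elt k).sing_ne (by decide)
  have cl : ∀ {x}, x ∈ P → φ x ∈ closure {φ z, φ (s' 0)} → x ∈ closure {z, s' 0} := fun {x} k b => by
    rw [← Set.image_pair, ← MonoidHom.map_closure] at b
    obtain ⟨v, b, c⟩ := b
    exact uq h (U ((closure_le P).2 (Set.pair_subset zP (sP 0)) b)) (U k) c ▸ b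
  have cT : closure {φ z, φ (s' 0)} ≤ T := (closure_le T).2 (Set.pair_subset zT (sT 0))
  have ac : ∀ {g π}, Ac (φ z) (fun i => φ (s' i)) (φ g) π → Ac z s' g π := fun {g π} b =>
    ⟨cm h g (U zP) b.1, fun i => (b.2 i).imp (cq h g (U (sP i)) (U (sP _))) fun c =>
      cq h g (U (sP i)) (U (mul_mem (sP _) zP)) (c.trans (map_mul ..).symm)⟩
  have yy : ∀ i j, φ y * φ (a' j) * (φ y)⁻¹ * (φ (a' i) * φ (a' j))⁻¹ ∈ closure {φ z, φ (s' 0)} →
      y * a' j * y⁻¹ * (a' i * a' j)⁻¹ ∈ closure {z, s' 0} := fun i j b =>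
    cl (mul_mem (inP ((pe Nat.prime_two (a2 j)).e_conj y) (by
      simpa using (mul_mem_cancel_right (inv_mem (mul_mem (aT i) (aT j)))).1 (cT b))) (inv_mem (mul_mem (aP i) (aP j)))) (by simpa using b)
  have ne : ∀ {x}, φ x ≠ 1 → x ≠ 1 := fun b c => b (c ▸ map_one φ)
  have sP' : closure (Set.range s') ≤ P := (closure_le P).2 (Set.range_subset_iff.2 sP)
  refine ⟨z, s', a', f, y, e, ρ, (pow_two z).symm.trans z2, six h o.six, fun i => (pow_two _).symm.trans (s2 i),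
    fun i => cm h _ (U zP) (o.sz i), fun i j k => uq h (U (mul_mem (sP i) (sP j))) (U (mul_mem zP (mul_mem (sP j) (sP i))))
      (by simpa using o.an i j k), uq h (U (mul_mem (mul_mem (mul_mem (mul_mem (sP 0) (sP 1)) (sP 2)) (sP 3)) (sP 4))) PiN.e_one
      (by simpa using o.pr), ac o.af, ac o.ay, ac o.ae, ac o.aa, f5, by rwa [← hy, mul_inv_cancel_left],
    (pow_mul y 3 3).trans (k3 h (by rw [map_pow, y3])), cm h _ (U (sP 0)) o.ys, cq h ρ (U zP) (U (sP 0)) o.ρ1,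
    cq h ρ (U (sP 0)) (U (mul_mem (sP 0) zP)) (o.ρ2.trans (map_mul ..).symm), fun i => (pow_two _).symm.trans (a2 i),
    fun i => cm h _ (U zP) (o.az i), fun i => cm h _ (U (sP 0)) (o.as i),
    fun k l => cl (der_le P (commutator_mem_commutator (aP k) (aP l))) (by simpa using o.ac k l),
    cq h y (U (aP 0)) (U (aP 1)) o.y0, yy _ _ o.y1, cq h y (U (aP 2)) (U (aP 3)) o.y2, yy _ _ o.y3,
    fun i hi j hj k hk l hl b => ?_, ?_, ne (by simpa using o.w1), ne (by simpa using o.w2),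
    (hP.pi.of_le ((closure_le P).2 (Set.union_subset (Set.range_subset_iff.2 sP) (Set.range_subset_iff.2 aP)))).isPGroup⟩
  · have w : wd (fun i => φ (a' i)) i j k l = φ (wd a' i j k l) := by simp [H1.PA.wd]
    have wP : wd a' i j k l ∈ P := mul_mem (mul_mem (mul_mem (pow_mem (aP 0) _) (pow_mem (aP 1) _)) (pow_mem (aP 2) _)) (pow_mem (aP 3) _)
    exact (w ▸ o.nz i hi j hj k hk l hl b).imp (fun c => ne (by simpa using c)) fun c => ⟨ne (by simpa using c.1),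
      cl (pow_mem (mul_mem wP (mul_mem (mul_mem (sP 1) wP) (inv_mem (sP 1)))) 2) (by simpa using c.2)⟩
  obtain ⟨r, r1, r', r2, r3, r4⟩ := o.dec
  rw [show Set.range (fun i => φ (s' i)) = φ '' Set.range s' from Set.range_comp _ _, ← MonoidHom.map_closure] at r1 r2
  obtain ⟨r, r1, rfl⟩ := r1
  obtain ⟨r', r2, rfl⟩ := r2
  exact ⟨r, r1, r', r2, cm h r (U (sP 0)) r3, inv_mul_eq_iff_eq_mul.1 (cq h ρ (U (sP' r2)) (U (mul_mem (inv_mem (sP' r1)) (aP 0)))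
    (by rw [map_mul, map_inv, eq_inv_mul_iff_mul_eq]; exact r4.symm)).symm⟩

end H9.PA
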