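/-
Pairs of Golay code words that belong to a trio.
-/
import Cfsg.Agent.H1.PA0

set_option autoImplicit false

namespace H9.PA
open Cfsg H15 H19 H0 H0.Mo H0.Y H15.ML H15.MX Subgroup Function H1.PA
open scoped symmDiff Pointwise

section
variable {A B C D : Finset GolayPt} {σ : Equiv.Perm GolayPt}

theorem Tr_iff : Tr A ↔ A.card = 0 ∨ A.card = 24 := by
  unfold Tr; rw [Finset.card_eq_zero, ← Finset.card_eq_iff_eq_univ]; rfl

theorem Tr_compl : Tr Aᶜ ↔ Tr A := by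
  unfold Tr; rw [Finset.compl_eq_empty_iff, Finset.compl_eq_univ_iff, or_comm]

theorem sd_cl (A B : Finset GolayPt) : Aᶜ ∆ B = (A ∆ B)ᶜ := by
  ext; simp only [Finset.mem_symmDiff, Finset.mem_compl]; tauto

theorem sd_cr (A B : Finset GolayPt) : A ∆ Bᶜ = (A ∆ B)ᶜ := by
  ext; simp only [Finset.mem_symmDiff, Finset.mem_compl]; tauto

theorem Tri_symm (h : Tri A B) : Tri B A :=
  ⟨h.2.1, h.1, Finset.inter_comm A B ▸ h.2.2.1, h.2.2.2.2.1, h.2.2.2.1, symmDiff_comm A B ▸ h.2.2.2.2.2⟩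

theorem Tri_compl (h : Tri A B) : Tri Aᶜ B := by
  refine ⟨cw_compl h.1, h.2.1, ?_, mt Tr_compl.1 h.2.2.2.1, h.2.2.2.2.1, sd_cl A B ▸ mt Tr_compl.1 h.2.2.2.2.2⟩
  have : Aᶜ ∩ B = B ∆ (A ∩ B) := by
    ext; simp only [Finset.mem_symmDiff, Finset.mem_compl, Finset.mem_inter]; tauto
  exact this ▸ cw_symmDiff h.2.1 h.2.2.1

theorem Tri_add (h : Tri A B) : Tri (A ∆ B) B := by
  refine ⟨cw_symmDiff h.1 h.2.1, h.2.1, ?_, h.2.2.2.2.2, h.2.2.2.2.1, by rw [symmDiff_symmDiff_cancel_right]; exact h.2.2.2.1⟩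
  have : A ∆ B ∩ B = B ∆ (A ∩ B) := by
    ext; simp only [Finset.mem_symmDiff, Finset.mem_inter]; tauto
  exact this ▸ cw_symmDiff h.2.1 h.2.2.1

theorem gc1 : GC1 := fun C D h => by
  have h1 := cw_card h.1
  have h2 := cw_card h.2.1
  have h3 := cw_card h.2.2.1
  have h4 := cw_card (cw_symmDiff h.1 h.2.1)
  have h5 := cw_card (cw_symmDiff h.1 h.2.2.1)
  have e4 := card_symmDiff_add C D
  have e5 := card_symmDiff_add C (C ∩ D)
  rw [← Finset.inter_assoc, Finset.inter_self] at e5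
  have n1 := mt Tr_iff.2 h.2.2.2.1
  have n2 := mt Tr_iff.2 h.2.2.2.2.1
  have n3 := mt Tr_iff.2 h.2.2.2.2.2
  omega

theorem smul_sd (σ : Equiv.Perm GolayPt) (A B : Finset GolayPt) : σ • (A ∆ B) = (σ • A) ∆ (σ • B) := by
  ext; simp only [← Finset.inv_smul_mem_iff, Finset.mem_symmDiff]

theorem smul_cp (σ : Equiv.Perm GolayPt) (A : Finset GolayPt) : σ • Aᶜ = (σ • A)ᶜ := by
  ext; simp only [← Finset.inv_smul_mem_iff, Finset.mem_compl]

theorem smul_it (σ : Equiv.Perm GolayPt) (A B : Finset GolayPt) : σ • (A ∩ B) = (σ • A) ∩ (σ • B) := by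
  ext; simp only [← Finset.inv_smul_mem_iff, Finset.mem_inter]

theorem cyc3 (h8 : A.card = 8) (h : (A ∩ σ • A).card = 0) (h3 : Tr (A ∆ (σ • σ • σ • A))) :
    Tr ((A ∆ (σ • A)) ∆ (σ • σ • A)) := by
  have e : A = σ • σ • σ • A := by
    have := card_symmDiff_add A (σ • σ • σ • A)
    simp only [Finset.card_smul_finset] at this
    rw [← symmDiff_eq_bot]
    exact Finset.card_eq_zero.1 (by have := Tr_iff.1 h3; omega)
  have h1 : σ • A ∩ σ • σ • A = ∅ := by rw [← smul_it, Finset.card_eq_zero.1 h, Finset.smul_finset_empty]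
  have h2 : σ • σ • A ∩ A = ∅ := by
    conv_lhs => rw [e, ← e]
    nth_rewrite 2 [e]
    rw [← smul_it, h1, Finset.smul_finset_empty]
  have e1 := card_symmDiff_add A (σ • A)
  have e2 := card_symmDiff_add (A ∆ (σ • A)) (σ • σ • A)
  have : A ∆ (σ • A) ∩ σ • σ • A = ∅ := Finset.eq_empty_of_forall_notMem fun x hx => by
    have k1 := Finset.notMem_empty x
    have k2 := Finset.notMem_empty x
    rw [← h1] at k1; rw [← h2] at k2
    simp only [Finset.mem_symmDiff, Finset.mem_inter] at hx k1 k2; tauto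
  rw [this] at e2
  simp only [Finset.card_smul_finset, Finset.card_empty] at e1 e2
  exact Tr_iff.2 (.inr (by omega))

theorem part3 (h : A ∩ B = ∅) (E : Finset GolayPt) :
    (A ∩ E).card + (B ∩ E).card + ((A ∆ B)ᶜ ∩ E).card = E.card := by
  have k : ∀ x, ¬ (x ∈ A ∧ x ∈ B) := fun x hx => Finset.notMem_empty x (h ▸ Finset.mem_inter.2 hx)
  rw [← Finset.card_union_of_disjoint, ← Finset.card_union_of_disjoint]
  · congr 1; ext x; have := k x
    simp only [Finset.mem_symmDiff, Finset.mem_inter, Finset.mem_compl, Finset.mem_union]; tauto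
  all_goals
    refine Finset.disjoint_left.2 fun x => ?_
    have := k x
    simp only [Finset.mem_symmDiff, Finset.mem_inter, Finset.mem_compl, Finset.mem_union]; tauto

/-- the statement for one pair -/
def Φ3 (σ : Equiv.Perm GolayPt) (C D : Finset GolayPt) : Prop := Tri C D → Tri (C ∆ (σ • C)) (D ∆ (σ • D)) →
  (C ∩ σ • D) ∆ (σ • C ∩ D) ∈ cw → Tr (C ∆ (σ • σ • σ • C)) → Tr (D ∆ (σ • σ • σ • D)) →
  Tr ((C ∆ (σ • C)) ∆ (σ • σ • C)) ∨ Tr ((D ∆ (σ • D)) ∆ (σ • σ • D)) ∨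
    Tr (((C ∆ (σ • C)) ∆ (σ • σ • C)) ∆ ((D ∆ (σ • D)) ∆ (σ • σ • D)))

theorem Φ3.symm (h : Φ3 σ D C) : Φ3 σ C D := fun h1 h2 h3 h4 h5 => by
  rw [symmDiff_comm, Finset.inter_comm, Finset.inter_comm C] at h3
  rcases h (Tri_symm h1) (Tri_symm h2) h3 h5 h4 with k | k | k
  exacts [.inr (.inl k), .inl k, .inr (.inr (symmDiff_comm (α := Finset GolayPt) _ _ ▸ k))]

theorem Φ3.compl (h : Φ3 σ Cᶜ D) : Φ3 σ C D := fun h1 h2 h3 h4 h5 => by
  have := h (Tri_compl h1) (by rwa [smul_cp, sd_cl, sd_cr, compl_compl]) ?_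
    (by simp only [smul_cp, sd_cl, sd_cr, compl_compl]; exact h4) h5
  · simpa only [smul_cp, sd_cl, sd_cr, compl_compl, Tr_compl] using this
  · have e : (Cᶜ ∩ σ • D) ∆ (σ • Cᶜ ∩ D) = ((C ∩ σ • D) ∆ (σ • C ∩ D)) ∆ (D ∆ (σ • D)) := by
      rw [smul_cp]; ext; simp only [Finset.mem_symmDiff, Finset.mem_inter, Finset.mem_compl]; tauto
    exact e ▸ cw_symmDiff h3 h2.2.1

theorem Φ3.core (hC : C.card = 8) (hD : D.card = 8) : Φ3 σ C D := fun h1 h2 h3 h4 h5 => by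
  have e0 := card_symmDiff_add C D
  have i0 : C ∩ D = ∅ := Finset.card_eq_zero.1 (by
    have := cw_card h1.2.2.1; have := gc1 _ _ (Tri_add h1); omega)
  have i1 : σ • C ∩ σ • D = ∅ := by rw [← smul_it, i0, Finset.smul_finset_empty]
  rw [i0, Finset.card_empty] at e0
  have hZ : (C ∆ D)ᶜ.card = 8 := by rw [Finset.card_compl, card_pt]; omega
  have g1 := gc1 _ _ h2
  have g2 := gc1 _ _ (Tri_symm h2)
  have g3 := gc1 _ _ (Tri_add h2)
  have eZ : (C ∆ (σ • C)) ∆ (D ∆ (σ • D)) = (C ∆ D)ᶜ ∆ (σ • (C ∆ D)ᶜ) := by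
    rw [smul_cp, sd_cl, sd_cr, compl_compl, smul_sd, symmDiff_symmDiff_symmDiff_comm]
  rw [eZ] at g3
  have e1 := card_symmDiff_add C (σ • C)
  have e2 := card_symmDiff_add D (σ • D)
  have e3 := card_symmDiff_add (C ∆ D)ᶜ (σ • (C ∆ D)ᶜ)
  have c1 := part3 i0 (σ • C)
  have c2 := part3 i0 (σ • D)
  have c3 := part3 i0 (σ • (C ∆ D)ᶜ)
  have r1 := part3 i1 C
  have r2 := part3 i1 D
  rw [← smul_sd, ← smul_cp, Finset.inter_comm _ C, Finset.inter_comm _ C, Finset.inter_comm _ C] at r1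
  rw [← smul_sd, ← smul_cp, Finset.inter_comm _ D, Finset.inter_comm _ D, Finset.inter_comm _ D] at r2
  have e4 := card_symmDiff_add (C ∩ σ • D) (σ • C ∩ D)
  have i2 : C ∩ σ • D ∩ (σ • C ∩ D) = ∅ := Finset.eq_empty_of_forall_notMem fun x hx => by
    have k1 := Finset.notMem_empty x
    rw [← i0] at k1
    simp only [Finset.mem_inter] at hx k1; tauto
  rw [i2, Finset.inter_comm (σ • C) D, Finset.card_empty] at e4
  have g4 := cw_card h3
  rw [Finset.inter_comm (σ • C) D] at g4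
  simp only [Finset.card_smul_finset] at e1 e2 e3 c1 c2 c3
  obtain k | k | k : (C ∩ σ • C).card = 0 ∨ (D ∩ σ • D).card = 0 ∨ ((C ∆ D)ᶜ ∩ σ • (C ∆ D)ᶜ).card = 0 := by omega
  · exact .inl (cyc3 hC k h4)
  · exact .inr (.inl (cyc3 hD k h5))
  · refine .inr (.inr ?_)
    have := cyc3 hZ k ?_
    · simp only [smul_cp, sd_cl, sd_cr, compl_compl, Tr_compl, smul_sd] at this
      rwa [symmDiff_symmDiff_symmDiff_comm, symmDiff_symmDiff_symmDiff_comm C]
    · simp only [smul_cp, sd_cl, sd_cr, compl_compl, smul_sd]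
      rw [symmDiff_symmDiff_symmDiff_comm]
      rcases h4 with e | e <;> rcases h5 with e' | e' <;> rw [e, e'] <;> simp [Tr]

theorem gc3 : GC3 := fun σ _ C D h => by
  have c : ∀ {A : Finset GolayPt}, A.card = 16 → Aᶜ.card = 8 := fun e => by rw [Finset.card_compl, card_pt, e]
  have : Φ3 σ C D := by
    rcases gc1 _ _ h with e | e <;> rcases gc1 _ _ (Tri_symm h) with e' | e'
    exacts [.core e e', (Φ3.core (c e') e).compl.symm, (Φ3.core (c e) e').compl,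
      (Φ3.core (c e') (c e)).compl.symm.compl]
  exact this h

end

end H9.PA
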