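/-
Elementary abelian 2-subgroups of the stabilizer of a dodecad.
-/
import Cfsg.Agent.H1.PA0

set_option autoImplicit false

namespace H9.PA
open Cfsg H15 H19 H0 H0.Mo H0.Y H15.ML H15.MX Subgroup Function H1.PA
open scoped symmDiff Pointwise

set_option synthInstance.maxSize 1000 in
set_option synthInstance.maxHeartbeats 200000 in
theorem s4_aux : ∀ x : Equiv.Perm (Fin 4), x * x = 1 → x ≠ 1 → ∀ y, y * y = 1 → x * y * (x * y) = 1 → y ≠ 1 → y ≠ x →
    ∀ z, z * z = 1 → x * z * (x * z) = 1 → y * z * (y * z) = 1 → z = 1 ∨ z = x ∨ z = y ∨ z = x * y := by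
  decide +kernel

theorem s4_le {α : Type} [Fintype α] [DecidableEq α] (h : Fintype.card α = 4) (B : Subgroup (Equiv.Perm α))
    (e : ∀ x ∈ B, x * x = 1) : Nat.card B ≤ 4 := by
  classical
  let φ := (Fintype.equivFinOfCardEq h).permCongrHom
  rw [← card_map_of_injective (f := φ.toMonoidHom) φ.injective]
  set B' := B.map φ.toMonoidHom
  have e' : ∀ x ∈ B', x * x = 1 := by rintro _ ⟨x, hx, rfl⟩; rw [← map_mul, e x hx, map_one]
  by_contra! c
  have k : ∀ s : Finset (Equiv.Perm (Fin 4)), s.card ≤ 4 → ∃ x ∈ B', x ∉ s := fun s hs => by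
    by_contra! n
    have := Set.ncard_le_ncard (s := (B' : Set (Equiv.Perm (Fin 4)))) (t := (s : Set (Equiv.Perm (Fin 4)))) n
    rw [Set.ncard_coe_finset, ← Nat.card_coe_set_eq] at this
    exact absurd (this.trans hs) c.not_ge
  obtain ⟨x, hx, nx⟩ := k {1} (by simp)
  obtain ⟨y, hy, ny⟩ := k {1, x} (Finset.card_le_two.trans (by norm_num))
  obtain ⟨z, hz, nz⟩ := k {1, x, y, x * y} Finset.card_le_four
  simp only [Finset.mem_insert, Finset.mem_singleton, not_or] at nx ny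
  exact nz (by
    simpa using s4_aux x (e' x hx) nx y (e' y hy) (e' _ (mul_mem hx hy)) ny.1 ny.2 z (e' z hz) (e' _ (mul_mem hx hz))
      (e' _ (mul_mem hy hz)))

theorem q8_std : {σ | σ ∈ Spor.M12 ⊓ H15.Fx 15 ∧ σ * 1 * (σ * 1) = 1}.ncard = 2 :=
  (Chain.ncard (q := fun σ => σ * σ = 1) (Q := sq1) (fun _ _ h => sq1_iff h) d_chain4 Rep.one).trans (by decide +kernel)

theorem q8_le {D T : Finset GolayPt} (hD : D ∈ dodecads) (hT : T ⊆ D) (h4 : T.card = 4)
    (K : Subgroup (Equiv.Perm GolayPt)) (h : ∀ σ ∈ K, σ ∈ M24 ∧ σ • D = D ∧ σ * σ = 1 ∧ ∀ p ∈ T, σ p = p) :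
    Nat.card K ≤ 2 := by
  obtain ⟨x, x1, x2⟩ := exists_inj h4.ge
  obtain ⟨τ, t1, rfl, t3⟩ := dod_multi (n := 4) (by norm_num) D0_mem hD ![pt 0, pt 1, pt 2, pt 3] x (by decide +kernel) x1
    (by decide +kernel) fun i => hT (x2 i)
  rw [← q8_std, show Nat.card K = (K : Set (Equiv.Perm GolayPt)).ncard from Nat.card_coe_set_eq _]
  refine Set.ncard_le_ncard_of_injOn (fun σ => τ⁻¹ * σ * τ) (fun σ hσ => ?_) fun _ _ _ _ e => by simpa using e
  obtain ⟨h1, h2, h3, h5⟩ := h σ hσ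
  refine ⟨⟨mem_M12.2 ⟨conj_mem_M24 t1 h1, (conj_smul_eq_iff _ _ _).2 h2⟩, mem_Fx.2 fun p hp => ?_⟩, ?_⟩
  · have : ∃ i : Fin 4, p = ![pt 0, pt 1, pt 2, pt 3] i := by revert p; decide +kernel
    obtain ⟨i, rfl⟩ := this
    rw [conj_apply_eq_iff, t3, h5 _ (x2 i)]
  · rw [show τ⁻¹ * σ * τ * 1 * (τ⁻¹ * σ * τ * 1) = τ⁻¹ * (σ * σ) * τ by group, h3]; group

theorem m12 : H1.PA.M12 := fun D hc h12 A hA h => by
  have hD : D ∈ dodecads := ⟨hc, h12⟩
  by_cases c : ∃ a ∈ A, a ≠ 1 ∧ ∃ p ∈ D, a p = p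
  · obtain ⟨a, ha, a1, p, hp, e⟩ := c
    have o : orderOf a = 2 := orderOf_eq_prime (by rw [pow_two, (h a ha).2]) a1
    have f8 : (fixS a).card = 8 := by
      rcases inv_cases (hA ha) o with k | k
      · exact k.1
      · exact absurd (Finset.card_eq_zero.1 k.1) (Finset.ne_empty_of_mem (Finset.mem_filter.2 ⟨Finset.mem_univ p, e⟩))
    have l1 := dod_fix_le hD (hA ha) (h a ha).1 a1
    have l2 := dod_fix_le (compl_mem_dodecads hD) (hA ha) (by rw [smul_finset_compl', (h a ha).1]) a1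
    have l3 := Finset.card_inter_add_card_sdiff (fixS a) D
    rw [Finset.sdiff_eq_inter_compl] at l3
    have h4 : (fixS a ∩ D).card = 4 := by omega
    have hT : ∀ g ∈ A, g • (fixS a ∩ D) = fixS a ∩ D := fun g hg => by
      refine Finset.eq_of_subset_of_card_le (fun q hq => ?_) (Finset.card_smul_finset _ _).ge
      obtain ⟨r, hr, rfl⟩ := Finset.mem_smul_finset.1 hq
      have cm : a * g = g * a := by
        rw [← inv_eq_of_mul_eq_one_right (h _ (mul_mem ha hg)).2, mul_inv_rev, inv_eq_of_mul_eq_one_right (h a ha).2,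
          inv_eq_of_mul_eq_one_right (h g hg).2]
      refine Finset.mem_inter.2 ⟨Finset.mem_filter.2 ⟨Finset.mem_univ _, ?_⟩,
        (apply_mem_of_smul_eq (h g hg).1 r).2 (Finset.mem_inter.1 hr).2⟩
      show (a * g) r = g r
      rw [cm, Equiv.Perm.mul_apply, (Finset.mem_filter.1 (Finset.mem_inter.1 hr).1).2]
    have k1 := s4_le (α := ↥(fixS a ∩ D)) (by rw [Fintype.card_coe, h4]) (resHom A _ hT).range (by
      rintro _ ⟨x, rfl⟩
      rw [← map_mul, show x * x = 1 from Subtype.ext (h x x.2).2, map_one])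
    have k2 := q8_le hD Finset.inter_subset_right h4 ((resHom A _ hT).ker.map A.subtype) (by
      rintro _ ⟨x, hx, rfl⟩
      exact ⟨hA x.2, (h x x.2).1, (h x x.2).2, (mem_ker_resHom _ _ _ _).1 hx⟩)
    rw [card_map_of_injective A.subtype_injective] at k2
    rw [card_eq_range_mul_ker (resHom A _ hT)]
    exact Nat.mul_le_mul k1 k2
  · obtain ⟨p, hp⟩ := Finset.card_pos.1 (show 0 < D.card by omega)
    have l : Nat.card A ≤ Nat.card D := Nat.card_le_card_of_injective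
      (fun a : A => (⟨a.1 p, (apply_mem_of_smul_eq (h a a.2).1 p).2 hp⟩ : D)) fun a b e => by
        by_contra n
        refine c ⟨a.1⁻¹ * b.1, mul_mem (inv_mem a.2) b.2, fun e' => n (Subtype.ext (inv_mul_eq_one.1 e')), p, hp, ?_⟩
        rw [Equiv.Perm.mul_apply, ← show a.1 p = b.1 p from congrArg Subtype.val e, inv_app]
    rw [Nat.card_eq_finsetCard, h12] at l
    obtain ⟨n, hn⟩ := IsPGroup.iff_card.1 (show IsPGroup 2 A from fun x => ⟨1, Subtype.ext (by simpa [pow_two] using (h x x.2).2)⟩)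
    rw [hn] at l ⊢
    have : n < 4 := (Nat.pow_lt_pow_iff_right one_lt_two).1 (by omega)
    exact Nat.pow_le_pow_right two_pos (show n ≤ 3 by omega)

end H9.PA
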