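/-
Classes modulo two of lattice vectors supported on four points.
-/
import Cfsg.Agent.H1.PA0
import Cfsg.Agent.H3.MX1

set_option autoImplicit false

namespace H9.PA
open Cfsg H15 H19 H0 H0.Mo H0.Y H15.ML H15.MX Subgroup Function H1.PA
open scoped symmDiff Pointwise

theorem s4l_aux {T : Finset GolayPt} (hT : T.card ≤ 4) {v : Lam} (hv : ∀ i ∉ T, cf v i = 0)
    (h : 64 ∣ sqNorm (cf v)) : H3.MX.F v ∅ ∨ T.card = 4 ∧ H3.MX.F v T := by
  obtain ⟨m, c, k⟩ := mem_leech.1 v.2
  obtain ⟨p, -, hp⟩ := Finset.exists_mem_notMem_of_card_lt_card (s := T) (t := Finset.univ)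
    (by rw [Finset.card_univ, card_pt]; omega)
  have r : ∀ i, cf v i % 4 = m + if i ∈ c then 2 else 0 := k.res
  have m0 : m = 0 := by
    have := r p; have := hv p hp; have := k.par
    split_ifs at * <;> omega
  have cT : c ⊆ T := fun i hi => by
    by_contra n
    have := r i; have := hv i n
    rw [if_pos hi] at *; omega
  have c0 : c = ∅ := Finset.card_eq_zero.1 (by have := Finset.card_le_card cT; have := cw_card k.cw; omega)
  simp only [m0, c0, Finset.notMem_empty, if_false, add_zero] at r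
  let U := Finset.univ.filter fun i => cf v i % 8 = 4
  have mU : ∀ i, i ∈ U ↔ cf v i % 8 = 4 := fun i => by simp [U]
  have f : H3.MX.F v U := fun i => by
    have := r i; have := mU i
    split_ifs with e <;> simp only [e, true_iff, false_iff] at this <;> omega
  have UT : U ⊆ T := fun i hi => by
    by_contra n
    have := hv i n; have := (mU i).1 hi; omega
  have d := dvd_sum_sub Finset.univ (fun i => cf v i ^ 2) (fun i => if i ∈ U then 16 else 0) 64 fun i _ => by
    have := f i
    split_ifs at this ⊢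
    · obtain ⟨x, e⟩ : ∃ x, cf v i = 8 * x + 4 := ⟨cf v i / 8, by omega⟩
      exact ⟨x ^ 2 + x, by rw [e]; ring⟩
    · obtain ⟨x, e⟩ := Int.dvd_of_emod_eq_zero this
      exact ⟨x ^ 2, by rw [e]; ring⟩
  rw [sum_ind] at d
  have e : ∑ i, cf v i ^ 2 = sqNorm (cf v) := rfl
  rw [e] at d
  have := Finset.card_le_card UT
  obtain e | e : U.card = 0 ∨ U.card = 4 := by omega
  · exact .inl (Finset.card_eq_zero.1 e ▸ f)
  · exact .inr ⟨by omega, Finset.eq_of_subset_of_card_le UT (by omega) ▸ f⟩

theorem s4l : S4L := fun T hT => by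
  by_cases h4 : T.card = 4
  · obtain ⟨t, -, ht⟩ := H3.MX.exF (T := T) (by omega) ∅
    refine ⟨t, fun v hv h => ?_⟩
    rcases s4l_aux hT hv h with f | ⟨-, f⟩
    · exact (f.cg _).imp_right .inl
    · rcases H3.MX.F.cg (by simpa using f.add ht) (pt 23) with c | c
      · exact .inr (.inr (.inl (Cg.add_zero.1 c)))
      · refine .inr (.inr (.inr (Cg.add_zero.1 ?_)))
        rw [← add_assoc]
        exact (c.add (.refl _)).trans (Cg.add_zero.2 (.refl _))
  · exact ⟨0, fun v hv h => ((s4l_aux hT hv h).resolve_right fun f => h4 f.1).cg _ |>.imp_right .inl⟩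

end H9.PA
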