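import Cfsg.Agent.H9.Pc4
import Cfsg.Agent.H11.SpSimple

/-! # Transpositions of `M(24)` centralizing an `S₄` -/

set_option autoImplicit false
set_option maxRecDepth 100000

open Subgroup H26 H11 H12 H12.CForm Module

namespace H9

open FQ

section sp
variable {X : Type*} [FQ X] {n : ℕ}

theorem sp_κ : (altType (ZMod 2)).κ * 0 = 0 := mul_zero _

theorem IsLM.pf_sp (h : IsSp (Set.univ : Set X) n) : PF X := fun a b c ⟨h1, h2, h3, h4⟩ => by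
  obtain ⟨C, -, f, hf⟩ := h
  obtain ⟨u, hu, rfl⟩ := hf.surj (Set.mem_univ a)
  obtain ⟨v, hv, rfl⟩ := hf.surj (Set.mem_univ b)
  obtain ⟨w, hw, rfl⟩ := hf.surj (Set.mem_univ c)
  rw [← hf.map_t hu hv, hf.adj_iff₂ sp_κ hw (hu.t hf.lp hv)] at h4
  rw [hf.adj_iff₂ sp_κ ‹_› ‹_›] at h1 h2 h3
  rw [map_add, C.B_smul_right, (z2 _).resolve_left h1, (z2 _).resolve_left h2, (z2 _).resolve_left h3] at h4
  exact h4 rfl

theorem IsLM.prim_sp [Finite X] (h : IsSp (Set.univ : Set X) n) (h3 : 3 ≤ n) : Prim X := by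
  obtain ⟨C, hC, f, hf⟩ := h
  have pt : ∀ {u v}, C.B u v ≠ 0 → Pt C 0 v := fun k => ⟨by rintro rfl; simp at k, H11.alt_N _⟩
  have key : ∀ u v, ∃ w, Pt C 0 w ∧ C.B u w = 0 ∧ C.B v w = 0 := fun u v => by
    have h1 := hC.finrank_add_finrank_perp (Submodule.span (ZMod 2) {u, v})
    have h2 := finrank_span_le_card (R := ZMod 2) ({u, v} : Set _)
    have h4 : ({u, v} : Set _).toFinset.card ≤ 2 := by simpa using Finset.card_le_two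
    obtain ⟨w, h5, h6⟩ := H11.exists_mem_not_mem_of_finrank_lt (W' := ⊥) (W := C.perp (Submodule.span (ZMod 2) {u, v}))
      (by simp at h1 ⊢; omega)
    exact ⟨w, ⟨h6, H11.alt_N _⟩, C.mem_perp_pair.1 h5⟩
  obtain ⟨u₀, hu₀, -⟩ := key 0 0
  obtain ⟨v₀, hv₀⟩ := hC.exists_ne hu₀.1
  have : Nontrivial X := ⟨_, _, ((hf.adj_iff₂ sp_κ hu₀ (pt hv₀)).2 hv₀).ne⟩
  refine prim_of_vwc' (fun a b => ?_) (fun a b hab => ?_) (fun a b hab => ?_) fun a b => ?_ <;>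
    obtain ⟨u, hu, rfl⟩ := hf.surj (Set.mem_univ a) <;> obtain ⟨v, hv, rfl⟩ := hf.surj (Set.mem_univ b)
  · obtain ⟨y, h1, h2⟩ := exists_B_ne_ne hC hu.1 hv.1
    exact (Orb.of_adj sub_univ trivial trivial ((hf.adj_iff₂ sp_κ hu (pt h1)).2 h1)).trans
      (Orb.of_adj sub_univ trivial trivial ((hf.adj_iff₂ sp_κ hv (pt h1)).2 h2)).symm
  · by_contra ne
    obtain ⟨y, h1, h2⟩ := hC.exists_perp_ne (W := Submodule.span (ZMod 2) {u}) (x := v) fun k =>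
      ne ((hf.eq_iff hu hv).2 (let ⟨a, e⟩ := Submodule.mem_span_singleton.1 k; ⟨a, e.symm⟩))
    exact h2 ((hf.cm_iff₂ sp_κ hv (pt h2)).1 ((hab _).1 (hf.cm_of hu (pt h2) (C.mem_perp_singleton.1 h1))))
  · by_contra ne
    have k := (hf.adj_iff₂ sp_κ hv hu).1 (hab.adj ne).symm
    obtain ⟨w, hw, h1, h2⟩ := key u v
    have k' : C.B v (u + w) ≠ 0 := by rwa [map_add, h2, add_zero]
    have : f (u + w) ∈ Dc (f u) := (hf.mem_Dc hu (pt k')).2 ⟨by rw [map_add, h1, H11.alt_B_self, add_zero], fun e => by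
      obtain ⟨a, e⟩ := (hf.eq_iff hu (pt k')).1 e
      rcases z2 a with rfl | rfl
      · exact (pt k').1 (by simpa using e)
      · exact hw.1 (by simpa using e)⟩
    rw [show Dc (f u) = Dc (f v) from hab] at this
    exact k' ((hf.cm_iff₂ sp_κ hv (pt k')).1 this.2)
  · obtain ⟨w, hw, h1, h2⟩ := key u v
    exact (cc_of_cm (hf.cm_of hu hw h1)).trans (cc_of_cm (hf.cm_of hv hw h2).symm)

theorem IsLM.card_sp [Finite X] (h : IsSp (Set.univ : Set X) n) : Nat.card X + 1 = 2 ^ n := by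
  obtain ⟨C, -, f, hf⟩ := h
  have := hf.ncard_mul (P := fun _ => True)
  simp only [and_true, Set.ofPred_mem_eq, ZMod.card, Set.ncard_univ] at this
  rw [show {v | Pt C 0 v} = {0}ᶜ from Set.ext fun v => ⟨And.left, fun k => ⟨k, H11.alt_N _⟩⟩] at this
  have e := Set.ncard_add_ncard_compl ({0} : Set (Fin n → ZMod 2))
  simp at e; omega

theorem isSp_mu (h : IsSp (Set.univ : Set X) (n + 2)) {d a : X} (ha : Adj d a) : IsSp (Dc d ∩ Dc a) n := by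
  obtain ⟨C, hC, f, hf⟩ := h
  obtain ⟨u, hu, rfl⟩ := hf.surj (Set.mem_univ d)
  obtain ⟨v, hv, rfl⟩ := hf.surj (Set.mem_univ a)
  have k := (hf.adj_iff₂ sp_κ hu hv).1 ha
  have hp : IsHypPair C u v := ⟨hu.2, hv.2, (z2 _).resolve_left k⟩
  have hr := hp.finrank_perp hC
  refine (IsLM.of (hf.restrict _) (hp.nondeg_perp hC) (by simpa using hr)).of_eq ?_
  ext x
  obtain ⟨w, hw, rfl⟩ := hf.surj (Set.mem_univ x)
  have e : ∀ w, Pt C 0 w → (w ∈ C.perp (Submodule.span (ZMod 2) {u, v}) ↔ f w ∈ Dc (f u) ∩ Dc (f v)) :=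
    fun w hw => by
    rw [mem_perp_pair, ← hf.cm_iff₂ sp_κ hu hw, ← hf.cm_iff₂ sp_κ hv hw]
    exact ⟨fun ⟨h1, h2⟩ => ⟨⟨fun e => ha (e ▸ h2).symm, h1⟩, fun e => ha (e ▸ h1), h2⟩,
      fun ⟨h1, h2⟩ => ⟨h1.2, h2.2⟩⟩
  exact ⟨fun ⟨w', ⟨h1, h2⟩, h3⟩ => h3 ▸ (e w' h1).1 h2, fun k => ⟨w, ⟨hw, (e w hw).2 k⟩, rfl⟩⟩

theorem pf_of_loc [Finite X] (hP : Prim X) (h : ∀ y : X, IsSp (Dc y) n) : PF X := by
  by_contra hp
  obtain ⟨d, a, x, x', k⟩ := exists_px hP hp fun y =>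
    have := (hP.exists_Dc y).to_subtype; (h y).to_sub.pf_sp
  exact k.not_sp hP h

end sp

variable {G : Type*} [Group G] {D : Set G} {d e w a b y : G}

theorem prim_of_loc [Finite G] [TQ D] (h0 : ∃ x ∈ D, ∃ y ∈ D, x ≠ y)
    (h1 : ∀ x ∈ D, ∀ y ∈ D, Dn x y → (∃ c ∈ D, ¬ Commute x c ∧ ¬ Commute y c) ∧ ∃ c ∈ D, Commute x c ∧ ¬ Commute y c)
    (h2 : ∀ x ∈ D, ∀ y ∈ D, ¬ Commute x y → (∃ c ∈ D, Commute x c ∧ Commute y c) ∧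
      ∃ c ∈ D, Dn x c ∧ ¬ Commute y c) : Prim D := by
  obtain ⟨x, hx, y, hy, n⟩ := h0
  have : Nontrivial D := ⟨⟨x, hx⟩, ⟨y, hy⟩, fun e => n (congrArg Subtype.val e)⟩
  refine prim_of_vwc' (fun a b => ?_) (fun a b k => ?_) (fun a b k => ?_) fun a b => ?_
  · rcases eq_or_Dc_or_adj a b with rfl | k | k
    · exact .refl _ _
    · obtain ⟨c, hc, c1, c2⟩ := (h1 a a.2 b b.2 (TQ.mem_Dc.1 k)).1
      exact (Orb.of_adj (b := ⟨c, hc⟩) sub_univ trivial trivial (TQ.adj_iff.2 c1)).trans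
        (Orb.of_adj sub_univ trivial trivial (TQ.adj_iff.2 c2)).symm
    · exact .of_adj sub_univ trivial trivial k
  · by_contra ne
    obtain ⟨c, hc, c1, c2⟩ := (h1 a a.2 b b.2 (TQ.mem_Dc.1 ⟨Ne.symm ne, k.cm⟩)).2
    exact c2 (TQ.cm_iff.1 ((k ⟨c, hc⟩).1 (TQ.cm_iff.2 c1)))
  · by_contra ne
    obtain ⟨c, hc, c1, c2⟩ := (h2 a a.2 b b.2 (TQ.adj_iff.1 (k.adj ne))).2
    have : (⟨c, hc⟩ : D) ∈ Dc a := TQ.mem_Dc.2 c1
    rw [show Dc a = Dc b from k] at this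
    exact c2 (TQ.mem_Dc.1 this).2
  · rcases cm_or_adj a b with k | k
    · exact cc_of_cm k
    obtain ⟨c, hc, c1, c2⟩ := (h2 a a.2 b b.2 (TQ.adj_iff.1 k)).1
    exact (cc_of_cm (b := ⟨c, hc⟩) (TQ.cm_iff.2 c1)).trans (cc_of_cm (TQ.cm_iff.2 c2.symm))

variable (D d e w) in
/-- `d, w, e` is a path -/
def S4c : Prop := d ∈ D ∧ e ∈ D ∧ w ∈ D ∧ Dn d e ∧ ¬ Commute e w ∧ ¬ Commute d w

variable (D d e w) in
/-- the transpositions commuting with `d, e, w` -/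
def XX : Set G := {x | x ∈ D ∧ Commute w x ∧ Commute e x ∧ Commute d x}

theorem tqX [T : TQ D] : TQ (XX D d e w) :=
  { T.toT3.mono fun _ h => h.1 with
    conj := fun a ha b hb => ⟨T.conj a ha.1 b hb.1, (ha.2.1.mul_right hb.2.1).mul_right ha.2.1,
      (ha.2.2.1.mul_right hb.2.2.1).mul_right ha.2.2.1, (ha.2.2.2.mul_right hb.2.2.2).mul_right ha.2.2.2⟩ }

namespace S4c

/-- a configuration -/
def P5 : List Sp := [(31658, 12, []), (30889, 2, []), (306740, 13, []), (31668, 9, []), (31630, 0, [])]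

variable (m : Md H26.M24 D)

theorem at2 (hd : d ∈ D) (he : e ∈ D) (n : Dn d e) : At m (P5.drop 3) [e, d] :=
  B24.at5 m _ (cl3_two hd he n) (show 2 ≤ 5 by decide)

variable (h : S4c D d e w)
include h

theorem at3 : At m (P5.drop 2) [w, e, d] :=
  (at2 m h.1 h.2.1 h.2.2.2.1).norm1 h.2.2.1 [2,2] ⟨h.2.2.2.2.1, h.2.2.2.2.2, trivial⟩
    [[0], [2], [3], [4], [6], [7], [9], [10], [11], [12], [14], [8,9,5,9,8], [8,9,13,1,0,1,13,9,8]] [0,6,10,11,3,4,5,7,2,8,1,9,3,5,4,7,11,3,5,4,7,2,8,1,3,5,9,4,7,2,11,3,12,1,2,3] _ (by decide +kernel)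

theorem at4 (ha : a ∈ XX D d e w) : At m (P5.drop 1) [a, w, e, d] :=
  (h.at3 m).norm1 ha.1 [1,1,1] ⟨ha.2.1, ha.2.2.1, ha.2.2.2, trivial⟩
    [[2], [11], [10], [12], [6], [4], [7], [3], [5,9,13,1,0,1,13,9,5], [8,9,13,1,0,1,13,9,8], [5,9,8,10,11,7,8,1,10,3,2,1,0,1,2,3,10,1,8,7,11,10,8,9,5]] [7,0,5,6,7,8,2,1,0,3,9,2,1,4,0,10,0,1,8,2,1] _ (by decide +kernel)

theorem at5 (ha : a ∈ XX D d e w) (hb : b ∈ dcSet (XX D d e w) a) : At m P5 [b, a, w, e, d] :=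
  (h.at4 m ha).norm1 hb.1.1 [3,1,1,1] ⟨hb.2, hb.1.2.1, hb.1.2.2.1, hb.1.2.2.2, trivial⟩
    [[11], [10], [12], [6], [4], [7], [8,9,13,3,2,1,0,1,2,3,13,9,8], [5,9,13,3,2,1,0,1,2,3,13,9,5]] [0,1,2,3,0,6,4,1,7,5,1,6,7] _ (by decide +kernel)

theorem at6 (ha : a ∈ XX D d e w) (hb : b ∈ dcSet (XX D d e w) a) (hy : y ∈ dcSet (XX D d e w) a)
    (n : ¬ Commute b y) : At m ((30982, 11, []) :: P5) [y, b, a, w, e, d] :=
  (h.at5 m ha hb).norm1 hy.1.1 [2,3,1,1,1] ⟨n, hy.2, hy.1.2.1, hy.1.2.2.1, hy.1.2.2.2, trivial⟩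
    [[10], [12], [4], [6], [7], [8,9,13,3,2,1,0,1,2,3,13,9,8], [5,9,13,3,2,1,0,1,2,3,13,9,5]] [0,1,3,5,2,6,4] _ (by decide +kernel)

theorem at6' (ha : a ∈ XX D d e w) (hb : b ∈ dcSet (XX D d e w) a) (hy : y ∈ dcSet (XX D d e w) a)
    (n : Dn b y) : At m ((31639, 10, []) :: P5) [y, b, a, w, e, d] :=
  (h.at5 m ha hb).norm1 hy.1.1 [3,3,1,1,1] ⟨n, hy.2, hy.1.2.1, hy.1.2.2.1, hy.1.2.2.2, trivial⟩
    [[10], [4], [6], [7], [3,7,4,3,2,3,4,7,3], [8,9,13,3,2,1,0,1,2,3,13,9,8], [5,9,13,3,2,1,0,1,2,3,13,9,5]] [5,0,1,4,6,2,0,3,5,6] _ (by decide +kernel)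

variable (M : IsM H26.M24 G D)
include M

theorem nW : {x | S4c D d e x}.ncard = 247104 := by
  obtain ⟨m⟩ := Md.of M
  rw [← (at2 m h.1 h.2.1 h.2.2.2.1).ncard [2,2] 19 247104 (by decide +kernel)]
  exact congrArg _ (Set.ext fun x => ⟨fun k => ⟨k.2.2.1, k.2.2.2.2.1, k.2.2.2.2.2, trivial⟩,
    fun k => ⟨h.1, h.2.1, k.1, h.2.2.2.1, k.2.1, k.2.2.1⟩⟩)

theorem nA : (XX D d e w).ncard = 360 := by
  obtain ⟨m⟩ := Md.of M
  rw [← (h.at3 m).ncard [1,1,1] 19 360 (by decide +kernel)]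
  exact congrArg _ (Set.ext fun x => by simp [XX, PatG, RelG])

theorem nB (ha : a ∈ XX D d e w) : (dcSet (XX D d e w) a).ncard = 63 := by
  obtain ⟨m⟩ := Md.of M
  rw [← (h.at4 m ha).ncard [3,1,1,1] 19 63 (by decide +kernel)]
  exact congrArg _ (Set.ext fun x => by simp [XX, PatG, RelG, Dn]; tauto)

theorem ncc (ha : a ∈ XX D d e w) : ∃ b ∈ XX D d e w, ∀ x ∈ XX D d e w, Commute a x → ¬ Commute b x := by
  obtain ⟨m⟩ := Md.of M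
  obtain ⟨b, hb, ⟨-, b1, b2, b3, -⟩, k⟩ := (h.at4 m ha).add (21324, 0, [1,2,3,10,1,8,7,11,10,8,9,5]) [0,1,1,1]
    (by decide +kernel)
  exact ⟨b, ⟨hb, b1, b2, b3⟩, fun x hx c1 c2 => k.norm hx.1 [1,1,1,1,1] ⟨c2, c1, hx.2.1, hx.2.2.1, hx.2.2.2, trivial⟩
    [] [] [] (by decide +kernel)⟩

theorem isSp (ha : a ∈ XX D d e w) [TQ (dcSet (XX D d e w) a)] :
    IsSp (Set.univ : Set (dcSet (XX D d e w) a)) 6 := by
  obtain ⟨m⟩ := Md.of M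
  have := M.finite
  obtain ⟨b, hb, ⟨b0, b1, b2, b3, -⟩, -⟩ := (h.at4 m ha).add (31658, 12, []) [3,1,1,1] (by decide +kernel)
  have hb : b ∈ dcSet (XX D d e w) a := ⟨⟨hb, b1, b2, b3⟩, b0⟩
  obtain ⟨y, hy, ⟨y0, y1, y2, y3, y4, -⟩, k⟩ := (h.at5 m ha hb).add (31639, 10, []) [3,3,1,1,1] (by decide +kernel)
  have hy : y ∈ dcSet (XX D d e w) a := ⟨⟨hy, y2, y3, y4⟩, y1⟩
  obtain ⟨u, hu, ⟨u0, u1, u2, u3, u4, u5, -⟩, k⟩ := k.add (31667, 2, [3,4,7,3]) [4,3,3,1,1,1] (by decide +kernel)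
  have hu : u ∈ dcSet (XX D d e w) a := ⟨⟨hu, u3, u4, u5⟩, u2⟩
  have P : Prim (dcSet (XX D d e w) a) := prim_of_loc ⟨b, hb, y, hy, y0.1.symm⟩ (fun x hx y hy n => by
    obtain ⟨c, hc, ⟨c1, c2, c3, c4, c5, c6, -⟩, -⟩ := (h.at6' m ha hx hy n).add (30982, 11, []) [2,2,3,1,1,1]
      (by decide +kernel)
    obtain ⟨f, hf, ⟨f1, f2, f3, f4, f5, f6, -⟩, -⟩ := (h.at6' m ha hx hy n).add (306650, 0, [1,13,9,8,7,3])
      [2,1,3,1,1,1] (by decide +kernel)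
    exact ⟨⟨c, ⟨⟨hc, c4, c5, c6⟩, c3⟩, c2, c1⟩, f, ⟨⟨hf, f4, f5, f6⟩, f3⟩, f2, f1⟩) fun x hx y hy n => by
    obtain ⟨c, hc, ⟨c1, c2, c3, c4, c5, c6, -⟩, -⟩ := (h.at6 m ha hx hy n).add (31660, 4, []) [1,1,3,1,1,1]
      (by decide +kernel)
    obtain ⟨f, hf, ⟨f1, f2, f3, f4, f5, f6, -⟩, -⟩ := (h.at6 m ha hx hy n).add (31659, 6, []) [2,3,3,1,1,1]
      (by decide +kernel)
    exact ⟨⟨c, ⟨⟨hc, c4, c5, c6⟩, c3⟩, c2, c1⟩, f, ⟨⟨hf, f4, f5, f6⟩, f3⟩, f2, f1⟩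
  have F : PF (dcSet (XX D d e w) a) := fun x y c ⟨h1, h2, h3, h4⟩ => by
    obtain ⟨t, k⟩ := (h.at6 m ha x.2 y.2 (TQ.adj_iff.1 h1)).new (30980, 11, [12]) (by decide +kernel)
    have e : t = x * y * x := by simpa [pw, lt, mul_assoc] using k.peq [0] [2,1,2] (by decide +kernel)
    exact k.norm c.2.1.1 [2,2,2,3,1,1,1] ⟨e ▸ TQ.adj_iff.1 h4.symm, TQ.adj_iff.1 h3.symm, TQ.adj_iff.1 h2.symm,
      c.2.2, c.2.1.2.1, c.2.1.2.2.1, c.2.1.2.2.2, trivial⟩ [] [] [] (by decide +kernel)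
  obtain ⟨n, hn⟩ := F.sp P (d := ⟨b, hb⟩) fun v => u0 (congrArg Subtype.val (vt_iff.1 v ⟨u, hu⟩ (TQ.mem_Dc.2 u1)
    ⟨y, hy⟩ (TQ.mem_Dc.2 y0) fun c hc => by
      rw [TQ.cm_iff, TQ.cm_iff]
      constructor <;> intro q <;> by_contra q'
      exacts [k.norm c.2.1.1 [1,2,3,3,1,1,1] ⟨q, q', TQ.mem_Dc.1 hc, c.2.2, c.2.1.2.1, c.2.1.2.2.1, c.2.1.2.2.2,
        trivial⟩ [] [] [] (by decide +kernel), k.norm c.2.1.1 [2,1,3,3,1,1,1] ⟨q', q, TQ.mem_Dc.1 hc, c.2.2,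
        c.2.1.2.1, c.2.1.2.2.1, c.2.1.2.2.2, trivial⟩ [] [] [] (by decide +kernel)]))
  have := hn.card_sp
  rw [Nat.card_coe_set_eq, h.nB M ha] at this
  rwa [Nat.pow_right_injective le_rfl (show 2 ^ n = 2 ^ 6 from this.symm)] at hn

end S4c

theorem n512 (M : IsM H26.M24 G D) {p q r s : G} (k : Cl3 D [s, r, q, p]) :
    {x | x ∈ D ∧ ¬ Commute s x ∧ Commute r x ∧ Commute q x ∧ Commute p x}.ncard = 512 := by
  obtain ⟨m⟩ := Md.of M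
  rw [← At.ncard (P := B24.P5.drop 1) (B24.at5 m _ k (show 4 ≤ 5 by decide)) [2,1,1,1] 19 512 (by decide +kernel)]
  exact congrArg _ (Set.ext fun x => by simp [PatG, RelG])

theorem ex_s4 (M : IsM H26.M24 G D) (hd : d ∈ D) (he : e ∈ D) (n : Dn d e) :
    ∃ w a b, S4c D d e w ∧ a ∈ XX D d e w ∧ b ∈ dcSet (XX D d e w) a := by
  obtain ⟨m⟩ := Md.of M
  obtain ⟨w, hw, ⟨w1, w2, -⟩, k⟩ := (S4c.at2 m hd he n).add (306740, 13, []) [2,2] (by decide +kernel)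
  obtain ⟨a, ha, ⟨a1, a2, a3, -⟩, k⟩ := k.add (30889, 2, []) [1,1,1] (by decide +kernel)
  obtain ⟨b, hb, ⟨b0, b1, b2, b3, -⟩, -⟩ := k.add (31658, 12, []) [3,1,1,1] (by decide +kernel)
  exact ⟨w, a, b, ⟨hd, he, hw, n, w1, w2⟩, ⟨ha, a1, a2, a3⟩, ⟨hb, b1, b2, b3⟩, b0⟩

end H9
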