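import Cfsg.Agent.H9.Pd1

/-! # Elements of `M(24)` swapping two commuting transpositions -/

set_option autoImplicit false

open Subgroup H26

namespace H9

open FQ

variable {G : Type*} [Group G] {D : Set G} {d e w a b g k x y z : G} {l : List G}

variable (d e g) in
/-- `g` swaps `d` and `e` -/
def Sw : Prop := g * d * g⁻¹ = e ∧ g * e * g⁻¹ = d

variable (d e w) in
/-- the mate of `w` -/
def vv : G := d * e * w * (d * e)⁻¹

theorem Sw.symm (h : Sw d e g) : Sw e d g := ⟨h.2, h.1⟩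

theorem Sw.comm (h : Sw d e g) (n : Dn d e) : Commute (d * e) g :=
  (mul_inv_eq_iff_eq_mul.1 (by rw [← conj_mul, h.1, h.2, n.2.eq])).symm

theorem Sw.ne (h : Sw d e g) (n : Dn d e) : ¬ Commute d g := fun c =>
  n.1 (by rw [← h.1, ← c.eq, mul_inv_cancel_right])

theorem Sw.mul (h : Sw d e g) (hk : k ∈ centralizer {e, d}) : Sw d e (g * k) := by
  obtain ⟨a, b⟩ := memK.1 hk
  constructor <;> simp only [mul_inv_rev, ← mul_assoc]
  · rw [mul_assoc g, ← b.eq, ← mul_assoc, mul_inv_cancel_right, h.1]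
  · rw [mul_assoc g, ← a.eq, ← mul_assoc, mul_inv_cancel_right, h.2]

theorem Sw.mul' (h : Sw d e g) (hk : k ∈ centralizer {e, d}) : Sw d e (k * g) := by
  obtain ⟨a, b⟩ := memK.1 hk
  constructor <;> rw [show ∀ x, k * g * x * (k * g)⁻¹ = k * (g * x * g⁻¹) * k⁻¹ from fun x => by group]
  · rw [h.1, ← a.eq, mul_inv_cancel_right]
  · rw [h.2, ← b.eq, mul_inv_cancel_right]

theorem Sw.inv (h : Sw d e g) : Sw d e g⁻¹ :=
  ⟨by rw [← h.2]; group, by rw [← h.1]; group⟩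

theorem Sw.mul_sw (h : Sw d e g) (h' : Sw d e k) : g * k ∈ centralizer {e, d} := by
  have e : ∀ x, g * k * x * (g * k)⁻¹ = g * (k * x * k⁻¹) * g⁻¹ := fun x => by group
  exact memK.2 ⟨(mul_inv_eq_iff_eq_mul.1 (by rw [e, h'.2, h.1])).symm,
    (mul_inv_eq_iff_eq_mul.1 (by rw [e, h'.1, h.2])).symm⟩

theorem Sw.conj (h : Sw d e g) (hk : k ∈ centralizer {e, d}) : g * k * g⁻¹ ∈ centralizer {e, d} :=
  (h.mul hk).mul_sw h.inv

theorem vv_conj (hk : k ∈ centralizer {e, d}) : k * vv d e w * k⁻¹ = vv d e (k * w * k⁻¹) := by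
  have c := (memK.1 hk).2.mul_left (memK.1 hk).1
  rw [vv, vv, ← conj_mul, ← conj_mul, ← conj_inv, ← c.eq, mul_inv_cancel_right]

theorem vv_comm (h1 : Commute d x) (h2 : Commute e x) (h3 : Commute w x) : Commute (vv d e w) x :=
  ((h1.mul_left h2).mul_left h3).mul_left (h1.mul_left h2).inv_left

theorem S4c.symm (h : S4c D d e w) : S4c D e d w :=
  ⟨h.2.1, h.1, h.2.2.1, h.2.2.2.1.symm, h.2.2.2.2.2, h.2.2.2.2.1⟩

theorem vv_symm (n : Dn d e) : vv e d w = vv d e w := by rw [vv, vv, n.2.eq]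

theorem fix3 {α : Type*} {f : α → α} (i : ∀ x, f (f x) = x) {l : List α} (nd : l.Nodup) (h3 : l.length = 3)
    (h : ∀ x ∈ l, f x ∈ l) : ∃ a ∈ l, f a = a := by
  match l, h3 with
  | [x, y, z], _ => simp at nd h ⊢; grind

variable [T : TG D]

theorem S4c.cl (h : S4c D d e w) : Cl3 D [w, vv d e w] := by
  obtain ⟨hd, he, hw, n, n1, n2⟩ := h
  refine cl3_two (TG.conj_mem _ hw) hw (Dn.symm ⟨fun q => n1 (comm2 hd he hw n (mul_inv_eq_iff_eq_mul.1 q)).2, ?_⟩)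
  simpa [vv, T.inv hd, T.inv he, mul_assoc] using TQ.cm_iff.1 (s4_cm (X := D) (x := ⟨w, hw⟩) (p := ⟨d, hd⟩)
    (q := ⟨e, he⟩) (TQ.adj_iff.2 n2) (TQ.adj_iff.2 n1) (TQ.cm_iff.2 n.2))

theorem S4c.sw (h : S4c D d e w) : Sw d e (w * vv d e w) := by
  have key : ∀ {d e}, S4c D d e w → w * vv d e w * d * (w * vv d e w)⁻¹ = e := fun {d e} ⟨hd, he, hw, n, n1, n2⟩ => by
    have s : ∀ x ∈ D, ∀ y, x * (x * y) = y := fun x hx y => by rw [← mul_assoc, T.sq x hx, one_mul]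
    have b : ∀ x ∈ D, ¬ Commute x w → ∀ y, w * (x * (w * y)) = x * (w * (x * y)) := fun x hx c y => by
      simp only [← mul_assoc, T.braid hx hw c]
    simp only [vv, mul_inv_rev, inv_inv, T.inv hd, T.inv he, T.inv hw, mul_assoc, s d hd, n.2.left_comm, s e he,
      b d hd n2]
    rw [b e he n1, s e he, T.sq w hw, mul_one]
  exact ⟨key h, vv_symm h.2.2.2.1 ▸ key h.symm⟩

variable (hd : d ∈ D) (he : e ∈ D) (n : Dn d e)
include hd he n

theorem Sw.not_mem (h : Sw d e g) : g ∉ D := fun hg => h.ne n (comm2 hd he hg n (h.comm n)).1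

theorem Sw.strip (h : Sw d e l.prod) (c : Cl3 D l) (ha : a ∈ l) (q : d * e * a * (d * e)⁻¹ = a) :
    Commute d a ∧ Commute e a ∧ ∃ r, l.Perm (a :: r) ∧ Cl3 D (a :: r) ∧ l.prod = r.prod * a ∧ Sw d e r.prod := by
  classical
  have p := List.perm_cons_erase ha
  obtain ⟨c1, c2⟩ := c.perm p
  obtain ⟨a1, a2⟩ := comm2 hd he (c.1 a ha) n (mul_inv_eq_iff_eq_mul.1 q)
  refine ⟨a1, a2, _, p, c1, ?_, ?_⟩
  · rw [← c2, List.prod_cons]
    exact Commute.list_prod_right _ _ fun y hy => c1.comm a (by simp) y (by simp [hy])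
  · simpa [← c2, ← mul_assoc, T.sq a (c.1 a ha)] using h.mul' (memK.2 ⟨a2, a1⟩)

variable (W : WtG D 7)
include W

theorem st_de (h : Commute (d * e) g) : g ∈ centralizer {e, d} ∨ Sw d e g := by
  have c := cl3_two he hd n.symm
  have k := fun x => (W.iff (c.conj (fun g x => T.conj_mem g) g) c (by simp) (by simp)
    (by rw [prod_map_conj, List.prod_pair, ← h.eq, mul_inv_cancel_right]) x).1
  have i : g * d * g⁻¹ ≠ g * e * g⁻¹ := fun q => n.1 (by simpa using q.symm)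
  rcases List.mem_pair.1 (k (g * d * g⁻¹) (by simp)) with q | q <;>
    rcases List.mem_pair.1 (k (g * e * g⁻¹) (by simp)) with q' | q'
  exacts [(i (q.trans q'.symm)).elim, .inl (memK.2 ⟨(mul_inv_eq_iff_eq_mul.1 q').symm,
    (mul_inv_eq_iff_eq_mul.1 q).symm⟩), .inr ⟨q, q'⟩, (i (q.trans q'.symm)).elim]

omit hd he in
theorem Sw.perm (h : Sw d e l.prod) (c : Cl3 D l) (h3 : l.length ≤ 3) (hx : x ∈ l) :
    d * e * x * (d * e)⁻¹ ∈ l :=
  (W.iff (c.conj (fun g x => T.conj_mem g) _) c h3 (by simp; omega)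
    (by rw [prod_map_conj, (h.comm n).eq, mul_inv_cancel_right]) _).1 (List.mem_map_of_mem hx)

theorem Sw.two (h : Sw d e l.prod) (c : Cl3 D l) (h2 : l.length = 2) : ∃ u, S4c D d e u ∧ l = [u, vv d e u] := by
  match l, h2 with
  | [x, y], _ =>
  rcases List.mem_pair.1 (h.perm n W c (by simp) (by simp : x ∈ _)) with q | q
  · obtain ⟨-, -, r, p, c1, -, s⟩ := h.strip hd he n c (by simp) q
    obtain rfl : r = [y] := List.perm_singleton.1 (p.symm.cons_inv)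
    exact absurd (c.1 y (by simp)) (by simpa using s.not_mem hd he n)
  · have k : ∀ c, Commute d c → Commute e c → Commute x c → Commute c [x, y].prod := fun c a1 a2 a3 => by
      rw [List.prod_pair, ← q]; exact (a3.mul_left (vv_comm a1 a2 a3)).symm
    exact ⟨x, ⟨hd, he, c.1 x (by simp), n, fun u => h.symm.ne n.symm (k e n.2 (.refl e) u.symm),
      fun u => h.ne n (k d (.refl d) n.2.symm u.symm)⟩, by rw [← q, vv]⟩

theorem Sw.three (h : Sw d e l.prod) (c : Cl3 D l) (h3 : l.length = 3) :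
    ∃ u a, S4c D d e u ∧ a ∈ XX D d e u ∧ l.prod = u * vv d e u * a ∧ u ∈ l ∧ a ∈ l := by
  obtain ⟨a, ha, q⟩ := fix3 (f := fun x => d * e * x * (d * e)⁻¹) (fun x => by
    rw [show ∀ j x : G, j * (j * x * j⁻¹) * j⁻¹ = j * j * x * (j * j)⁻¹ from fun j x => by group, jj hd he n]
    simp) c.nodup h3
    fun x => h.perm n W c h3.le
  obtain ⟨a1, a2, r, p, c1, e1, s⟩ := h.strip hd he n c ha q
  obtain ⟨u, hu, rfl⟩ := s.two hd he n W (Cl3.cons.1 c1).2.2 (by simpa [h3] using p.length_eq.symm)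
  exact ⟨u, a, hu, ⟨c.1 a ha, c1.comm u (by simp) a (by simp), a2, a1⟩, by simpa using e1,
    p.symm.subset (by simp), ha⟩

omit T W in
theorem Sw.four [H : T24 D z] (h : Sw d e z) (hx : x ∈ TT D z) (h1 : Commute d x) (h2 : Commute e x) :
    ∃ u a, S4c D d e u ∧ a ∈ XX D d e u ∧ x ∈ dcSet (XX D d e u) a ∧ z = u * vv d e u * (a * x) := by
  have T := H.m.tg
  obtain ⟨l, t⟩ := TT.ex hx
  obtain ⟨c, h3, q⟩ := t.tail
  obtain ⟨u, a, hu, ha, e1, m1, m2⟩ := Sw.three hd he n (wt24 H.m) (by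
    simpa [← q, ← mul_assoc, T.sq x hx.1] using h.mul' (memK.2 ⟨h2, h1⟩)) c h3
  have k := (Cl3.cons.1 t.1).2.1
  refine ⟨u, a, hu, ha, ⟨⟨hx.1, (k u m1).2.symm, h2, h1⟩, (k a m2).symm⟩, ?_⟩
  rw [← mul_assoc, ← e1, ← q]
  exact Commute.list_prod_right _ _ fun y hy => (k y hy).2

omit T W
variable (M : IsM H26.M24 G D)
include M

theorem Sw.fix (h : Sw d e g) (gg : g * g = 1) : ∃ x ∈ dcSet (dcSet D d) e, Commute g x := by
  have T := M.tg
  obtain ⟨G', _, D', π, q, c⟩ := cov24_2 M hd he n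
  obtain ⟨x, hx, e1⟩ := c.fix q (f := fun x => g * x * g⁻¹)
    (fun x hx => ⟨⟨T.conj_mem g hx.1.1, h.2 ▸ Dn.conj hx.2 g⟩, h.1 ▸ Dn.conj hx.1.2 g⟩)
    (fun _ _ _ _ => by group) fun x _ => by
      rw [show g * (g * x * g⁻¹) * g⁻¹ = g * g * x * (g * g)⁻¹ by group, gg]; simp
  exact ⟨x, hx, mul_inv_eq_iff_eq_mul.1 e1⟩

theorem Sw.cases (h : Sw d e g) (gg : g * g = 1) : ∃ u, S4c D d e u ∧ (g = u * vv d e u ∨ ∃ a ∈ XX D d e u,
    g = u * vv d e u * a ∨ ∃ b ∈ dcSet (XX D d e u) a, g = u * vv d e u * (a * b)) := by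
  have T := M.tg
  obtain ⟨l, h4, c, rfl⟩ := ipg24 M g gg
  match l, h4 with
  | [], _ => exact absurd (.one_right d) (h.ne n)
  | [x], _ => exact absurd (c.1 x (by simp)) (by simpa using h.not_mem hd he n)
  | [_, _], _ =>
    obtain ⟨u, hu, q⟩ := h.two hd he n (wt24 M) c rfl
    exact ⟨u, hu, .inl (by simp [q])⟩
  | [_, _, _], _ =>
    obtain ⟨u, a, hu, ha, q, -⟩ := h.three hd he n (wt24 M) c rfl
    exact ⟨u, hu, .inr ⟨a, ha, .inl q⟩⟩
  | [p, q, r, s], _ =>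
    have : T24 D [p, q, r, s].prod := ⟨M, _, c, rfl, rfl⟩
    obtain ⟨x, hx, k⟩ := h.fix hd he n M gg
    obtain ⟨u, a, hu, ha, hb, q⟩ := h.four hd he n ⟨hx.1.1, k⟩ hx.1.2.2 hx.2.2
    exact ⟨u, hu, .inr ⟨a, ha, .inr ⟨x, hb, q⟩⟩⟩

theorem Sw.not_cen (h : Sw d e g) : ¬ ∀ x ∈ dcSet (dcSet D d) e, Commute g x := fun k => by
  have T := M.tg
  obtain ⟨w, x, -, hw, hx, -⟩ := ex_s4 M hd he n
  have md : d ∈ dcSet D x := ⟨hd, fun q => hw.2.2.2.2.2 (q ▸ hx.2.1.symm), hx.2.2.2.symm⟩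
  have me : e ∈ dcSet D x := ⟨he, fun q => hw.2.2.2.2.1 (q ▸ hx.2.1.symm), hx.2.2.1.symm⟩
  obtain ⟨π, c⟩ := cov24 M hx.1
  have hS : {y | y ∈ dcSet D x ∧ Commute g y} ⊆ centralizer {x} := fun y hy => c.sub y hy.1
  have := (pair23 (quotD24 M hx.1) (c.mem d md) (c.mem e me) ((c.dn_iff md me).2 n)).1.trans
    ((closure_mono (k := π '' {y | y ∈ dcSet D x ∧ Commute g y}) fun y hy => by
      obtain ⟨y, m, rfl⟩ := c.ex y hy.1.1
      exact ⟨y, ⟨m, k y ⟨⟨m.1, (c.dn_iff md m).1 hy.1.2⟩, (c.dn_iff me m).1 hy.2⟩⟩, rfl⟩).trans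
        (c.img_closure hS).ge) (subset_closure (.inr rfl))
  obtain ⟨y, hy, q⟩ := (c.mem_img ((closure_le _).2 hS)).1 this
  obtain ⟨z, hz, rfl⟩ := c.exists_eq (c.sub d md) ((closure_le _).2 hS hy) q.symm
  refine h.ne n (Commute.mul_left ?_ (memC.1 ((closure_le _).2 (fun _ hy => memC.2 hy.2) hy)).symm)
  exact (memC.1 (zpowers_le.2 (memC.2 (k x ⟨⟨hx.1, Dn.symm md.2⟩, Dn.symm me.2⟩)) hz)).symm

omit hd he n

theorem S4c.tr3 {w' : G} (h : S4c D d e w) (h' : S4c D d e w') : ∃ k ∈ centralizer {e, d}, k * w * k⁻¹ = w' := by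
  obtain ⟨m⟩ := Md.of M
  obtain ⟨k, q⟩ := (h.at3 m).conj (h'.at3 m)
  simp only [List.map_cons, List.map_nil, List.cons.injEq, and_true, mul_inv_eq_iff_eq_mul] at q
  exact ⟨k, memK.2 ⟨q.2.1.symm, q.2.2.symm⟩, by rw [q.1, mul_inv_cancel_right]⟩

theorem S4c.tr4 {w' a' : G} (h : S4c D d e w) (h' : S4c D d e w') (ha : a ∈ XX D d e w) (ha' : a' ∈ XX D d e w') :
    ∃ k ∈ centralizer {e, d}, k * w * k⁻¹ = w' ∧ k * a * k⁻¹ = a' := by
  obtain ⟨m⟩ := Md.of M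
  obtain ⟨k, q⟩ := (h.at4 m ha).conj (h'.at4 m ha')
  simp only [List.map_cons, List.map_nil, List.cons.injEq, and_true] at q
  exact ⟨k, memK.2 ⟨(mul_inv_eq_iff_eq_mul.1 q.2.2.1).symm, (mul_inv_eq_iff_eq_mul.1 q.2.2.2).symm⟩, q.2.1, q.1⟩

theorem S4c.tr5 {w' a' b' : G} (h : S4c D d e w) (h' : S4c D d e w') (ha : a ∈ XX D d e w)
    (ha' : a' ∈ XX D d e w') (hb : b ∈ dcSet (XX D d e w) a) (hb' : b' ∈ dcSet (XX D d e w') a') :
    ∃ k ∈ centralizer {e, d}, k * w * k⁻¹ = w' ∧ k * a * k⁻¹ = a' ∧ k * b * k⁻¹ = b' := by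
  obtain ⟨m⟩ := Md.of M
  obtain ⟨k, q⟩ := (h.at5 m ha hb).conj (h'.at5 m ha' hb')
  simp only [List.map_cons, List.map_nil, List.cons.injEq, and_true] at q
  exact ⟨k, memK.2 ⟨(mul_inv_eq_iff_eq_mul.1 q.2.2.2.1).symm, (mul_inv_eq_iff_eq_mul.1 q.2.2.2.2).symm⟩,
    q.2.2.1, q.2.1, q.1⟩

theorem Sw.conj3 (h : Sw d e g) (gg : g * g = 1) (hw : S4c D d e w) (ha : a ∈ XX D d e w)
    (hb : b ∈ dcSet (XX D d e w) a) : ∃ k ∈ centralizer {e, d}, k * g * k⁻¹ = w * vv d e w ∨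
      k * g * k⁻¹ = w * vv d e w * a ∨ k * g * k⁻¹ = w * vv d e w * (a * b) := by
  obtain ⟨u, hu, rfl | ⟨a', ha', rfl | ⟨b', hb', rfl⟩⟩⟩ := h.cases hw.1 hw.2.1 hw.2.2.2.1 M gg
  · obtain ⟨k, hk, rfl⟩ := hu.tr3 M hw
    exact ⟨k, hk, .inl (by rw [← conj_mul, vv_conj hk])⟩
  · obtain ⟨k, hk, rfl, rfl⟩ := hu.tr4 M hw ha' ha
    exact ⟨k, hk, .inr (.inl (by rw [← conj_mul, ← conj_mul, vv_conj hk]))⟩
  · obtain ⟨k, hk, rfl, rfl, rfl⟩ := hu.tr5 M hw ha' ha hb' hb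
    exact ⟨k, hk, .inr (.inr (by rw [← conj_mul, ← conj_mul, ← conj_mul, vv_conj hk]))⟩

theorem card_K2 (hd : d ∈ D) (he : e ∈ D) (n : Dn d e) :
    Nat.card (centralizer {e, d}) = 4 * 64561751654400 := by
  have T := M.tg
  obtain ⟨G', _, D', π, q, c⟩ := cov24_2 M hd he n
  rw [c.card, card22 q, card_closure_two (T.sq e he) (T.sq d hd) n.2.symm (T.ne e he) (T.ne d hd) n.1]

theorem S4c.conj (h : S4c D d e w) (hk : k ∈ centralizer {e, d}) : S4c D d e (k * w * k⁻¹) := by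
  obtain ⟨a, b⟩ := memK.1 hk
  refine ⟨h.1, h.2.1, M.tg.conj_mem k h.2.2.1, h.2.2.2.1, fun q => h.2.2.2.2.1 ?_, fun q => h.2.2.2.2.2 ?_⟩
  exacts [by simpa [mul_assoc] using (a.inv_right.mul_right q).mul_right a,
    by simpa [mul_assoc] using (b.inv_right.mul_right q).mul_right b]

theorem S4c.card_K (h : S4c D d e w) :
    Nat.card (centralizer {e, d} ⊓ centralizer {w} : Subgroup G) = 1045094400 := by
  have := card_orb (centralizer {e, d}) w (Y := {x | S4c D d e x}) fun y =>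
    ⟨h.tr3 M, fun ⟨k, hk, q⟩ => q ▸ h.conj M hk⟩
  rw [h.nW M, card_K2 M h.1 h.2.1 h.2.2.2.1] at this
  omega

theorem S4c.card_Ka (h : S4c D d e w) (ha : a ∈ XX D d e w) :
    Nat.card (centralizer {e, d} ⊓ centralizer {w} ⊓ centralizer {a} : Subgroup G) = 2903040 := by
  have := card_orb (centralizer {e, d} ⊓ centralizer {w}) a (Y := XX D d e w) fun y =>
    ⟨fun hy => let ⟨k, hk, q1, q2⟩ := h.tr4 M h ha hy; ⟨k, ⟨hk, memC.2 (mul_inv_eq_iff_eq_mul.1 q1).symm⟩, q2⟩, by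
      rintro ⟨k, ⟨h1, h2⟩, rfl⟩
      have c : ∀ {x}, Commute x k → Commute x a → Commute x (k * a * k⁻¹) := fun p q =>
        (p.mul_right q).mul_right p.inv_right
      exact ⟨M.tg.conj_mem k ha.1, c (memC.1 h2) ha.2.1, c (memK.1 h1).1 ha.2.2.1, c (memK.1 h1).2 ha.2.2.2⟩⟩
  rw [h.nA M, h.card_K M] at this
  omega

end H9
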