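import Cfsg.Agent.H9.Pd2
import Cfsg.Agent.H9.Emb
import Cfsg.Agent.H9.Dis3
import Cfsg.Agent.S0817

/-! # The centralizer of an `S₄` in `M(24)` -/

set_option autoImplicit false

open Subgroup H26

namespace H9

open FQ

theorem sq_act {Γ P : Type*} [Group Γ] [Group P] [Finite Γ] (φ : Γ →* P) {A : Subgroup P} {R : Subgroup Γ}
    (hA : A ≤ φ.range) (hR : R ≤ φ.ker) (hc : Nat.card Γ ≤ Nat.card R * Nat.card (A ⧸ center A)) :
    φ.ker = R ∧ Nonempty (φ.range ≃* A ⧸ center A) := by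
  have : Finite φ.range := .of_surjective _ φ.rangeRestrict_surjective
  have : Finite A := .of_injective _ (inclusion_injective hA)
  have c1 := φ.ker.card_mul_index
  rw [index_ker] at c1
  have c2 := card_le_of_le hR
  have c3 := Nat.card_le_card_of_injective _ (inclusion_injective hA)
  have e := card_eq_card_quotient_mul_card_subgroup (center A)
  have p1 : 0 < Nat.card (A ⧸ center A) := Nat.card_pos
  have p2 : 0 < Nat.card (center A) := Nat.card_pos
  have p3 : 0 < Nat.card R := Nat.card_pos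
  have c4 : Nat.card φ.range ≤ Nat.card (A ⧸ center A) := by nlinarith
  have : Nat.card (center A) = 1 := by nlinarith
  rw [this, mul_one] at e
  refine ⟨(eq_of_le_of_card_ge hR (by nlinarith)).symm, ⟨(MulEquiv.ofBijective (inclusion hA)
    ((inclusion_injective hA).bijective_of_nat_card_le (by omega))).symm.trans (QuotientGroup.quotientBot.symm.trans
    (QuotientGroup.quotientMulEquivOfEq (card_eq_one.1 this).symm))⟩⟩

theorem inn_quot {X : Type*} [FQ X] (h : NoIso X) (S : Set X) [Cls S] (hS : NoIso S) :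
    ∃ (E : Set (Inn S ⧸ center (Inn S))) (_ : TG E), Iso S E ∧ center (Inn S ⧸ center (Inn S)) = ⊥ := by
  unfold Inn
  let := tg_innSet h
  have T := TQ.map (D := innSet X) (Inn Set.univ).subtype fun d hd e => T3.ne TQ.t3 d hd (Subtype.ext e)
  let f : X → ((Inn Set.univ).subtype '' innSet X) := fun a => ⟨t a, ⟨_, t_mem_Inn trivial⟩, ⟨a, rfl⟩, rfl⟩
  have hf : IsHom f := fun a b => Subtype.ext (t_t_eq a b)
  have : Cls (f '' S) := ⟨hf.cl_image Cls.cl⟩
  obtain ⟨_, hi⟩ := exists_tg (f '' S) (E := t '' S) (Set.image_image ..)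
  replace hi := (iso_image hf (fun a b e => h.t_inj (congrArg Subtype.val e)) S rfl).trans hi
  have hn := hS.of_iso hi
  let := tg_quot hn
  exact ⟨_, this, hi.trans (iso_quot hn), center_quot hn⟩

variable {G : Type*} [Group G] {D : Set G} {d e w a : G}

theorem tq_dc [TQ D] (ha : a ∈ D) : TQ (dcSet D a) :=
  (show _ = dcSet D a from image_Dc ⟨a, ha⟩) ▸ TQ.of_sub Cls.cl

theorem lay_o8 [Finite G] [TG D] (g : Gd D) (hZ : center G = ⊥) {a b : D} (hab : ¬ CC a b)
    (hc : Nat.card G < 4952179814400) : Nat.card G = 1045094400 ∧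
      Nonempty (G ≃* MulAut (Cfsg.Omega (ZMod 2) (Cfsg.quadFormPlus 4 (ZMod 2)))) := by
  obtain ⟨L, h⟩ := exists_lay g hZ
  have := h.normal
  obtain ⟨e2⟩ := h.s3' g.conn hab
  have c3 : Nat.card G = _ := card_eq_card_quotient_mul_card_subgroup L
  rw [Nat.card_congr e2.toEquiv, Nat.card_perm, Nat.card_fin] at c3
  rcases h.cases g.conn hab with ⟨⟨e⟩⟩ | ⟨⟨e⟩⟩ <;> rw [Nat.card_congr e.toEquiv] at c3
  swap
  · rw [card_o8] at c3; simp [Nat.factorial] at c3; omega
  have c : Nat.card (Cfsg.Omega (ZMod 2) (Cfsg.quadFormPlus 4 (ZMod 2))) = 174182400 := by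
    simpa [Finset.prod_range_succ] using H11.card_omegaPlus_mul (F := ZMod 2) (m := 3) (by simp)
  have z := center_bot_of_equiv e.symm h.cent
  have := Finite.of_equiv _ e.toEquiv
  let q : Cfsg.POmega (ZMod 2) (Cfsg.quadFormPlus 4 (ZMod 2)) ≃* _ :=
    (QuotientGroup.quotientMulEquivOfEq z).trans QuotientGroup.quotientBot
  have k := Cfsg.Agent.S0817.result (F := ZMod 2) 2 1 le_rfl rfl 4 le_rfl
  rw [Nat.card_congr (MulAut.congr q).toEquiv, Nat.card_congr q.toEquiv, c] at k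
  obtain ⟨θ, i, -⟩ := exists_emb (fun x hx => h.eq_one hx ▸ one_mem L) e z
  rw [c] at c3
  exact ⟨c3, ⟨MulEquiv.ofBijective θ (i.bijective_of_nat_card_le (by rw [k, c3]; rfl))⟩⟩

variable (M : IsM H26.M24 G D) (h : S4c D d e w)
include M h

theorem S4c.K_aut : Nonempty ((centralizer {e, d} ⊓ centralizer {w} : Subgroup G) ≃*
    MulAut (Cfsg.Omega (ZMod 2) (Cfsg.quadFormPlus 4 (ZMod 2)))) := by
  have := M.tg
  have := M.finite
  have T := tqX (D := D) (d := d) (e := e) (w := w)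
  obtain ⟨a, ha⟩ := Set.nonempty_of_ncard_ne_zero (h.nA M ▸ by decide : (XX D d e w).ncard ≠ 0)
  obtain ⟨b, hb, k⟩ := h.ncc M ha
  have : Nonempty (XX D d e w) := ⟨⟨a, ha⟩⟩
  have g1 : Gd (XX D d e w) := gd_of_loc fun y => by
    have := tq_dc y.2
    exact ((h.isSp M y.2).prim_sp (by decide)).gd.of_iso (iso_sub _ (image_Dc y)).symm
  let := T.tg_closure
  obtain ⟨f, hf⟩ := FQ.Iso.symm (iso_closure (D := XX D d e w))
  have g2 := g1.of_iso ⟨f, hf⟩
  have := g2.nontrivial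
  have hn := g2.conn.noIso
  let := tg_quot hn
  obtain ⟨f', hf'⟩ := FQ.Iso.trans ⟨f, hf⟩ (iso_quot hn)
  have le : closure (XX D d e w) ≤ centralizer {e, d} ⊓ centralizer {w} :=
    (closure_le _).2 fun x hx => ⟨memK.2 hx.2.2, memC.2 hx.2.1⟩
  have c1 := card_le_of_le le
  have c2 := Nat.card_le_card_of_surjective _ (QuotientGroup.mk'_surjective (center (closure (XX D d e w))))
  rw [h.card_K M] at c1
  obtain ⟨c3, ⟨q⟩⟩ := lay_o8 (g1.of_iso ⟨f', hf'⟩) (center_quot hn) (a := f' ⟨a, ha⟩) (b := f' ⟨b, hb⟩)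
    (fun u => by
      obtain ⟨x, x1, x2⟩ := (hf'.symm.cc u).diam
      rw [Equiv.symm_apply_apply] at x1 x2
      exact k x x.2 (TQ.cm_iff.1 x1) (TQ.cm_iff.1 x2).symm) (by omega)
  obtain ⟨q1, ⟨q2⟩⟩ := squeeze le (by rw [h.card_K M, c3])
  exact q1 ▸ ⟨q2.trans q⟩

theorem S4c.Ka (ha : a ∈ XX D d e w) :
    Nonempty ((centralizer {e, d} ⊓ centralizer {w} ⊓ centralizer {a} : Subgroup G) ≃*
      Multiplicative (ZMod 2) × Cfsg.PSp 3 (ZMod 2)) := by
  have T := M.tg
  have := M.finite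
  have := tqX (D := D) (d := d) (e := e) (w := w)
  have := tq_dc ha
  have S := h.isSp M ha
  have P := S.prim_sp (by decide)
  have := P.nontrivial
  set K := centralizer {e, d} ⊓ centralizer {w} ⊓ centralizer {a}
  have mK : ∀ x ∈ XX D d e w, Commute a x → x ∈ K := fun x hx c => ⟨⟨memK.2 hx.2.2, memC.2 hx.2.1⟩, memC.2 c⟩
  obtain ⟨φ, hφ⟩ := exists_permHom K (d := fun x : dcSet (XX D d e w) a => x.1) Subtype.val_injective
    fun k ⟨⟨h1, h2⟩, h3⟩ ⟨x, hx, n⟩ => by
      have c : ∀ {y}, Commute y k → Commute y x → Commute y (k * x * k⁻¹) := fun p q =>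
        (p.mul_right q).mul_right p.inv_right
      exact ⟨⟨_, ⟨T.conj_mem k hx.1, c (memC.1 h2) hx.2.1, c (memK.1 h1).1 hx.2.2.1, c (memK.1 h1).2 hx.2.2.2⟩,
        by simpa [← (memC.1 h3).eq] using Dn.conj n k⟩, rfl⟩
  obtain ⟨E, _, hi, hZ⟩ := inn_quot P.noIso Set.univ (P.noIso.of_iso iso_univ.symm)
  replace hi := iso_univ.symm.trans hi
  have := hi.choose.symm.nonempty
  obtain ⟨m, hm, q, -⟩ := ident_sp hZ (S.of_iso hi)
  obtain rfl : m = 3 := by omega
  have ma := mK a ha (.refl a)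
  obtain ⟨k1, ⟨k2⟩⟩ := sq_act φ (A := Inn Set.univ) (R := zpowers ⟨a, ma⟩) ((closure_le _).2 (by
    rintro _ ⟨x, -, rfl⟩
    exact ⟨⟨x, mK _ x.2.1 x.2.2.2⟩, Equiv.ext fun y => Subtype.ext (by rw [← hφ, T.inv x.2.1.1]; rfl)⟩))
    (zpowers_le.2 (Equiv.ext fun y => Subtype.ext (by rw [← hφ, y.2.2.2.eq, mul_inv_cancel_right]; rfl))) (by
      rw [h.card_Ka M ha, Nat.card_congr q.toEquiv, H11.card_sp, Nat.card_zpowers, ← orderOf_coe,
        orderOf_two (T.sq a ha.1) (T.ne a ha.1)]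
      simp [Finset.prod_range_succ])
  have nx := not_mem24 M ha.1
  have alt : ∀ g, g ∈ commutator G ∨ a * g ∈ commutator G := fun g => by
    rw [mul_mem_iff_of_index_two (index24 M)]; tauto
  obtain ⟨e1⟩ := prod_two (L := commutator G ⊓ K) (T.sq a ha.1) (fun k => nx k.1) ma inf_le_right
    (fun y hy => memC.1 hy.2.2) fun y hy => (alt y).imp (⟨·, hy⟩) (⟨·, mul_mem ma hy⟩)
  let ψ := φ.rangeRestrict.comp (inclusion (inf_le_right : commutator G ⊓ K ≤ K))
  have b : Function.Bijective ψ := ⟨(injective_iff_map_eq_one _).2 fun x hx => by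
    have := k1.le (congrArg Subtype.val hx)
    rcases (mem_zpowers_sq (Subtype.ext (T.sq a ha.1))).1 this with u | u
    exacts [Subtype.ext (congrArg Subtype.val u :), (nx ((show x.1 = a from congrArg Subtype.val u) ▸ x.2.1)).elim], by
    rintro ⟨_, x, rfl⟩
    rcases alt x with u | u
    · exact ⟨⟨x, u, x.2⟩, rfl⟩
    · exact ⟨⟨a * x, u, mul_mem ma x.2⟩, Subtype.ext ((φ.map_mul ⟨a, ma⟩ x).trans (by
        rw [MonoidHom.mem_ker.1 (k1.ge (mem_zpowers _)), one_mul]))⟩⟩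
  exact ⟨e1.trans (MulEquiv.prodCongr (.refl _) ((MulEquiv.ofBijective ψ b).trans (k2.trans (q.trans
    ((QuotientGroup.quotientMulEquivOfEq (center_sp 3)).trans QuotientGroup.quotientBot).symm))))⟩

end H9
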