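import Cfsg.Agent.H9.Pd3

/-! # Tetrad products swapping two transpositions of `M(24)` -/

set_option autoImplicit false
set_option maxRecDepth 100000

open Subgroup H26

namespace H9

open FQ

variable {G : Type*} [Group G] {D : Set G} {d e w a b c g x y z : G}

theorem S4c.mate (M : IsM H26.M24 G D) (h : S4c D d e w) (ha : a ∈ XX D d e w) (hb : b ∈ dcSet (XX D d e w) a)
    (hy : y ∈ dcSet (XX D d e w) a) (n : Dn b y) : ∃ y' ∈ dcSet (XX D d e w) a, Dn b y' ∧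
      RR D (w * vv d e w * (a * b)) y y' ∧
        ∀ c ∈ dcSet (XX D d e w) a, ¬ Commute b c → ¬ Commute y c → Commute y' c := by
  obtain ⟨m⟩ := Md.of M
  have T := M.tg
  obtain ⟨u, hu, ⟨u0, u1, u2, u3, u4, u5, -⟩, k⟩ := (h.at6' m ha hb hy n).add (31667, 2, [3,4,7,3]) [3,3,3,1,1,1]
    (by decide +kernel)
  obtain ⟨p, hp, ⟨p0, p1, -⟩, k'⟩ := k.add (297226, 7, [8,9,10,8,13,14]) [3,3] (by decide +kernel)
  obtain ⟨q, hq, ⟨q0, q1, q2, -⟩, k'⟩ := k'.add (297228, 0, [13,9,8,7,10,8,9,14]) [3,3,3] (by decide +kernel)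
  refine ⟨u, ⟨⟨hu, u3, u4, u5⟩, u2⟩, u1, ⟨[y, u, p, q], ⟨⟨by simp [hy.1.1, hu, hp, hq], ?_⟩, rfl, ?_⟩,
    by simp, by simp⟩, fun c hc c1 c2 => by_contra fun c3 => k.norm hc.1.1 [2,2,2,3,1,1,1]
      ⟨c3, c2, c1, hc.2, hc.1.2.1, hc.1.2.2.1, hc.1.2.2.2, trivial⟩ [] [] [] (by decide +kernel)⟩
  · simp only [List.pairwise_cons, List.forall_mem_cons]
    exact ⟨⟨u0, p1, q2, nofun⟩, ⟨p0, q1, nofun⟩, ⟨q0, nofun⟩, nofun, .nil⟩
  · simpa [pw, lt, vv, mul_assoc, T.inv h.1, T.inv h.2.1] using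
      k'.peq [3,2,1,0] [6,8,7,6,7,8,5,4] (by decide +kernel)

theorem S4c.nv (h : S4c D d e w) (p : Commute d (vv d e w)) (q : Commute e (vv d e w)) : False := by
  have : w = vv d e w := by
    rw [← mul_inv_cancel_right (vv d e w) (d * e)⁻¹, ← (p.mul_left q).inv_left.eq, vv]; group
  exact h.2.2.2.2.2 (this ▸ p)

theorem S4c.tet [TG D] (h : S4c D d e w) (ha : a ∈ XX D d e w) (hb : b ∈ dcSet (XX D d e w) a) :
    Tet D (w * vv d e w * (a * b)) [w, vv d e w, a, b] := by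
  obtain ⟨hw, h1, hv⟩ := Cl3.cons.1 h.cl
  have k : ∀ x ∈ XX D d e w, Dn w x ∧ Dn (vv d e w) x := fun x hx =>
    ⟨⟨fun q => h.2.2.2.2.2 (q ▸ hx.2.2.2), hx.2.1⟩, fun q => h.nv (q ▸ hx.2.2.2) (q ▸ hx.2.2.1),
      vv_comm hx.2.2.2 hx.2.2.1 hx.2.1⟩
  refine ⟨⟨by simp [hw, hv.1, ha.1, hb.1.1], ?_⟩, rfl, by simp [mul_assoc]⟩
  simp only [List.pairwise_cons, List.forall_mem_cons]
  exact ⟨⟨h1 _ (by simp), (k a ha).1, (k b hb.1).1, nofun⟩, ⟨(k a ha).2, (k b hb.1).2, nofun⟩, ⟨hb.2, nofun⟩,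
    nofun, .nil⟩

variable [H : T24 D z]

theorem card_O : {x | x ∈ D ∧ Dn x (z * x * z⁻¹)}.ncard = 48384 := by
  have T := H.m.tg
  have := H.m.finite
  have zz := T24.zz D z
  have br : ∀ {a b}, a ∈ D → b ∈ D → ¬ Commute a b → a * (b * a * b) * a = b := fun {a b} p q r => by
    rw [← T.braid p q r, show a * (a * b * a) * a = a * a * b * (a * a) by group, T.sq a p]; simp
  have c1 := ncard_mul_eq (fun x c => c = x * (z * x * z⁻¹) * x) (s := {x | x ∈ D ∧ ¬ Commute x (z * x * z⁻¹)})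
    (u := TT D z) (m := 1) (n := 512) (fun x ⟨hx, k⟩ => Set.ncard_eq_one.2 ⟨_, Set.ext fun c =>
      ⟨And.right, fun q => ⟨q ▸ ⟨T.conj x hx _ (T.conj_mem z hx), mul_inv_eq_iff_eq_mul.1 (by
        rw [← conj_mul, ← conj_mul, T.braid hx (T.conj_mem z hx) k,
          show z * (z * x * z⁻¹) * z⁻¹ = z * z * x * (z * z)⁻¹ by group, zz]; simp)⟩, q⟩⟩⟩) fun c hc => by
    obtain ⟨l, t⟩ := TT.ex hc
    obtain ⟨t1, t2, t3⟩ := t.tail
    match l, t2 with
    | [r, q, p], _ =>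
    rw [← n512 H.m t.1]
    have key : ∀ x, Commute [r, q, p].prod x ↔ z * x * z⁻¹ = c * x * c := fun x => by
      rw [← t3, mul_inv_rev, T.inv hc.1, ← mul_assoc, mul_left_inj, mul_assoc c, mul_assoc c, mul_right_inj,
        mul_inv_eq_iff_eq_mul]; rfl
    refine congrArg _ (Set.ext fun x => ⟨fun ⟨⟨hx, k⟩, e⟩ => ?_, fun ⟨hx, k, k1, k2, k3⟩ => ?_⟩)
    · have e' : x * c * x = z * x * z⁻¹ := by
        rw [e, show ∀ y, x * (x * y * x) * x = x * x * y * (x * x) from fun y => by group, T.sq x hx]; simp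
      have n : ¬ Commute x c := fun u => k (e' ▸ ((Commute.refl x).mul_right u).mul_right (.refl x))
      have := t1.comm_of (by simp) hx ((key x).2 (by rw [← e', T.braid hx hc.1 n]))
      exact ⟨hx, fun u => n u.symm, this r (by simp), this q (by simp), this p (by simp)⟩
    · have e := (key x).1 (by simpa using k1.mul_left (k2.mul_left k3))
      have := br hx hc.1 fun u => k u.symm
      refine ⟨⟨hx, fun u => k ?_⟩, by rw [e, this]⟩
      rw [e] at u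
      exact (this ▸ ((Commute.refl x).mul_right u).mul_right (.refl x)).symm
  have c2 := card_TT (D := D) (z := z)
  rw [(o6_BB (D := D) (z := z)).2.1] at c2
  have c3 : D.ncard = 306936 := H.m.ncard
  have e : D = (TT D z ∪ {x | x ∈ D ∧ Dn x (z * x * z⁻¹)}) ∪ {x | x ∈ D ∧ ¬ Commute x (z * x * z⁻¹)} := by
    ext x
    simp only [TT, Dn, Set.mem_union, Set.mem_ofPred_eq, commute_iff_eq z x, ← mul_inv_eq_iff_eq_mul]
    by_cases q : z * x * z⁻¹ = x <;> simp [q]; tauto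
  rw [e, Set.ncard_union_eq, Set.ncard_union_eq] at c3
  · omega
  · exact Set.disjoint_left.2 fun x p q => q.2.1 (mul_inv_eq_iff_eq_mul.2 p.2)
  · exact Set.disjoint_left.2 fun x p q => q.2 (p.elim (fun p => by rw [p.2.eq, mul_inv_cancel_right]) (·.2.2))

variable (hd : d ∈ D) (he : e ∈ D) (n : Dn d e) (h : Sw d e z)
include hd he n h

theorem Sw.dec : ∃ u a b, S4c D d e u ∧ a ∈ XX D d e u ∧ b ∈ dcSet (XX D d e u) a ∧ z = u * vv d e u * (a * b) :=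
  let ⟨x, hx, k⟩ := h.fix hd he n H.m (T24.zz D z)
  let ⟨u, a, q⟩ := h.four hd he n ⟨hx.1.1, k⟩ hx.1.2.2 hx.2.2
  ⟨u, a, x, q⟩

theorem Sw.card3 : Nat.card (centralizer {z} ⊓ centralizer {d} : Subgroup G) = 2 * 3317760 := by
  have T := H.m.tg
  have := card_orb (centralizer {z}) d (Y := {x | x ∈ D ∧ Dn x (z * x * z⁻¹)}) fun y => ⟨fun ⟨hy, k⟩ => ?_, ?_⟩
  · rw [card_O, card_H (D := D)] at this; omega
  · obtain ⟨g, hg⟩ := tr24 H.m _ _ (cl3_two hd he n) (cl3_two hy (T.conj_mem z hy) k) rfl (by simp)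
    simp only [List.map_cons, List.map_nil, List.cons.injEq, and_true] at hg
    obtain ⟨l, t⟩ := H.ex
    have : T24 D (g⁻¹ * z * g⁻¹⁻¹) := ⟨H.m, _, t.1.conj (fun g x => T.conj_mem g) g⁻¹, by simp [t.2.1],
      by rw [prod_map_conj, t.2.2]⟩
    have s : Sw d e (g⁻¹ * z * g⁻¹⁻¹) := by
      constructor
      · rw [← mul_left_inj g⁻¹, ← mul_right_inj g, ← mul_assoc g e, hg.1, ← hg.2]; group
      · rw [← mul_left_inj g⁻¹, ← mul_right_inj g, ← mul_assoc g d, hg.2,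
          show g * (g⁻¹ * z * g⁻¹⁻¹ * e * (g⁻¹ * z * g⁻¹⁻¹)⁻¹ * g⁻¹) = z * (g * e * g⁻¹) * z⁻¹ by group, hg.1,
          show z * (z * y * z⁻¹) * z⁻¹ = z * z * y * (z * z)⁻¹ by group, T24.zz D z]; simp
    obtain ⟨u, a, b, h1, h2, h3, e1⟩ := h.dec hd he n
    obtain ⟨u', a', b', h1', h2', h3', e2⟩ := s.dec hd he n
    obtain ⟨k, hk, rfl, rfl, rfl⟩ := h1.tr5 H.m h1' h2 h2' h3 h3'
    rw [← vv_conj hk, conj_mul, conj_mul, conj_mul, ← e1] at e2
    refine ⟨g * k, memC.2 (mul_inv_eq_iff_eq_mul.1 ?_).symm, ?_⟩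
    · rw [show g * k * z * (g * k)⁻¹ = g * (k * z * k⁻¹) * g⁻¹ by group, ← e2]; group
    · rw [show g * k * d * (g * k)⁻¹ = g * (k * d * k⁻¹) * g⁻¹ by group, ← (memK.1 hk).2.eq,
        mul_inv_cancel_right, hg.2]
  · rintro ⟨g, hg, rfl⟩
    refine ⟨T.conj_mem g hd, ?_⟩
    rw [show z * (g * d * g⁻¹) * z⁻¹ = z * g * d * (z * g)⁻¹ by group, (memC.1 hg).eq,
      show g * z * d * (g * z)⁻¹ = g * (z * d * z⁻¹) * g⁻¹ by group, h.1]
    exact n.conj g

theorem Sw.nzy (g : G) : g * (d * e) * g⁻¹ ≠ z * (d * e) := fun q => by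
  have T := H.m.tg
  refine T24.len (z := z) ((cl3_two he hd n.symm).conj (fun g x => T.conj_mem g) (d * g)) (by simp) ?_
  rw [prod_map_conj, List.prod_pair, show d * g * (d * e) * (d * g)⁻¹ = d * (g * (d * e) * g⁻¹) * d⁻¹ by group, q,
    n.2.eq, ← mul_assoc z, ← mul_assoc, mul_inv_cancel_right, ← h.2]
  rw [show z * e * z⁻¹ * (z * e) = z * (e * e) by group, T.sq e he, mul_one]

theorem Sw.card_R : 64 ≤ Nat.card (QQ D z ⊓ centralizer {d} : Subgroup G) := by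
  have T := H.m.tg
  have := H.m.finite
  have cy := (h.comm n).symm
  have j2 := jj hd he n
  have zz := T24.zz D z
  have c1 := card_orb (QQ D z) (d * e) (Y := {y | ∃ g ∈ QQ D z, g * (d * e) * g⁻¹ = y}) fun _ => .rfl
  have c2 := card_orb (QQ D z ⊓ centralizer {d * e}) d (Y := {y | ∃ g ∈ _, g * d * g⁻¹ = y}) fun _ => .rfl
  set W := QQ D z ⊓ centralizer {d * e}
  set O := {y | ∃ g ∈ QQ D z, g * (d * e) * g⁻¹ = y}
  have c3 : {y | ∃ g ∈ W, g * d * g⁻¹ = y}.ncard ≤ 2 := (Set.ncard_le_ncard (t := {d, e}) (by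
    rintro _ ⟨g, hg, rfl⟩
    rcases st_de hd he n (wt24 H.m) (memC.1 hg.2) with k | k
    exacts [.inl (by rw [← (memK.1 k).2.eq, mul_inv_cancel_right]), .inr k.1])).trans
      ((Set.ncard_insert_le ..).trans (by simp))
  have c4 := card_le_of_le (inf_le_inf_right (centralizer {d}) (inf_le_left : W ≤ _))
  have mW : ∀ y ∈ O, y * (d * e)⁻¹ ∈ W := by
    rintro _ ⟨g, hg, rfl⟩
    have m : g * (d * e) * g⁻¹ * (d * e)⁻¹ ∈ QQ D z := by
      simpa only [mul_assoc] using mul_mem hg (Q_conj (inv_mem hg) cy)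
    refine ⟨m, memC.2 ?_⟩
    have i : d * e * (g * (d * e) * g⁻¹ * (d * e)⁻¹) * (d * e)⁻¹ = (g * (d * e) * g⁻¹ * (d * e)⁻¹)⁻¹ := by
      rw [mul_assoc, mul_assoc _ (d * e)⁻¹, ← mul_inv_rev, j2, inv_one, mul_one, mul_inv_rev, conj_inv, inv_inv,
        inv_of_sq j2]
    generalize g * (d * e) * g⁻¹ * (d * e)⁻¹ = c at m i
    rcases Q_sq m with k | k
    · rw [inv_of_sq k] at i; exact mul_inv_eq_iff_eq_mul.1 i
    · refine absurd ?_ (h.nzy hd he n c⁻¹)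
      rw [inv_inv, mul_assoc, mul_inv_eq_iff_eq_mul.1 i, ← mul_assoc, ← mul_inv_rev, k, one_mul, inv_of_sq zz]
  have c5 : ((z * ·) '' O ∪ O).ncard ≤ (W : Set G).ncard := Set.ncard_le_ncard_of_injOn (· * (d * e)⁻¹) (by
    rintro _ (⟨y, hy, rfl⟩ | hy)
    exacts [mul_assoc z y _ ▸ mul_mem (⟨z_memQ, memC.2 cy.symm⟩ : z ∈ W) (mW y hy), mW _ hy])
    (mul_left_injective _).injOn
  rw [Set.ncard_union_eq (Set.disjoint_left.2 (by
      rintro _ ⟨_, ⟨g, hg, rfl⟩, rfl⟩ ⟨k, hk, q⟩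
      refine h.nzy hd he n (g⁻¹ * k) ?_
      rw [show g⁻¹ * k * (d * e) * (g⁻¹ * k)⁻¹ = g⁻¹ * (k * (d * e) * k⁻¹) * g by group, q, ← mul_assoc,
        ← (Q_le hg).inv_right.eq]
      group)), Set.ncard_image_of_injective O (mul_right_injective z), ← Nat.card_coe_set_eq (W : Set G)] at c5
  rw [card_Q] at c1
  have c6 : 128 ≤ Nat.card W := by
    by_contra! k
    have : O.ncard ≤ 63 := by change _ ≤ Nat.card W at c5; omega
    nlinarith
  nlinarith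

omit hd he in
theorem Sw.R_ea (ha : a ∈ QQ D z ⊓ centralizer {d}) (hb : b ∈ QQ D z ⊓ centralizer {d}) :
    Commute a b ∧ a * a = 1 := by
  have k : ∀ x y, Commute d x → Commute d y → Rj z x y → y = x := fun x y p q r =>
    r.resolve_right fun u => h.ne n (by simpa [u] using p.inv_right.mul_right q)
  have p := memC.1 ha.2
  have q := memC.1 hb.2
  exact ⟨mul_inv_eq_iff_eq_mul.1 (k _ _ q ((p.mul_right q).mul_right p.inv_right) (Q_comm ha.1 hb.1)),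
    k _ _ (.one_right d) (p.mul_right p) (Q_sq ha.1)⟩

variable (D d e z) in
/-- the tetrads meeting `C(d, e)` -/
def SS : Set (BB D z) := {y | ∃ x : TT D z, Commute d x ∧ Commute e x ∧ bk x = y}

instance : Cls (SS D d e z) := ⟨by
  rintro _ ⟨x, a, b, rfl⟩ _ ⟨y, p, q, rfl⟩
  exact ⟨t x y, (a.mul_right p).mul_right a, (b.mul_right q).mul_right b, bk_hom x y⟩⟩

theorem Sw.loc (y : SS D d e z) : IsSp (Dc y) 4 := by
  have T := H.m.tg
  have := H.m.finite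
  obtain ⟨_, ⟨x, hx⟩, x1, x2, rfl⟩ := y
  obtain ⟨u, a, hu, ha, hb, ez⟩ := h.four hd he n hx x1 x2
  have := tqX (D := D) (d := d) (e := e) (w := u)
  have := tq_dc ha
  have S := hu.isSp H.m ha
  have P := S.prim_sp (by decide)
  have := P.nontrivial
  obtain ⟨c, hc⟩ := P.conn.exists_adj ⟨x, hb⟩
  have nc := TQ.adj_iff.1 hc
  have := (P.mu_pos hc).to_subtype
  have k : Tet D z [u, vv d e u, a, x] := ez ▸ hu.tet ha hb
  have cz : ∀ y ∈ XX D d e u, Commute a y → Commute x y → Commute z y := fun y hy p q =>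
    ez ▸ (hy.2.1.mul_left (vv_comm hy.2.2.2 hy.2.2.1 hy.2.1)).mul_left (p.mul_left q)
  have nr : ∀ y, RR D z x y → Commute d y → Commute e y → y = a ∨ y = x := fun y r p q => by
    have := r.mem k (by simp)
    simp only [List.mem_cons, List.not_mem_nil, or_false] at this
    rcases this with rfl | rfl | v
    exacts [(hu.2.2.2.2.2 p).elim, (hu.nv p q).elim, v]
  refine ((isSp_mu S hc).to_sub.map (g := fun y => (⟨bk ⟨y.1.1, y.1.2.1.1, cz _ y.1.2.1 y.1.2.2.2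
    (TQ.mem_Dc.1 y.2.1).2⟩, _, y.1.2.1.2.2.2, y.1.2.1.2.2.1, rfl⟩ : SS D d e z)) (fun _ _ => rfl)
    fun y y' ee => ?_).of_eq (Set.ext fun b => ⟨?_, fun hb' => ?_⟩)
  · obtain ⟨l, t, m1, m2⟩ := bk_eq.1 (congrArg Subtype.val ee)
    by_contra ne
    obtain ⟨p, q, t⟩ := t.head2 m1 m2 fun e => ne (Subtype.ext (Subtype.ext e))
    have y1 := TQ.mem_Dc.1 y.2.1
    have ca := t.all hx (by simp : y.1.1 ∈ _) y1.2.symm
    have nx : ∀ v ∈ [y.1.1, y'.1.1, p, q], Dn x v := fun v hv => ⟨fun e => by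
      rcases nr y.1.1 ⟨_, t, e ▸ hv, by simp⟩ y.1.2.1.2.2.2 y.1.2.1.2.2.1 with w | w
      exacts [y.1.2.2.1 w, y1.1 w], (ca v hv).symm⟩
    have t' := t.1.right (u := [_, _])
    simp only [Cl3.cons, List.forall_mem_cons] at t'
    refine nc (comm3 hx.1 t'.1 t'.2.2.1 c.2.1.1 (nx p (by simp)) (nx q (by simp)) t'.2.1.1 ?_).1
    have e1 : y.1.1 * y'.1.1 * (p * q) = u * vv d e u * (a * x) := by simpa [mul_assoc] using t.2.2.trans ez
    have c1 := (TQ.mem_Dc.1 y.2.2).2.mul_right (TQ.mem_Dc.1 y'.2.2).2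
    have c2 := (c.2.1.2.1.mul_left (vv_comm c.2.1.2.2.2 c.2.1.2.2.1 c.2.1.2.1)).mul_left c.2.2.2
    have : x * p * q = (y.1.1 * y'.1.1)⁻¹ * (u * vv d e u * a) := by
      rw [eq_inv_mul_iff_mul_eq, mul_assoc x, ((nx p (by simp)).2.mul_right (nx q (by simp)).2).eq, ← mul_assoc, e1,
        mul_assoc, mul_assoc a, T.sq x hx.1, mul_one]
    rw [this]
    exact c1.symm.inv_left.mul_left c2
  · rintro ⟨y, -, rfl⟩
    have y1 := TQ.mem_Dc.1 y.2.1
    refine ⟨fun e => ?_, cm_coe.2 (bk_cm.2 y1.2)⟩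
    rcases nr _ (bk_eq.1 (congrArg Subtype.val e)).symm y.1.2.1.2.2.2 y.1.2.1.2.2.1 with w | w
    exacts [y.1.2.2.1 w, y1.1 w]
  · obtain ⟨_, y, y1, y2, rfl⟩ := b
    have cy := bk_cm.1 (cm_coe.1 hb'.2)
    have ca := k.all y.2 (by simp : x ∈ _) cy
    have ne : ∀ v ∈ [u, vv d e u, a, x], Dn v y := fun v hv =>
      ⟨fun e => hb'.1 (Subtype.ext (bk_eq.2 ⟨_, k, e ▸ hv, by simp⟩)), ca v hv⟩
    have my : y.1 ∈ dcSet (XX D d e u) a := ⟨⟨y.2.1, ca u (by simp), y2, y1⟩, ne a (by simp)⟩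
    have nx := ne x (by simp)
    by_cases cc : Commute y.1 c
    · exact ⟨⟨⟨y, my⟩, TQ.mem_Dc.2 nx, TQ.mem_Dc.2 ⟨fun e => nc (e ▸ nx.2), cc.symm⟩⟩, trivial, rfl⟩
    obtain ⟨y', m', n', r, s⟩ := hu.mate H.m ha hb my nx
    exact ⟨⟨⟨y', m'⟩, TQ.mem_Dc.2 n', TQ.mem_Dc.2 ⟨fun e => nc (e ▸ n'.2), (s c c.2 nc cc).symm⟩⟩, trivial,
      Subtype.ext (bk_eq.2 (ez ▸ r.symm))⟩

omit H hd he n h in
theorem o6m_of {P : Type*} [Group P] {E : Set P} [TG E] [Finite E] (hZ : center P = ⊥) (hP : Prim E)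
    (hl : ∀ y : E, IsSp (Dc y) 4) (h7 : ¬ 7 ∣ Nat.card P) :
    Nonempty (P ≃* Cfsg.isometryGroup (ZMod 2) (Cfsg.quadFormMinus 2 (ZMod 2) 1 1)) := by
  have := hP.nontrivial
  obtain ⟨y⟩ : Nonempty E := inferInstance
  have := (hP.exists_Dc y).to_subtype
  have g := ((hl y).to_sub.prim_sp (by decide)).gd
  have k : ∀ m, 3 ≤ m → 7 ∣ ∏ i ∈ Finset.range m, (2 ^ (2 * (i + 1)) - 1) := fun m hm =>
    Dvd.dvd.trans (by decide) (Finset.dvd_prod_of_mem _ (Finset.mem_range.2 (by omega : 2 < m)))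
  rcases (pf_of_loc hP hl).classify hP g.vt g.wt with ⟨n, hn, s⟩ | ⟨n, hn, s⟩
  · obtain ⟨e, -⟩ := ident_T hZ s (by omega)
    rw [Nat.card_congr e.toEquiv, Nat.card_perm, Nat.card_fin] at h7
    exact (h7 (Nat.dvd_factorial (by decide) hn)).elim
  rcases ident_o2 hZ s hn with ⟨m, hm, e, -⟩ | ⟨m, hm, e, -⟩ <;> rw [Nat.card_congr e.toEquiv] at h7
  · obtain ⟨m, rfl⟩ : ∃ k, m = k + 1 := ⟨m - 1, by omega⟩
    rw [H11.card_O_plus, ZMod.card] at h7
    rcases (by omega : m = 2 ∨ 3 ≤ m) with rfl | q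
    exacts [(h7 (Dvd.dvd.mul_right (by decide) _)).elim, (h7 ((k m q).mul_left _)).elim]
  · rcases (by omega : m = 2 ∨ 3 ≤ m) with rfl | q
    · exact ⟨e⟩
    rw [H11.card_O_minus _ (by decide), ZMod.card] at h7
    exact (h7 ((k m q).mul_left _)).elim

theorem Sw.third {C : Type*} [Group C] (ψ : (centralizer {z} ⊓ centralizer {d} : Subgroup G) →* C)
    (hs : Function.Surjective ψ) (hk : ∀ k, ψ k = 1 ↔ k.1 = 1 ∨ k.1 = d * e) :
    Nat.card C = 3317760 ∧ Cfsg.IsElementaryAbelian 2 (Cfsg.pCore 2 C) ∧ Nat.card (Cfsg.pCore 2 C) = 64 ∧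
      ∃ φ : C →* Cfsg.isometryGroup (ZMod 2) (Cfsg.quadFormMinus 2 (ZMod 2) 1 1),
        Function.Surjective φ ∧ φ.ker = Cfsg.pCore 2 C := by
  have T := H.m.tg
  have := H.m.finite
  have := Finite.of_surjective ψ hs
  let K := centralizer {z} ⊓ centralizer {d}
  have ce : ∀ k ∈ K, Commute e k := fun k hk => h.1 ▸
    ((memC.1 hk.1).mul_left (memC.1 hk.2)).mul_left (memC.1 hk.1).inv_left
  have mj : d * e ∈ K := ⟨memC.2 (h.comm n).symm, memC.2 ((Commute.refl d).mul_right n.2)⟩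
  have c0 : Nat.card C = 3317760 := by
    have c1 := ψ.ker.card_mul_index
    rw [index_ker, MonoidHom.range_eq_top.2 hs, card_top, h.card3 hd he n, show ψ.ker = zpowers ⟨_, mj⟩ from
      Subgroup.ext fun k => by
        rw [MonoidHom.mem_ker, hk, mem_zpowers_sq (Subtype.ext (jj hd he n)), Subtype.ext_iff, Subtype.ext_iff]; rfl,
      Nat.card_zpowers, ← orderOf_coe, orderOf_two (jj hd he n) fun q => n.1 ((T.mul_eq_one he).1 q).symm] at c1
    omega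
  obtain ⟨θ, hθ⟩ := exists_act (D := D) (z := z)
  have t1 : ∀ (k : K) (x : TT D z), θ ⟨k, k.2.1⟩ (bk x) = bk ⟨_, TT.conj x.2 (memC.1 k.2.1)⟩ := fun k x =>
    (hθ _ _ _).2 (RR.refl (TT.conj x.2 (memC.1 k.2.1)))
  let _ : MulAction K (SS D d e z) :=
    { smul := fun k y => ⟨θ ⟨k, k.2.1⟩ y, by
        obtain ⟨_, x, a, b, rfl⟩ := y
        exact ⟨_, ((memC.1 k.2.2).mul_right a).mul_right (memC.1 k.2.2).inv_right,
          ((ce k k.2).mul_right b).mul_right (ce k k.2).inv_right, (t1 k x).symm⟩⟩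
      one_smul := fun y => Subtype.ext (DFunLike.congr_fun θ.map_one y.1)
      mul_smul := fun a b y => Subtype.ext (DFunLike.congr_fun (θ.map_mul ⟨a, a.2.1⟩ ⟨b, b.2.1⟩) y.1) }
  have t2 : ∀ k : K, (∀ x ∈ TT D z, Commute d x → Commute e x → RR D z (k * x * k.1⁻¹) x) →
      MulAction.toPermHom K (SS D d e z) k = 1 := fun k q => Equiv.ext <| by
    rintro ⟨_, x, a, b, rfl⟩
    exact Subtype.ext ((hθ _ _ _).2 (q x x.2 a b))
  let φ := ψ.liftOfSurjective hs ⟨MulAction.toPermHom K (SS D d e z), fun k q => t2 k fun x hx a b => by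
    rcases (hk k).1 q with u | u <;> rw [u]
    exacts [by simpa using RR.refl hx, by simpa only [(a.mul_left b).eq, mul_inv_cancel_right] using RR.refl hx]⟩
  have hφ : ∀ k, φ (ψ k) = MulAction.toPermHom K (SS D d e z) k := fun k =>
    MonoidHom.liftOfRightInverse_comp_apply ..
  have le : QQ D z ⊓ centralizer {d} ≤ K := fun r hr => ⟨memC.2 (Q_le hr.1), hr.2⟩
  obtain ⟨u, a, b, hu, ha, hb, ez⟩ := h.dec hd he n
  have k : Tet D z [u, vv d e u, a, b] := ez ▸ hu.tet ha hb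
  have i : Function.Injective (ψ.comp (inclusion le)) := (injective_iff_map_eq_one _).2 fun r q =>
    Subtype.ext (((hk _).1 q).resolve_right fun v => hu.2.2.2.2.2 (comm2 hd he hu.2.2.1 n
      (Q_semi (show d * e ∈ QQ D z from v ▸ r.2.1) ⟨_, k, (by simp : a ∈ _), by simp⟩
        (ha.2.2.2.mul_left ha.2.2.1))).1)
  have c1 := h.card_R hd he n
  rw [Nat.card_congr (MonoidHom.ofInjective i).toEquiv] at c1
  let y : SS D d e z := ⟨bk ⟨a, k.mem (by simp)⟩, _, ha.2.2.2, ha.2.2.1, rfl⟩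
  have l : ∀ y : SS D d e z, Gd (Dc y) := fun y => by
    have s := h.loc hd he n y
    have : Nonempty (Dc y) := by
      obtain ⟨C, hC, f, hf⟩ := s
      exact ⟨⟨_, hf.mem (v := Pi.single 0 1) ⟨by simp, H11.alt_N _⟩⟩⟩
    exact (s.to_sub.prim_sp (by decide)).gd
  have : Nonempty (SS D d e z) := ⟨y⟩
  have g := gd_of_loc l
  have := g.nontrivial
  have P := prim_Cc l y
  obtain ⟨E, _, hi, hZ⟩ := inn_quot g.conn.noIso (Cc y) P.noIso
  have hA : Inn (Cc y) ≤ φ.range := (closure_le _).2 <| by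
    rintro _ ⟨⟨_, x, p, q, rfl⟩, -, rfl⟩
    refine ⟨ψ ⟨x, memC.2 x.2.2, memC.2 p⟩, (hφ _).trans (Equiv.ext ?_)⟩
    rintro ⟨_, v, -, -, rfl⟩
    exact Subtype.ext ((t1 _ v).trans ((congrArg bk (Subtype.ext (by simp [T.inv x.2.1]))).trans (bk_hom x v)))
  have : Finite (Inn (Cc y)) := .of_injective _ (inclusion_injective hA)
  obtain ⟨f, hf⟩ := hi
  have PE := P.of_iso ⟨f, hf⟩
  have := PE.nontrivial
  obtain ⟨q⟩ := o6m_of hZ PE (fun v => by
    obtain ⟨v, rfl⟩ := f.surjective v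
    have := (P.exists_Dc v).to_subtype
    have := (l v.1).ne
    exact hf.image_Dc v ▸ ((h.loc hd he n v.1).of_iso' (Cc.iso_Dc v).symm).map hf f.injective) fun q => by
      have := (q.trans (card_quotient_dvd_card _)).trans ((card_dvd_of_le hA).trans (card_range_dvd φ))
      rw [c0] at this; omega
  have c2 := H11.card_O_minus (F := ZMod 2) 2 (a := 1) (b := 1) (by decide)
  simp only [ZMod.card, Finset.prod_range_succ, Finset.range_zero, Finset.prod_empty] at c2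
  obtain ⟨k1, ⟨k2⟩⟩ := sq_act φ (R := (ψ.comp (inclusion le)).range) hA (by
    rintro _ ⟨r, rfl⟩
    exact (hφ _).trans (t2 _ fun x hx _ _ => (Q_bk r.2.1 hx).symm))
    (by rw [c0, Nat.card_congr q.toEquiv, c2]; omega)
  have ea : Cfsg.IsElementaryAbelian 2 φ.ker := k1 ▸ ⟨⟨⟨by
    rintro ⟨_, r, rfl⟩ ⟨_, s, rfl⟩
    exact Subtype.ext ((show Commute r s from Subtype.ext (h.R_ea n r.2 s.2).1).map _)⟩⟩, by
    rintro _ ⟨r, rfl⟩
    rw [← map_pow, pow_two, show r * r = 1 from Subtype.ext (h.R_ea n r.2 r.2).2, map_one]⟩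
  have s1 := k2.surjective.comp φ.rangeRestrict_surjective
  have e1 : φ.ker = Cfsg.pCore 2 C := le_antisymm (H1.le_pCore inferInstance fun x =>
    ⟨1, Subtype.ext (ea.2 x x.2)⟩) fun x hx => by
      have := (pCore_two_le_center_iff PE.conn.exists_adj).2 PE.gd.vt
        (H1.map_pCore_le (f := k2.toMonoidHom.comp φ.rangeRestrict) s1 ⟨x, hx, rfl⟩)
      rw [hZ] at this
      exact congrArg Subtype.val (k2.map_eq_one_iff.1 this)
  have c3 := φ.ker.card_mul_index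
  rw [index_ker, Nat.card_congr (k2.trans q).toEquiv, c2, c0, e1] at c3
  refine ⟨c0, e1 ▸ ea, by omega, (k2.trans q).toMonoidHom.comp φ.rangeRestrict, q.surjective.comp s1, ?_⟩
  rw [← e1, MonoidHom.ker_comp_of_injective _ _ (k2.trans q).injective, MonoidHom.ker_rangeRestrict]

end H9
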