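import Cfsg.Agent.H9.Lk5

/-! # Coordinates for centralizers `2^{1+12}.3.U₄(3).[≤ 4]` -/

set_option autoImplicit false
set_option maxRecDepth 100000
set_option linter.unusedSectionVars false

open Subgroup Module
open scoped commutatorElement

namespace H9.Fv

open H16 H0.TR H9.Lf0 H19 H0

variable {G : Type*} [Group G]

/-- coordinates for the centralizer of `z` -/
structure F0 (Q : Subgroup G) (z x : G) (π : G → V) (ρ : G → Equiv.Perm V) : Prop where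
  le : LE Q z
  add : ∀ a ∈ Q, ∀ b ∈ Q, π (a * b) = π a + π b
  ker : ∀ a ∈ Q, π a = 0 ↔ a = 1 ∨ a = z
  surj : ∀ v, ∃ a ∈ Q, π a = v
  sq : ∀ a ∈ Q, a * a = 1 ↔ qf (π a) = 0
  cm : ∀ a ∈ Q, ∀ b ∈ Q, a * b = b * a ↔ bf (π a) (π b) = 0
  mul : ∀ g ∈ C[z], ∀ h ∈ C[z], ρ (g * h) = ρ g * ρ h
  conj : ∀ g ∈ C[z], ∀ a ∈ Q, π (g * a * g⁻¹) = ρ g (π a)
  mem : ∀ g ∈ C[z], ρ g ∈ WT
  onto : ∀ m ∈ MM, ∃ g ∈ C[z], ρ g = m
  xm : x ∈ C[z]
  x3 : x ^ 3 = 1
  rx : ρ x = om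
  u43 : U43

theorem exists_F0 [Finite G] {z : G} {Q : Subgroup C[z]} (le : LE (Q.map C[z].subtype) z)
    (hc : Nat.card Q = 2 ^ (2 * 6 + 1)) {N M : Subgroup C[z]} [N.Normal] [M.Normal] (hQN : Q ≤ N) (hNM : N ≤ M)
    (hN : Nat.card N = 3 * Nat.card Q) {K : Type} [Field K] [Fintype K] (hK : Fintype.card K = 9)
    (e : M ⧸ N.subgroupOf M ≃* Cfsg.PSU 4 K 3) :
    ∃ x π ρ, F0 (Q.map C[z].subtype) z x π ρ ∧ ∀ g : C[z], ρ g ∈ MM ↔ g ∈ M := by
  classical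
  have ie := Q.equivMapOfInjective _ C[z].subtype_injective
  obtain ⟨E, _, _, π, ρ, q, m⟩ := le.es.exists_model
  have mQ : ∀ {a : C[z]}, a ∈ Q ↔ (a : G) ∈ Q.map C[z].subtype := (mem_map_iff_mem C[z].subtype_injective).symm
  have cE : Nat.card E = 4096 := by
    have := m.card_eq
    rw [← Nat.card_congr ie.toEquiv, hc, Nat.pow_right_inj (by decide)] at this
    have f : Module.Finite (ZMod 2) E := Module.finite_of_finrank_pos (by omega)
    rw [Module.natCard_eq_pow_finrank (K := ZMod 2), Nat.card_zmod, show finrank (ZMod 2) E = 12 by omega]; rfl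
  have : Finite E := Nat.finite_of_card_ne_zero (by rw [cE]; decide)
  let ρ' : C[z] →* Equiv.Perm E := (MulAction.toPermHom (End (ZMod 2) E)ˣ E).comp
    (ρ.toHomUnits.comp (inclusion le.norm))
  have hρ : ∀ g e, ρ' g e = ρ ⟨g, le.norm g.2⟩ e := fun _ _ => rfl
  have cj : ∀ g : C[z], ∀ a ∈ Q.map C[z].subtype, π (g * a * (g : G)⁻¹) = ρ' g (π a) := fun g a ha =>
    m.sec.conj ⟨g, le.norm g.2⟩ a ha
  have kr : ∀ g, ρ' g = 1 ↔ g ∈ Q := fun g => by
    refine ⟨fun k => mQ.2 (le.mem_of_triv g.2 fun a ha => (m.mem_ker ⟨g, le.norm g.2⟩ ha).1 ?_),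
      fun k => Equiv.ext fun v => ?_⟩
    · rw [LinearMap.mem_ker, LinearMap.sub_apply, ← hρ, k]; simp
    · obtain ⟨a, ha, rfl⟩ := m.sec.surj v
      rw [← cj g a ha, m.sec.add _ (mul_mem (mQ.1 k) ha) _ (inv_mem (mQ.1 k)), m.sec.add _ (mQ.1 k) _ ha,
        add_right_comm, ← m.sec.add _ (mQ.1 k) _ (inv_mem (mQ.1 k)), mul_inv_cancel,
        (m.sec.ker 1 (one_mem _)).2 (one_mem _), zero_add]; rfl
  have : Fact (Nat.Prime 3) := ⟨Nat.prime_three⟩
  obtain ⟨x, hx⟩ := exists_prime_orderOf_dvd_card' (G := N) 3 (hN ▸ dvd_mul_right _ _)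
  have x3 : (x : C[z]) ^ 3 = 1 := by rw [← hx, ← coe_pow, pow_orderOf_eq_one]; rfl
  have xQ : ρ' x ≠ 1 := fun k => by
    have h1 : orderOf x ∣ Nat.card Q := by
      rw [← orderOf_coe]; exact orderOf_dvd_natCard _ ((kr _).1 k)
    rw [hx, hc] at h1; revert h1; decide
  have ox : orderOf (ρ' x) = 3 := orderOf_eq_prime (by rw [← map_pow, x3, map_one]) xQ
  have hNx : N.map ρ' = zpowers (ρ' x) := by
    refine (eq_of_le_of_card_ge (zpowers_le.2 (mem_map_of_mem _ x.2)) ?_).symm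
    have := (ρ'.comp N.subtype).ker.card_mul_index
    rw [index_ker, MonoidHom.range_comp, range_subtype, ← MonoidHom.comap_ker, show ρ'.ker = Q from ext kr,
      comap_subtype,
      Nat.card_congr (subgroupOfEquivOfLe hQN).toEquiv, hN, mul_comm, mul_left_inj' Nat.card_pos.ne'] at this
    rw [this, Nat.card_zpowers, ox]
  have kN : ∀ g ∈ N, ∃ k < 3, ρ' g = ρ' x ^ k := fun g hg => by
    obtain ⟨k, hk, e⟩ := Finset.mem_image.1 (mem_zpowers_iff_mem_range_orderOf.1 (hNx ▸ mem_map_of_mem ρ' hg))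
    exact ⟨k, ox ▸ Finset.mem_range.1 hk, e.symm⟩
  let f := ρ'.subgroupMap M
  let φ₀ : M →* Cfsg.PSU 4 K 3 := e.toMonoidHom.comp (QuotientGroup.mk' _)
  have kφ : ∀ g : M, φ₀ g = 1 ↔ g.1 ∈ N := fun g => by simp [φ₀, mem_subgroupOf]
  let φ := f.liftOfSurjective (ρ'.subgroupMap_surjective M) ⟨φ₀, fun g k =>
    (kφ g).2 (hQN ((kr _).1 (congrArg Subtype.val k)))⟩
  have hφ : ∀ g, φ (f g) = φ₀ g := fun g => f.liftOfRightInverse_comp_apply _ _ _ g
  have sφ : Function.Surjective φ := fun y => by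
    obtain ⟨g, rfl⟩ := (e.surjective.comp (QuotientGroup.mk'_surjective _)) y
    exact ⟨f g, hφ g⟩
  let x' : M.map ρ' := f ⟨x, hNM x.2⟩
  have k1 : ∀ g, φ g = 1 → ∃ k < 3, g = x' ^ k := fun g k => by
    obtain ⟨g, rfl⟩ := ρ'.subgroupMap_surjective M g
    obtain ⟨k, hk, e⟩ := kN _ ((kφ g).1 ((hφ g).symm.trans k))
    exact ⟨k, hk, Subtype.ext e⟩
  have k2 : φ x' = 1 := (hφ _).trans ((kφ _).2 x.2)
  have cx : ∀ g : C[z], ρ' g * ρ' x * (ρ' g)⁻¹ = ρ' x ∨ ρ' g * ρ' x * (ρ' g)⁻¹ = ρ' x ^ 2 := fun g => by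
    obtain ⟨k, hk, e⟩ := kN _ (‹N.Normal›.conj_mem _ x.2 g)
    simp only [map_mul, map_inv] at e
    interval_cases k
    · exact absurd (by simpa using e) xQ
    · exact Or.inl (by simpa using e)
    · exact Or.inr e
  obtain ⟨_, cP, b, a, u, s, t, f1⟩ := exists_f1 K hK
  have rp : RP (M.map ρ').subtype q φ x' := ⟨fun e => by rw [← two_smul (ZMod 2) e]; exact zero_smul _ e, cE,
    fun a b c => by
      have := q.polar_add_left a b c
      simp only [QuadraticMap.polar, sub_eq_add_neg, ZMod.neg_eq_self_mod_two] at this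
      exact this,
    fun a k => m.nd a fun b => by
      have := k b
      rwa [← ZMod.neg_eq_self_mod_two (q a), ← ZMod.neg_eq_self_mod_two (q b), ← sub_eq_add_neg,
        ← sub_eq_add_neg] at this,
    fun ⟨_, g, _, e⟩ a b => e ▸ map_add (ρ _) a b, fun ⟨_, g, _, e⟩ a => e ▸ m.rho_q _ a,
    Subtype.val_injective, sφ, k1, k2, Subtype.ext (by rw [coe_pow]; exact ox ▸ pow_orderOf_eq_one _),
    fun e => xQ (congrArg Subtype.val e), fun g => by
      have := sq_top sφ f1.b3 f1.b1 (K := C[x']) fun ⟨_, g, hg, rfl⟩ => mem_cent1.2 (Subtype.ext (by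
        change ρ' g * ρ' g * ρ' x = ρ' x * (ρ' g * ρ' g)
        rw [← mul_inv_eq_iff_eq_mul, mul_inv_rev, show ρ' g * ρ' g * ρ' x * ((ρ' g)⁻¹ * (ρ' g)⁻¹) =
          ρ' g * (ρ' g * ρ' x * (ρ' g)⁻¹) * (ρ' g)⁻¹ by simp only [mul_assoc]]
        rcases cx g with e | e
        · rw [e, e]
        · rw [e, ← conj_pow, e, ← pow_mul, show 2 * 2 = 3 + 1 from rfl, pow_succ, ← ox,
            pow_orderOf_eq_one, one_mul]))
      obtain ⟨c, hc, e⟩ := this.ge (mem_top (φ g))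
      obtain ⟨k, -, e⟩ := k1 (c⁻¹ * g) (by simp [e])
      rw [inv_mul_eq_iff_eq_mul.1 e]
      exact (show Commute x' c from (mem_cent1.1 hc).symm).mul_right (Commute.self_pow _ _)⟩
  have cΓ : Nat.card (M.map ρ') = 9797760 := by
    have := φ.ker.card_mul_index
    rw [index_ker, MonoidHom.range_eq_top.2 sφ, card_top, cP, show φ.ker = zpowers x' from
      le_antisymm (fun g k => let ⟨k, _, e⟩ := k1 g k; e ▸ npow_mem_zpowers _ _) (zpowers_le.2 k2),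
      Nat.card_zpowers, ← orderOf_coe, show orderOf (x' : Equiv.Perm E) = 3 from ox] at this
    exact this.symm
  obtain ⟨ψ, q1, q2, q3⟩ := rp.model cΓ f1
  let θ : C[z] →* Equiv.Perm V := ψ.toEquiv.symm.permCongrHom.toMonoidHom.comp ρ'
  have hθ : ∀ g v, ρ' g (ψ v) = ψ (θ g v) := fun g v => by simp [θ]
  have θx : θ x = om := Equiv.ext fun v => ψ.injective ((hθ _ _).symm.trans (q2 v))
  have θM : ∀ g, θ g ∈ MM ↔ g ∈ M := fun g => by
    refine ⟨fun k => ?_, fun k => (q3 _).2 ⟨f ⟨g, k⟩, hθ g⟩⟩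
    obtain ⟨⟨_, c, hc, rfl⟩, e⟩ := (q3 _).1 k
    have : ρ' (c⁻¹ * g) = 1 := by
      rw [map_mul, map_inv, inv_mul_eq_one]
      exact Equiv.ext fun v => by obtain ⟨v, rfl⟩ := ψ.surjective v; exact (e v).trans (hθ _ _).symm
    simpa using mul_mem hc (hNM (hQN ((kr _).1 this)))
  have θo : ∀ m ∈ MM, ∃ g ∈ M, θ g = m := fun m hm =>
    let ⟨⟨_, c, hc, e⟩, e'⟩ := (q3 _).1 hm
    ⟨c, hc, Equiv.ext fun v => ψ.injective ((hθ _ _).symm.trans (e ▸ e' v))⟩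
  have θn : ∀ g, ∀ m ∈ MM, θ g * m * (θ g)⁻¹ ∈ MM := fun g m hm => by
    obtain ⟨c, hc, rfl⟩ := θo m hm
    rw [← map_inv, ← map_mul, ← map_mul, θM]; exact ‹M.Normal›.conj_mem _ hc _
  have θW : ∀ g, θ g ∈ WT := fun g => mem_WT_of ⟨fun u v => ψ.injective (by
      rw [← hθ, map_add ψ, map_add ψ, ← hθ, ← hθ]; exact map_add (ρ _) _ _), fun v => by
      rw [← q1, ← q1, ← hθ]; exact m.rho_q _ _⟩ (by
      refine (cx g).imp (fun e v => ?_) fun e v => ?_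
      all_goals
        have := congrArg ψ.toEquiv.symm.permCongrHom e
        simp only [map_mul, map_inv, map_pow] at this
        change θ g * θ x * (θ g)⁻¹ = _ at this
        have := DFunLike.congr_fun (mul_inv_eq_iff_eq_mul.1 this) v
      · change θ g (θ x v) = θ x (θ g v) at this; rwa [θx] at this
      · change θ g (θ x v) = θ x (θ x (θ g v)) at this
        rwa [θx, om_apply, om_apply, om_apply, smul_smul, ← sq] at this) (θn g)
      fun m hm => by simpa using θn g⁻¹ m hm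
  refine ⟨((x : C[z]) : G), fun a => ψ.symm (π a), fun g => if h : g ∈ C[z] then θ ⟨g, h⟩ else 1, ⟨le,
    fun a ha b hb => by rw [m.sec.add a ha b hb, map_add], fun a ha => by
      rw [map_eq_zero_iff _ ψ.symm.injective, m.sec.ker a ha, le.es.mem_zp],
    fun v => let ⟨a, ha, e⟩ := m.sec.surj (ψ v); ⟨a, ha, by simp [e]⟩,
    fun a ha => by rw [← q1, ψ.apply_symm_apply, m.N0 ha], fun a ha b hb => ?_,
    fun g hg h hh => by rw [dif_pos hg, dif_pos hh, dif_pos (mul_mem hg hh), ← map_mul]; rfl,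
    fun g hg a ha => ψ.injective (by rw [dif_pos hg, ← hθ]; simpa using cj ⟨g, hg⟩ a ha),
    fun g hg => by rw [dif_pos hg]; exact θW _,
    fun m hm => let ⟨g, _, e⟩ := θo m hm; ⟨g, g.2, by rw [dif_pos g.2]; exact e⟩,
    x.1.2, congrArg Subtype.val x3, by rw [dif_pos x.1.2]; exact θx,
    K, inferInstance, inferInstance, hK, ?_⟩, fun g => by simp only [dif_pos g.2]; exact θM g⟩
  · have := qf_add (ψ.symm (π a)) (ψ.symm (π b))
    rw [← q1, ← q1, ← q1, map_add, ψ.apply_symm_apply, ψ.apply_symm_apply] at this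
    rw [← m.B0 ha hb, QuadraticMap.polar, this]
    constructor <;> intro h <;> linear_combination h
  · let f' : M →* MM := (θ.comp M.subtype).codRestrict MM fun g => (θM _).2 g.2
    have s' : Function.Surjective f' := fun m => let ⟨g, hg, e⟩ := θo m.1 m.2; ⟨⟨g, hg⟩, Subtype.ext e⟩
    have i : ∀ {g h}, θ g = θ h → ρ' g = ρ' h := fun e => ψ.toEquiv.symm.permCongrHom.injective e
    let φ' := f'.liftOfSurjective s' ⟨φ₀, fun g k => (kφ g).2 (hQN ((kr _).1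
      ((i ((congrArg Subtype.val k).trans (map_one θ).symm)).trans (map_one _))))⟩
    have hφ' : ∀ g, φ' (f' g) = φ₀ g := fun g => f'.liftOfRightInverse_comp_apply _ _ _ g
    refine ⟨φ', fun y => ?_, fun m => ?_⟩
    · obtain ⟨g, rfl⟩ := (e.surjective.comp (QuotientGroup.mk'_surjective _)) y
      exact ⟨f' g, hφ' g⟩
    · obtain ⟨g, rfl⟩ := s' m
      rw [hφ', kφ, ← θx, ← MonoidHom.map_zpowers]
      refine ⟨fun k => ?_, fun ⟨y, hy, k⟩ => ?_⟩
      · obtain ⟨k, -, e⟩ := kN _ k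
        exact ⟨_, npow_mem_zpowers _ k, (congrArg ψ.toEquiv.symm.permCongrHom
          ((map_pow ρ' _ _).trans e.symm) :)⟩
      · have : ρ' (y⁻¹ * g) = 1 := by rw [map_mul, map_inv, inv_mul_eq_one]; exact i k
        simpa using mul_mem (zpowers_le.2 x.2 hy) (hQN ((kr _).1 this))


attribute [local irreducible] MM rh tau HB E0

theorem index_WT : MM.relIndex WT = 4 := by
  have := (MM.subgroupOf WT).index_mul_card
  rw [card_WT, Nat.card_congr (subgroupOfEquivOfLe (show MM ≤ WT from fun _ => MM_WT)).toEquiv, card_MM] at this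
  exact Nat.eq_of_mul_eq_mul_right (by decide) this

theorem card_le4 {K : Subgroup (Equiv.Perm V)} (hK : K ≤ WT) : Nat.card K ≤ 4 * Nat.card ↥(K ⊓ MM) := by
  have a := relIndex_le_of_le_right (H := MM) hK (by rw [index_WT]; decide)
  have b := (MM.subgroupOf K).card_mul_index
  rw [← inf_subgroupOf_left, Nat.card_congr (subgroupOfEquivOfLe inf_le_left).toEquiv, inf_subgroupOf_left] at b
  rw [← b, mul_comm]
  exact Nat.mul_le_mul_right _ (index_WT ▸ a)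

theorem sq_MM {g : Equiv.Perm V} (h : g ∈ WT) : g * g ∈ MM := by
  have k : ∀ {a b}, a ∈ HB → b ∈ HB → (a ∈ MM ↔ b ∈ MM) → a * b ∈ MM := fun {a b} ha hb e =>
    (_root_.em (a ∈ MM)).elim (fun k => mul_mem k (e.1 k)) fun k => HB.mul ha hb k (mt e.2 k)
  have t := O_p1.tau_mem.1
  rcases HB_xor h O_p1 with ⟨a, -⟩ | ⟨a, -⟩
  · have := k a (HB_conj a t) ⟨fun e => MM_conj e t, fun e => by simpa [mul_assoc] using MM_conj e (inv_mem t)⟩
    rwa [tau_inv, mul_assoc (tau p1), mul_assoc g, mul_assoc g, tau_sq, mul_one, ← mul_assoc (tau p1), tau_sq,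
      one_mul] at this
  · exact k a a Iff.rfl

variable {Q : Subgroup G} {z x : G} {π : G → V} {ρ : G → Equiv.Perm V}

namespace F0
variable (h : F0 Q z x π ρ)
include h

/-- the action on `Q / ⟨z⟩` -/
def hom : C[z] →* Equiv.Perm V := MonoidHom.mk' (fun g => ρ g) fun a b => h.mul a a.2 b b.2

theorem hom_apply (g : C[z]) : h.hom g = ρ g := rfl
theorem QC {a : G} (ha : a ∈ Q) : a ∈ C[z] := h.le.es.le_cent ha
theorem zQ : z ∈ Q := h.le.es.zQ
theorem zz : z * z = 1 := h.le.es.zz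
theorem z1 : z ≠ 1 := h.le.es.z1
theorem one : ρ 1 = 1 := map_one h.hom
theorem inv {g : G} (hg : g ∈ C[z]) : ρ g⁻¹ = (ρ g)⁻¹ := map_inv h.hom ⟨g, hg⟩
theorem cj' {g a : G} (hg : g ∈ C[z]) (ha : a ∈ C[z]) : ρ (g * a * g⁻¹) = ρ g * ρ a * (ρ g)⁻¹ := by
  rw [h.mul _ (mul_mem hg ha) _ (inv_mem hg), h.mul _ hg _ ha, h.inv hg]
theorem cjQ {g a : G} (hg : g ∈ C[z]) (ha : a ∈ Q) : g * a * g⁻¹ ∈ Q := ((h.le.norm hg) a).1 ha
theorem pi_one : π 1 = 0 := (h.ker 1 (one_mem _)).2 (Or.inl rfl)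
theorem pi_z : π z = 0 := (h.ker z h.zQ).2 (Or.inr rfl)
theorem pi_inv {a : G} (ha : a ∈ Q) : π a⁻¹ = π a := by
  rw [← vadd_eq_zero, ← h.add _ (inv_mem ha) _ ha, inv_mul_cancel, h.pi_one]
theorem pi_mz {a : G} (ha : a ∈ Q) : π (a * z) = π a := by rw [h.add a ha z h.zQ, h.pi_z, add_zero]

theorem pi_eq {a b : G} (ha : a ∈ Q) (hb : b ∈ Q) : π a = π b ↔ a = b ∨ a = b * z := by
  rw [← vadd_eq_zero, add_comm, ← h.pi_inv hb, ← h.add _ (inv_mem hb) _ ha,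
    h.ker _ (mul_mem (inv_mem hb) ha), inv_mul_eq_iff_eq_mul, inv_mul_eq_iff_eq_mul, mul_one]

theorem rho_eq_one [Finite G] {g : G} (hg : g ∈ C[z]) : ρ g = 1 ↔ g ∈ Q := by
  refine ⟨fun k => h.le.mem_of_triv hg fun a ha => ?_, fun k => Equiv.ext fun v => ?_⟩
  · rw [h.le.es.mem_zp, commutatorElement_def, ← h.ker _ (mul_mem (h.cjQ hg ha) (inv_mem ha)),
      h.add _ (h.cjQ hg ha) _ (inv_mem ha), h.conj g hg a ha, k, h.pi_inv ha]
    exact vadd_self _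
  · obtain ⟨a, ha, rfl⟩ := h.surj v
    rw [← h.conj g (h.QC k) a ha, h.add _ (mul_mem k ha) _ (inv_mem k), h.add _ k _ ha, h.pi_inv k,
      add_comm (π g), vadd_cancel]; rfl

theorem ker_hom [Finite G] : h.hom.ker = Q.subgroupOf _ := ext fun g => h.rho_eq_one g.2

/-- the projection of `Q` -/
def pih : Q →* Multiplicative V := MonoidHom.mk' (fun a => .ofAdd (π a)) fun a b => h.add a a.2 b b.2

theorem card_sub {U : Subgroup G} (hz : z ∈ U) (hU : U ≤ Q) : Nat.card U = 2 * (π '' U).ncard := by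
  have := card_hom h.pih (U.subgroupOf Q)
  rw [Nat.card_congr (subgroupOfEquivOfLe hU).toEquiv, show U.subgroupOf Q ⊓ h.pih.ker =
    (zpowers z).subgroupOf Q from ext fun a => ⟨fun k => h.le.es.mem_zp.2 ((h.ker a a.2).1 k.2),
      fun k => ⟨zpowers_le.2 hz k, (h.ker a a.2).2 (h.le.es.mem_zp.1 k)⟩⟩,
    Nat.card_congr (subgroupOfEquivOfLe h.le.es.zp_le).toEquiv, h.le.es.card_zp, mul_comm] at this
  rw [this, ← Nat.card_coe_set_eq]
  exact congrArg _ (Nat.card_congr (Equiv.subtypeEquivRight (α := V) fun v =>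
    ⟨fun ⟨a, k, e⟩ => ⟨a, k, e⟩, fun ⟨a, k, e⟩ => ⟨⟨a, hU k⟩, k, e⟩⟩))

theorem card_Q : Nat.card Q = 8192 := by
  rw [h.card_sub h.zQ le_rfl, Set.eq_univ_of_forall (s := π '' Q) h.surj, Set.ncard_univ, card_V]

theorem move {m : Equiv.Perm V} (hm : m ∈ WL) : F0 Q z x (fun a => m (π a)) fun g => m * ρ g * m⁻¹ := by
  exact ⟨h.le, fun a ha b hb => by rw [h.add a ha b hb, WT.add hm.1],
    fun a ha => by rw [WT.eq_zero hm.1, h.ker a ha],
    fun v => let ⟨a, ha, e⟩ := h.surj (m⁻¹ v); ⟨a, ha, by simp [e]⟩,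
    fun a ha => by rw [WT.qf hm.1, h.sq a ha], fun a ha b hb => by rw [WT.bf hm.1, h.cm a ha b hb],
    fun a ha b hb => by rw [h.mul a ha b hb]; group, fun g hg a ha => by simp [h.conj g hg a ha],
    fun g hg => mul_mem (mul_mem hm.1 (h.mem g hg)) (inv_mem hm.1),
    fun a ha => let ⟨g, hg, e⟩ := h.onto _ (MM_conj ha (inv_mem hm.1)); ⟨g, hg, by rw [e]; group⟩,
    h.xm, h.x3, Equiv.ext fun v => by simp [h.rx, om_apply, WL.smul hm], h.u43⟩

theorem conj_of [Finite G] {a b c : G} (ha : a ∈ Q) (hb : b ∈ Q) (hc : c ∈ C[z]) (n : π b ≠ 0)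
    (e : ρ c (π a) = π b) : ∃ g ∈ C[z], ρ g = ρ c ∧ g * a * g⁻¹ = b := by
  rcases (h.pi_eq hb (h.cjQ hc ha)).1 (e.symm.trans (h.conj c hc a ha).symm) with k | k
  · exact ⟨c, hc, rfl, k.symm⟩
  · obtain ⟨y, hy, e⟩ := h.le.es.exists_conj (h.cjQ hc ha) fun k' => n (by
      rw [← e, ← h.conj c hc a ha, h.ker _ (h.cjQ hc ha), ← h.le.es.mem_zp]; exact k')
    exact ⟨y * c, mul_mem (h.QC hy) hc, by
      rw [h.mul _ (h.QC hy) _ hc, (h.rho_eq_one (h.QC hy)).2 hy, one_mul], by rw [k, ← e]; group⟩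

theorem sing {a : G} (ha : a ∈ Q) (h2 : a * a = 1) (h1 : a ≠ 1) (hz : a ≠ z) : O (π a) ∨ S (π a) :=
  or_iff_not_imp_left.2 fun n => ⟨fun e => ((h.ker a ha).1 e).elim h1 hz, (h.sq a ha).1 h2, n⟩

/-- the image of a subgroup -/
def im (K : Subgroup G) : Subgroup (Equiv.Perm V) := (K.subgroupOf C[z]).map h.hom

theorem mem_im {K : Subgroup G} {m : Equiv.Perm V} : m ∈ h.im K ↔ ∃ g ∈ K, g ∈ C[z] ∧ ρ g = m :=
  ⟨fun ⟨g, k, e⟩ => ⟨g, k, g.2, e⟩, fun ⟨g, k, c, e⟩ => ⟨⟨g, c⟩, k, e⟩⟩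

theorem card_im [Finite G] {K : Subgroup G} (hK : K ≤ C[z]) :
    Nat.card K = Nat.card (h.im K) * Nat.card ↥(K ⊓ Q) := by
  have := card_hom h.hom (K.subgroupOf _)
  rwa [Nat.card_congr (subgroupOfEquivOfLe hK).toEquiv, h.ker_hom, show K.subgroupOf C[z] ⊓ Q.subgroupOf _ =
    (K ⊓ Q).subgroupOf _ from rfl, Nat.card_congr (subgroupOfEquivOfLe (inf_le_left.trans hK)).toEquiv] at this

theorem card_ab [Finite G] {A : Subgroup G} (hz : z ∈ A) (hA : A ≤ Q) (c : A ≤ C(A)) : Nat.card A ≤ 128 := by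
  have a := h.le.es.card_cent hz hA
  have b := card_le_of_le (le_inf hA c)
  rw [h.card_Q] at a
  nlinarith

variable [Finite G] {Q' : Subgroup G} {s : G} (p : H0.LP Q z Q' s)
include p

theorem ne0 : π s ≠ 0 := fun e => ((h.ker s p.tQ).1 e).elim p.r.es.z1 p.ne

theorem card_P : Nat.card ↥(Q' ⊓ C[z]) = 4096 := by
  have a := p.r.es.card_cent (le_sup_left (b := zpowers z) (mem_zpowers s)) p.symm.V_le
  obtain ⟨g, -, rfl⟩ := p.conj
  rw [card_four p.r.es.zz h.zz p.comm.symm p.r.es.z1 h.z1 p.ne, card_cj, h.card_Q, cent_pair, ← inf_assoc,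
    inf_eq_left.2 p.r.es.le_cent] at a
  omega

theorem im_le : h.im Q' ≤ WT ⊓ st (π s) := fun m hm => by
  obtain ⟨g, hg, c, rfl⟩ := h.mem_im.1 hm
  refine ⟨h.mem g c, ?_⟩
  change ρ g (π s) = π s
  rw [← h.conj g c s p.tQ, p.r.es.cent g hg, mul_inv_cancel_right]

theorem lift {c : G} (hc : c ∈ C[z]) (e : ρ c (π s) = π s) : ∃ g ∈ C[z] ⊓ C[s], ρ g = ρ c :=
  let ⟨g, hg, e, k⟩ := h.conj_of p.tQ p.tQ hc (h.ne0 p) e
  ⟨g, ⟨hg, mem_cent1.2 (mul_inv_eq_iff_eq_mul.1 k)⟩, e⟩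

theorem im_norm : MM ⊓ st (π s) ≤ normalizer (h.im Q') := fun m hm => by
  obtain ⟨c, hc, rfl⟩ := h.onto m hm.1
  obtain ⟨g, hg, e⟩ := h.lift p hc hm.2
  rw [← e]
  exact le_normalizer_map h.hom (mem_map_of_mem _ (x := (⟨g, hg.1⟩ : C[z])) (le_normalizer_comap _ (p.r.norm hg.2)))

theorem im_pg : IsPGroup 2 (h.im Q') := (p.r.es.isPGroup.comap_subtype).map _

theorem card_imP : 4096 = Nat.card (h.im Q') * Nat.card ↥(Q ⊓ Q') ∧ Nat.card ↥(Q ⊓ Q') ≤ 128 := by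
  have := h.card_im (K := Q' ⊓ C[z]) inf_le_right
  rw [h.card_P p, im, inf_subgroupOf_right, inf_assoc, inf_eq_right.2 h.le.es.le_cent, inf_comm] at this
  exact ⟨this, h.card_ab ⟨h.zQ, p.zQ⟩ inf_le_left (le_centralizer_iff_isMulCommutative.2 p.abelem_E.1)⟩

theorem S_lp : S (π s) := by
  refine (h.sing p.tQ p.r.es.zz p.r.es.z1 p.ne).resolve_left fun o => ?_
  obtain ⟨m, hm, e⟩ := o.trans
  have h' := h.move (MM_le (inv_mem hm))
  have e' : m⁻¹ (π s) = p1 := by simp [← e]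
  have a := h'.im_le p
  have b := h'.im_norm p
  simp only [e'] at a b
  have c := bot_O b (h'.im_pg p)
  obtain ⟨c1, c2⟩ := h'.card_imP p
  have := card_le4 (a.trans inf_le_left)
  rw [← inf_assoc, inf_eq_left.2 (inf_le_left.trans (a.trans inf_le_right))] at c
  rw [c, card_bot] at this
  nlinarith

theorem out : ∃ g ∈ C[z], ρ g ∉ MM := by
  obtain ⟨m, hm, e⟩ := (h.S_lp p).trans
  have h' := h.move (MM_le (inv_mem hm))
  have e' : m⁻¹ (π s) = s0 := by simp [← e]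
  have a := h'.im_le p
  have b := h'.im_norm p
  simp only [e'] at a b
  have a := le_E0 a b (h'.im_pg p)
  obtain ⟨c1, c2⟩ := h'.card_imP p
  obtain ⟨-, -, c, -⟩ := exists_phi
  obtain ⟨g, -, hg, k⟩ := h'.mem_im.1 ((eq_of_le_of_card_ge a (by nlinarith)).ge (show rh 0 ∈ E0 by
    unfold E0; exact H16.mem_gen rh (by decide)))
  exact ⟨g, hg, fun n => rh0_not (k ▸ MM_conj n (MM_WT (inv_mem hm)))⟩

omit p

theorem S_of {a : G} (ha : a ∈ Q) (c : IsConj z a) (n : a ≠ z) : S (π a) := by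
  obtain ⟨g, rfl⟩ := isConj_iff.1 c
  exact h.S_lp (h.le.lp ha n)

theorem J (g : G) : F0 (H19.cj g Q) (g * z * g⁻¹) (g * x * g⁻¹) (fun a => π (g⁻¹ * a * g)) fun a => ρ (g⁻¹ * a * g) := by
  have c : ∀ {a}, a ∈ C[g * z * g⁻¹] ↔ g⁻¹ * a * g ∈ C[z] := by rw [← cj_cent1]; exact mem_cj
  have m : ∀ a b : G, g⁻¹ * (a * b) * g = g⁻¹ * a * g * (g⁻¹ * b * g) := fun a b => by group
  have i : ∀ {a b : G}, g⁻¹ * a * g = g⁻¹ * b * g ↔ a = b := by simp
  refine ⟨h.le.J g, fun a ha b hb => by rw [m, h.add _ (mem_cj.1 ha) _ (mem_cj.1 hb)], fun a ha => ?_,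
    fun v => let ⟨a, ha, e⟩ := h.surj v; ⟨g * a * g⁻¹, conj_mem_cj.2 ha, by simpa [mul_assoc] using e⟩,
    fun a ha => by rw [← h.sq _ (mem_cj.1 ha), ← m, ← i (b := 1)]; simp,
    fun a ha b hb => by rw [← h.cm _ (mem_cj.1 ha) _ (mem_cj.1 hb), ← m, ← m, i],
    fun a ha b hb => by rw [m, h.mul _ (c.1 ha) _ (c.1 hb)],
    fun a ha b hb => by rw [← h.conj _ (c.1 ha) _ (mem_cj.1 hb)]; congr 1; group,
    fun a ha => h.mem _ (c.1 ha), fun n hn => let ⟨a, ha, e⟩ := h.onto n hn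
      ⟨g * a * g⁻¹, c.2 (by simpa [mul_assoc] using ha), by simpa [mul_assoc] using e⟩,
    c.2 (by simpa [mul_assoc] using h.xm), by rw [conj_pow, h.x3]; simp, by simpa [mul_assoc] using h.rx, h.u43⟩
  rw [h.ker _ (mem_cj.1 ha), ← i (a := a) (b := 1), ← i (a := a) (b := g * z * g⁻¹)]; simp [mul_assoc]

end F0

end H9.Fv
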