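import Cfsg.Prelude.Def_QuasithinSetup

/-! # The wreath products `D₈ ≀ 2` and `S₄ ≀ 2` -/

set_option autoImplicit false
set_option maxRecDepth 100000
set_option linter.dupNamespace false

open Subgroup Equiv DihedralGroup Pointwise

namespace H9.Wr

/-- the wreath product with a group of order two -/
@[ext] structure Wr (H : Type) where
  a : H
  b : H
  s : Bool

instance {H : Type} [DecidableEq H] : DecidableEq (Wr H) := fun x y =>
  decidable_of_iff (x.a = y.a ∧ x.b = y.b ∧ x.s = y.s) Wr.ext_iff.symm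

variable {H H' : Type} [Group H] [Group H']

instance : Mul (Wr H) := ⟨fun x y => bif x.s then ⟨x.a * y.b, x.b * y.a, !y.s⟩ else ⟨x.a * y.a, x.b * y.b, y.s⟩⟩
instance : One (Wr H) := ⟨⟨1, 1, false⟩⟩
instance : Inv (Wr H) := ⟨fun x => bif x.s then ⟨x.b⁻¹, x.a⁻¹, true⟩ else ⟨x.a⁻¹, x.b⁻¹, false⟩⟩

theorem mul_f (a b : H) (y : Wr H) : (⟨a, b, false⟩ : Wr H) * y = ⟨a * y.a, b * y.b, y.s⟩ := rfl
theorem mul_t (a b : H) (y : Wr H) : (⟨a, b, true⟩ : Wr H) * y = ⟨a * y.b, b * y.a, !y.s⟩ := rfl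
theorem one_def : (1 : Wr H) = ⟨1, 1, false⟩ := rfl
theorem inv_f (a b : H) : (⟨a, b, false⟩ : Wr H)⁻¹ = ⟨a⁻¹, b⁻¹, false⟩ := rfl
theorem inv_t (a b : H) : (⟨a, b, true⟩ : Wr H)⁻¹ = ⟨b⁻¹, a⁻¹, true⟩ := rfl

instance : Group (Wr H) := Group.ofLeftAxioms
  (by rintro ⟨a, b, _ | _⟩ ⟨c, d, _ | _⟩ ⟨e, f, u⟩ <;> simp [mul_f, mul_t, mul_assoc])
  (fun x => by simp [one_def, mul_f])
  (by rintro ⟨a, b, _ | _⟩ <;> simp [inv_f, inv_t, mul_f, mul_t, one_def])

/-- as a product -/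
def eqv : Wr H ≃ H × H × Bool := ⟨fun x => (x.a, x.b, x.s), fun p => ⟨p.1, p.2.1, p.2.2⟩, fun _ => rfl, fun _ => rfl⟩
instance [Fintype H] : Fintype (Wr H) := Fintype.ofEquiv _ eqv.symm
omit [Group H] in
theorem card_Wr : Nat.card (Wr H) = Nat.card H * (Nat.card H * 2) := by simp [Nat.card_congr (eqv (H := H))]

/-- functoriality -/
def map (f : H →* H') : Wr H →* Wr H' := MonoidHom.mk' (fun x => ⟨f x.a, f x.b, x.s⟩) (by
  rintro ⟨a, b, _ | _⟩ y <;> simp [mul_f, mul_t])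
theorem map_inj {f : H →* H'} (h : Function.Injective f) : Function.Injective (map f) := fun _ _ e =>
  Wr.ext (h (congrArg Wr.a e)) (h (congrArg Wr.b e)) (congrArg Wr.s e :)
/-- the first factor -/
def inl : H →* Wr H := MonoidHom.mk' (fun x => ⟨x, 1, false⟩) fun _ _ => by simp [mul_f]
theorem inl_inj : Function.Injective (inl : H →* Wr H) := fun _ _ e => congrArg Wr.a e

abbrev D := DihedralGroup 4
abbrev W := Wr D
abbrev S4 := Perm (Fin 4)

/-- the dihedral group in the symmetric group -/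
def dl : D →* S4 := MonoidHom.mk' (fun x => match x with
  | r i => Equiv.addRight (show Fin 4 from i)
  | sr i => Equiv.subLeft (1 - show Fin 4 from i)) (by decide)
theorem dl_inj : Function.Injective dl := by decide

/-- the permutation representation -/
def toP : Wr S4 →* Perm (Fin 4 ⊕ Fin 4) := MonoidHom.mk'
  (fun x => Perm.sumCongr x.a x.b * bif x.s then sumComm _ _ else 1) (by
    rintro ⟨a, b, _ | _⟩ ⟨c, d, _ | _⟩ <;> ext (x | x) <;> simp [mul_f, mul_t])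

theorem toP_inj : Function.Injective toP := (injective_iff_map_eq_one _).2 (by
  rintro ⟨a, b, _ | _⟩ e
  · exact Wr.ext (Equiv.ext fun x => Sum.inl.inj (congrArg (· (.inl x)) e))
      (Equiv.ext fun x => Sum.inr.inj (congrArg (· (.inr x)) e)) rfl
  · exact absurd (congrArg (· (.inl 0)) e) Sum.inr_ne_inl)

theorem toP_range : toP.range = Cfsg.blockStabilizerS4wr2 := by
  have l : ∀ a b : S4, Perm.sumCongr a b • Set.range (Sum.inl : Fin 4 → Fin 4 ⊕ Fin 4) = Set.range Sum.inl ∧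
      Perm.sumCongr a b • Set.range (Sum.inr : Fin 4 → Fin 4 ⊕ Fin 4) = Set.range Sum.inr := fun a b => by
    simp only [Set.smul_set_range, Perm.smul_def, Perm.sumCongr_apply, Sum.map_inl, Sum.map_inr]
    exact ⟨a.surjective.range_comp Sum.inl, b.surjective.range_comp Sum.inr⟩
  have c : (sumComm _ _ : Perm (Fin 4 ⊕ Fin 4)) • Set.range (Sum.inl : Fin 4 → Fin 4 ⊕ Fin 4) = Set.range Sum.inr ∧
      (sumComm _ _ : Perm (Fin 4 ⊕ Fin 4)) • Set.range (Sum.inr : Fin 4 → Fin 4 ⊕ Fin 4) = Set.range Sum.inl := by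
    simp [Set.smul_set_range, Perm.smul_def]
  have k : ∀ g : Perm (Fin 4 ⊕ Fin 4), g • Set.range (Sum.inl : Fin 4 → Fin 4 ⊕ Fin 4) = Set.range Sum.inl →
      g ∈ toP.range := fun g e => by
    obtain ⟨⟨a, b⟩, rfl⟩ := Perm.mem_sumCongrHom_range_of_perm_mapsTo_inl (σ := g) fun x hx => e.le ⟨x, hx, rfl⟩
    exact ⟨⟨a, b, false⟩, mul_one _⟩
  refine le_antisymm ?_ fun g hg => ?_
  · rintro _ ⟨⟨a, b, _ | _⟩, rfl⟩ <;> refine MulAction.mem_stabilizer_iff.2 ?_ <;>
      simp [toP, Set.smul_set_insert, mul_smul, l, c, Set.pair_comm]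
  · rcases (MulAction.mem_stabilizer_iff.1 hg).le ⟨_, .inl rfl, rfl⟩ with e | e
    · exact k g e
    · have t : (sumComm _ _ : Perm (Fin 4 ⊕ Fin 4)) ∈ toP.range := ⟨⟨1, 1, true⟩, by simp [toP]⟩
      exact (mul_mem_cancel_left t).1 (k (sumComm _ _ * g) (by rw [mul_smul]; exact (congrArg _ e).trans c.2))

end H9.Wr
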