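import Cfsg.Agent.H9.Wr1

/-! # Finite checks in `D₈ ≀ 2` -/

set_option autoImplicit false
set_option maxRecDepth 100000
set_option linter.dupNamespace false

open Subgroup Equiv DihedralGroup

namespace H9.Wr

/-- five normal subgroups of `D₈`: the two four-groups, the centre, everything, nothing -/
def mb (i : Fin 5) (x : D) : Bool := match i, x with
  | 0, r a => a = 0 || a = 2
  | 0, sr a => a = 0 || a = 2
  | 1, r a => a = 0 || a = 2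
  | 1, sr a => a = 1 || a = 3
  | 2, x => x = 1 || x = r 2
  | 3, _ => true
  | 4, x => x = 1

theorem mb_mul : ∀ i x y, mb i x → mb i y → mb i (x * y) := by decide +kernel
theorem mb_one : ∀ i, mb i 1 := by decide +kernel
theorem mb_inv : ∀ i x, mb i x → mb i x⁻¹ := by decide +kernel
theorem mb_cj : ∀ i x t, mb i x → mb i (t * x * t⁻¹) := by decide +kernel

/-- product subgroups -/
def Q (i j : Fin 5) : Subgroup W where
  carrier := {w | w.s = false ∧ mb i w.a ∧ mb j w.b}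
  mul_mem' := by
    rintro ⟨a, b, _⟩ ⟨c, d, _⟩ ⟨rfl, h, k⟩ ⟨rfl, h', k'⟩
    exact ⟨rfl, mb_mul _ _ _ h h', mb_mul _ _ _ k k'⟩
  one_mem' := ⟨rfl, mb_one _, mb_one _⟩
  inv_mem' := by
    rintro ⟨a, b, _⟩ ⟨rfl, h, k⟩
    exact ⟨rfl, mb_inv _ _ h, mb_inv _ _ k⟩

instance (i j : Fin 5) : DecidablePred (· ∈ Q i j) := fun w =>
  inferInstanceAs (Decidable (w.s = false ∧ mb i w.a ∧ mb j w.b))

theorem Q_cj {i j : Fin 5} {t w : W} (ht : t ∈ Q 3 3) (hw : w ∈ Q i j) : t * w * t⁻¹ ∈ Q i j := by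
  obtain ⟨a, b, _⟩ := t; obtain ⟨c, d, _⟩ := w; obtain ⟨rfl, -⟩ := ht; obtain ⟨rfl, h, k⟩ := hw
  exact ⟨rfl, mb_cj _ _ _ h, mb_cj _ _ _ k⟩

theorem Q_cj' {i : Fin 5} (t : W) {w : W} (hw : w ∈ Q i i) : t * w * t⁻¹ ∈ Q i i := by
  obtain ⟨a, b, _ | _⟩ := t <;> obtain ⟨c, d, _⟩ := w <;> obtain ⟨rfl, h, k⟩ := hw
  · exact ⟨rfl, mb_cj _ _ _ h, mb_cj _ _ _ k⟩
  · exact ⟨rfl, mb_cj _ _ _ k, mb_cj _ _ _ h⟩

/-- an element of the base group -/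
abbrev el (a b : D) : W := ⟨a, b, false⟩
abbrev z1 : W := el (r 2) 1
abbrev z2 : W := el 1 (r 2)
abbrev zz : W := el (r 2) (r 2)
abbrev v1 : W := el (sr 0) 1
abbrev v2 : W := el 1 (sr 0)
abbrev u1 : W := el (sr 1) 1
abbrev u2 : W := el 1 (sr 1)
abbrev tau : W := ⟨1, 1, true⟩

theorem tau_el (a b : D) : tau * el a b * tau⁻¹ = el b a := by simp [mul_t, inv_t]

theorem Q_tau {i j : Fin 5} {w : W} (hw : w ∈ Q i j) : tau * w * tau⁻¹ ∈ Q j i := by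
  obtain ⟨c, d, _⟩ := w; obtain ⟨rfl, h, k⟩ := hw
  rw [tau_el]; exact ⟨rfl, k, h⟩

theorem card_of {Y : Subgroup W} (p : W → Prop) [DecidablePred p] (h : ∀ w, w ∈ Y ↔ p w) :
    Nat.card Y = (Finset.univ.filter p).card := Nat.subtype_card _ fun w => by simp [h]

/-- the index of the four-groups -/
def bi (b : Bool) : Fin 5 := bif b then 1 else 0
/-- the four elementary abelian subgroups of order 16 -/
def E (p : Bool × Bool) : Subgroup W := Q (bi p.1) (bi p.2)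
instance (p : Bool × Bool) : DecidablePred (· ∈ E p) := inferInstanceAs (DecidablePred (· ∈ Q _ _))
/-- the opposite -/
def bar (p : Bool × Bool) : Bool × Bool := (!p.1, !p.2)

theorem card_E (p : Bool × Bool) : Nat.card (E p) = 16 :=
  (card_of _ fun _ => Iff.rfl).trans (by revert p; decide +kernel)
theorem E_sq : ∀ p, ∀ w ∈ E p, w * w = 1 := by decide +kernel
theorem E_le (p : Bool × Bool) : E p ≤ Q 3 3 := fun _ h => ⟨h.1, rfl, rfl⟩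
theorem E_inj {p q : Bool × Bool} (h : E p ≤ E q) : p = q :=
  (by decide +kernel : ∀ p q : Bool × Bool, el (bif p.1 then sr 1 else sr 0) (bif p.2 then sr 1 else sr 0) ∈ E q → p = q)
    p q (h (by clear h; revert p; decide +kernel))

theorem e16 {Y : Subgroup W} (h : ∀ x ∈ Y, x * x = 1) (c : Nat.card Y = 16) : ∃ p, Y = E p := by
  by_cases hJ : ∀ x ∈ Y, x.s = false
  · have k : ∀ f : W → D, (∀ x ∈ Y, ∀ y ∈ Y, f (x * y) = f x * f y) → f 1 = 1 → ∃ b, ∀ x ∈ Y, mb (bi b) (f x) :=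
      fun f hf f1 => by
        by_contra! n
        obtain ⟨x, hx, nx⟩ := n false
        obtain ⟨y, hy, ny⟩ := n true
        have s : ∀ x ∈ Y, f x * f x = 1 := fun x hx => by rw [← hf x hx x hx, h x hx, f1]
        exact (by decide +kernel : ∀ a b : D, mb (bi false) a ≠ true → mb (bi true) b ≠ true → a * a = 1 → b * b = 1 →
          a * b * (a * b) ≠ 1) _ _ nx ny (s x hx) (s y hy) (hf x hx y hy ▸ s _ (mul_mem hx hy))
    obtain ⟨i, hi⟩ := k Wr.a (by rintro ⟨a, b, _⟩ hx y -; obtain rfl := hJ _ hx; rfl) rfl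
    obtain ⟨j, hj⟩ := k Wr.b (by rintro ⟨a, b, _⟩ hx y -; obtain rfl := hJ _ hx; rfl) rfl
    exact ⟨(i, j), eq_of_le_of_card_ge (fun x hx => ⟨hJ x hx, hi x hx, hj x hx⟩) (by rw [card_E, c])⟩
  · push Not at hJ
    obtain ⟨x, hx, s⟩ := hJ
    obtain ⟨n, y, hy, e⟩ := (by decide +kernel : ∀ x : W, x.s ≠ false → x * x = 1 →
      (Finset.univ.filter fun y => y * x = x * y).card = 16 ∧ ∃ y, y * x = x * y ∧ y * y ≠ 1) x s (h x hx)
    have : Y = centralizer {x} := eq_of_le_of_card_ge (fun y hy => mem_centralizer_singleton_iff.2 (by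
      rw [← inv_eq_of_mul_eq_one_right (h _ (mul_mem hy hx)), mul_inv_rev, inv_eq_of_mul_eq_one_right (h _ hx),
        inv_eq_of_mul_eq_one_right (h _ hy)])) (by rw [c, card_of _ fun _ => mem_centralizer_singleton_iff, n])
    exact absurd (h y (this ▸ mem_centralizer_singleton_iff.2 hy)) e

theorem pair1 : ∀ p q, (∀ w ∈ E p, w ∈ E q → el (r 1) (r 1) * w = w * el (r 1) (r 1)) → q = bar p := by decide +kernel
theorem pair2 {p : Bool × Bool} {w j : W} (h : w ∈ E p) (h' : w ∈ E (bar p)) (hj : j ∈ Q 3 3) : j * w = w * j := by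
  obtain ⟨a, b, _⟩ := j; obtain ⟨c, d, _⟩ := w; obtain ⟨rfl, -⟩ := hj; obtain ⟨rfl, h1, h2⟩ := h
  have k : ∀ (i : Bool) (a c : D), mb (bi i) c → mb (bi !i) c → a * c = c * a := by decide +kernel
  exact Wr.ext (k _ _ _ h1 h'.2.1) (k _ _ _ h2 h'.2.2) rfl
theorem J_le : Q 3 3 ≤ E (false, false) ⊔ E (true, true) := by
  rintro ⟨a, b, _⟩ ⟨rfl, -⟩
  have k : ∀ x : D, ∃ a b, mb 0 a ∧ mb 1 b ∧ x = a * b := by decide +kernel
  obtain ⟨a, c, h1, h2, rfl⟩ := k a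
  obtain ⟨b, d, h3, h4, rfl⟩ := k b
  exact mul_mem_sup (x := el a b) (y := el c d) ⟨rfl, h1, h3⟩ ⟨rfl, h2, h4⟩
theorem f4 : ∀ f : Bool × Bool → Bool × Bool, (∀ p q, f p = f q → p = q) → (∀ p, f (bar p) = bar (f p)) →
    f (f (f (f (false, false)))) = (false, false) := by decide +kernel
theorem pow8 : ∀ w : W, w ^ 8 = 1 := by decide +kernel

theorem nJ {m : Wr S4} (h1 : m * map dl u1 * m⁻¹ ∈ (map dl).range) (h2 : m * map dl u2 * m⁻¹ ∈ (map dl).range) :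
    m ∈ (map dl).range := by
  have k : ∀ a : S4, (∃ d, dl d = a * dl (sr 1) * a⁻¹) → ∃ d, dl d = a := by decide +kernel
  obtain ⟨x, h1⟩ := h1; obtain ⟨y, h2⟩ := h2
  obtain ⟨a, b, _ | _⟩ := m
  · obtain ⟨c, rfl⟩ := k a ⟨_, congrArg Wr.a h1⟩; obtain ⟨d, rfl⟩ := k b ⟨_, congrArg Wr.b h2⟩
    exact ⟨⟨c, d, false⟩, rfl⟩
  · obtain ⟨c, rfl⟩ := k a ⟨_, congrArg Wr.a h2⟩; obtain ⟨d, rfl⟩ := k b ⟨_, congrArg Wr.b h1⟩
    exact ⟨⟨c, d, true⟩, rfl⟩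

theorem nA (m : Wr S4) {w : W} (h : w ∈ Q 0 0) : ∃ w' ∈ Q 0 0, m * map dl w * m⁻¹ = map dl w' := by
  have k : ∀ (a : S4) x, mb 0 x → ∃ y, mb 0 y ∧ a * dl x * a⁻¹ = dl y := by decide +kernel
  obtain ⟨c, d, _⟩ := w; obtain ⟨rfl, h1, h2⟩ := h
  obtain ⟨a, b, _ | _⟩ := m
  · obtain ⟨x, hx, e⟩ := k a c h1; obtain ⟨y, hy, e'⟩ := k b d h2
    exact ⟨el x y, ⟨rfl, hx, hy⟩, Wr.ext e e' rfl⟩
  · obtain ⟨x, hx, e⟩ := k a d h2; obtain ⟨y, hy, e'⟩ := k b c h1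
    exact ⟨el x y, ⟨rfl, hx, hy⟩, Wr.ext e e' rfl⟩

theorem centE : ∀ w : W, z1 * w = w * z1 → v2 * w = w * v2 → w ∈ Q 3 0 := by decide +kernel
theorem centC : ∀ w ∈ Q 3 0, u1 * w = w * u1 → w ∈ Q 1 0 := by decide +kernel

theorem cos3 {x y w : W} (hx : x ∈ Q 3 0) (hy : y ∈ Q 3 0) (hw : w ∈ Q 3 0) (s1 : x * x = 1 ↔ y * y = 1)
    (s2 : y * y = 1 ↔ w * w = 1) (e1 : x ∈ Q 2 0 ↔ y ∈ Q 2 0) (e2 : y ∈ Q 2 0 ↔ w ∈ Q 2 0)
    (e : x⁻¹ * y ∈ Q 2 0 ↔ y⁻¹ * w ∈ Q 2 0) : x⁻¹ * w ∈ Q 2 0 := by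
  have k1 : ∀ x ∈ Q 3 0, (x * x = 1 ↔ x.a * x.a = 1) ∧ (x ∈ Q 2 0 ↔ mb 2 x.a) := by decide +kernel
  have k2 : ∀ x ∈ Q 3 0, ∀ y ∈ Q 3 0, (x⁻¹ * y ∈ Q 2 0 ↔ mb 2 (x.a⁻¹ * y.a)) := fun x hx y hy => by
    rw [(k1 _ (mul_mem (inv_mem hx) hy)).2]
    obtain ⟨a, b, _⟩ := x; obtain ⟨rfl, -⟩ := hx; rfl
  simp only [k1, k2, hx, hy, hw] at *
  exact (by decide +kernel : ∀ a b c : D, (a * a = 1 ↔ b * b = 1) → (b * b = 1 ↔ c * c = 1) → (mb 2 a ↔ mb 2 b) →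
    (mb 2 b ↔ mb 2 c) → (mb 2 (a⁻¹ * b) ↔ mb 2 (b⁻¹ * c)) → mb 2 (a⁻¹ * c)) _ _ _ s1 s2 e1 e2 e

end H9.Wr
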